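import Cfsg.Agent.Lib.Recognition.USixCentral.Lifts

/-!
# A central involution whose centraliser splits over an odd normal subgroup
-/

set_option autoImplicit false
set_option linter.unusedSectionVars false

namespace CfsgLib.Recognition.USixCentral

open CfsgLib.Recognition.USixTwo
open CfsgLib.Sporadic.LargeFischer (D4 om nzd)

variable {G : Type*} [Group G] [Finite G]

/-- The group is an odd normal subgroup times the centraliser of `z` in it. -/
def SplitAt (z : G) (X : Subgroup G) : Prop :=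
  ∃ O : Subgroup G, O ≤ X ∧ Odd (Nat.card O) ∧ (∀ x ∈ X, ∀ o ∈ O, x * o * x⁻¹ ∈ O) ∧
    ∀ x ∈ X, ∃ c, c * z = z * c ∧ ∃ o ∈ O, x = c * o

theorem eq_one_of_two_odd {x : G} (h2 : ∃ k : ℕ, x ^ 2 ^ k = 1) (hodd : Odd (orderOf x)) : x = 1 := by
  obtain ⟨k, hk⟩ := h2
  rw [← orderOf_eq_one_iff]
  have hd := orderOf_dvd_of_pow_eq_one hk
  have hc : Nat.Coprime (orderOf x) (2 ^ k) := Nat.Coprime.pow_right _ (Nat.coprime_two_right.2 hodd)
  exact Nat.eq_one_of_dvd_coprimes hc dvd_rfl hd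

theorem odd_order_of_mem {O : Subgroup G} (hO : Odd (Nat.card O)) {o : G} (ho : o ∈ O) : Odd (orderOf o) :=
  hO.of_dvd_nat (Subgroup.orderOf_dvd_natCard O ho)

namespace Setting

variable {z a : G} {J : Subgroup G} {π : G → V4} {ψ : ↥(Subgroup.centralizer ({z} : Set G)) →* (V4 ≃ₗ[ZMod 2] V4)}
  (h : Setting z a J π ψ)
include h

theorem J_le_cent_a : J ≤ Subgroup.centralizer ({a} : Set G) := fun j hj =>
  Subgroup.mem_centralizer_singleton_iff.2 (h.a_cent j hj)

theorem two_power_of_mem {j : G} (hj : j ∈ J) : ∃ k : ℕ, j ^ 2 ^ k = 1 := by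
  obtain ⟨k, hk⟩ := (IsPGroup.of_card (p := 2) (n := 10) (show Nat.card J = 2 ^ 10 by rw [h.card_J]; rfl)) ⟨j, hj⟩
  exact ⟨k, congrArg Subtype.val hk⟩

/-- A normalised odd subgroup meets the centraliser of `z` trivially. -/
theorem odd_cap {O : Subgroup G} (hO : Odd (Nat.card O)) (hn : ∀ j ∈ J, ∀ o ∈ O, j * o * j⁻¹ ∈ O) {o : G}
    (ho : o ∈ O) (hoz : o * z = z * o) : o = 1 := by
  refine eq_one_of_two_odd (h.two_power_of_mem (h.cent_le fun j hj => ?_)) (odd_order_of_mem hO ho)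
  have h1 : o * j * o⁻¹ * j⁻¹ ∈ O := by
    rw [show o * j * o⁻¹ * j⁻¹ = o * (j * o⁻¹ * j⁻¹) by group]
    exact mul_mem ho (hn j hj _ (inv_mem ho))
  have h2 := eq_one_of_two_odd (h.two_power_of_mem (mul_mem (h.norm o hoz j hj) (inv_mem hj))) (odd_order_of_mem hO h1)
  calc o * j = o * j * o⁻¹ * j⁻¹ * (j * o) := by group
    _ = _ := by rw [h2, one_mul]

/-- Conjugates of `z` inside such a group commuting with it are equal to it. -/
theorem split_isolated (hS : SplitAt z (Subgroup.centralizer ({a} : Set G))) {l : G} (hl : l * a = a * l)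
    (hc : l * z * l⁻¹ * z = z * (l * z * l⁻¹)) : l * z * l⁻¹ = z := by
  obtain ⟨O, hOX, hodd, hn, hdec⟩ := hS
  obtain ⟨c, hcz, o, ho, rfl⟩ := hdec l (Subgroup.mem_centralizer_singleton_iff.2 hl)
  have hzX : z ∈ Subgroup.centralizer ({a} : Set G) := Subgroup.mem_centralizer_singleton_iff.2 h.za.symm
  have hd : o * z * o⁻¹ * z⁻¹ ∈ O := by
    rw [show o * z * o⁻¹ * z⁻¹ = o * (z * o⁻¹ * z⁻¹) by group]
    exact mul_mem ho (hn z hzX _ (inv_mem ho))
  have e : c * o * z * (c * o)⁻¹ = c * (o * z * o⁻¹) * c⁻¹ := by group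
  rw [e] at hc ⊢
  have hc' : o * z * o⁻¹ * z = z * (o * z * o⁻¹) := by
    calc o * z * o⁻¹ * z = c⁻¹ * (c * (o * z * o⁻¹) * c⁻¹ * (c * z * c⁻¹)) * c := by group
      _ = c⁻¹ * (z * (c * (o * z * o⁻¹) * c⁻¹)) * c := by
        rw [show c * z * c⁻¹ = z by rw [hcz, mul_inv_cancel_right], hc]
      _ = c⁻¹ * z * c * (o * z * o⁻¹) := by group
      _ = _ := by rw [mul_assoc c⁻¹, ← hcz, inv_mul_cancel_left]
  have h1 := h.odd_cap hodd (fun j hj => hn j (h.J_le_cent_a hj)) hd (by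
    rw [inv_eq_of_mul_eq_one_right h.zz]
    conv_lhs => rw [hc']
    exact mul_assoc _ _ _)
  rw [mul_inv_eq_one] at h1
  rw [h1, hcz, mul_inv_cancel_right]

/-- What a conjugate of the configuration sees inside the centraliser of `z`. -/
theorem pullback (hS : SplitAt z (Subgroup.centralizer ({a} : Set G))) {g : G}
    (hy : g * z * g⁻¹ * z = z * (g * z * g⁻¹)) (hx : g * a * g⁻¹ * z = z * (g * a * g⁻¹)) :
    (∀ j ∈ J, j * (g * a * g⁻¹) = g * a * g⁻¹ * j → j * (g * z * g⁻¹) = g * z * g⁻¹ * j) ∧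
      ∀ c, c * z = z * c → c * (g * a * g⁻¹) = g * a * g⁻¹ * c →
        Odd (orderOf (c * (g * z * g⁻¹) * c⁻¹ * (g * z * g⁻¹))) ∧
          ∀ j ∈ J, j * (g * a * g⁻¹) = g * a * g⁻¹ * j →
            c * (g * z * g⁻¹) * c⁻¹ * (g * z * g⁻¹) * j = j * (c * (g * z * g⁻¹) * c⁻¹ * (g * z * g⁻¹)) := by
  obtain ⟨O, hOX, hodd, hn, hdec⟩ := hS
  set y := g * z * g⁻¹ with hydef
  set x := g * a * g⁻¹ with hxdef
  set w := g⁻¹ * z * g with hw
  have hw2 : w * w = 1 := by rw [hw, show g⁻¹ * z * g * (g⁻¹ * z * g) = g⁻¹ * (z * z) * g by group, h.zz]; group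
  have hwa : w * a = a * w := by
    calc w * a = g⁻¹ * (z * x) * g := by rw [hw, hxdef]; group
      _ = _ := by rw [← hx, hw, hxdef]; group
  have hwz : w * z = z * w := by
    calc w * z = g⁻¹ * (z * y) * g := by rw [hw, hydef]; group
      _ = _ := by rw [← hy, hw, hydef]; group
  have hwX : w ∈ Subgroup.centralizer ({a} : Set G) := Subgroup.mem_centralizer_singleton_iff.2 hwa
  have hyx : y * x = x * y := by
    calc y * x = g * (z * a) * g⁻¹ := by rw [hydef, hxdef]; group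
      _ = _ := by rw [← h.za, hydef, hxdef]; group
  have hzX : z ∈ Subgroup.centralizer ({a} : Set G) := Subgroup.mem_centralizer_singleton_iff.2 h.za.symm
  -- the image of an element commuting with `z` and `x`
  have key : ∀ c, c * z = z * c → c * x = x * c → g⁻¹ * (c * y * c⁻¹ * y) * g ∈ O := by
    intro c hcz hcx
    set c' := g⁻¹ * c * g with hc'
    have hca : c' * a = a * c' := by
      calc c' * a = g⁻¹ * (c * x) * g := by rw [hc', hxdef]; group
        _ = _ := by rw [hcx, hc', hxdef]; group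
    obtain ⟨d, hdz, o, ho, e⟩ := hdec c' (Subgroup.mem_centralizer_singleton_iff.2 hca)
    have hdX : d ∈ Subgroup.centralizer ({a} : Set G) := by
      rw [show d = c' * o⁻¹ by rw [e]; group]
      exact mul_mem (Subgroup.mem_centralizer_singleton_iff.2 hca) (inv_mem (hOX ho))
    have hoz : o * z * o⁻¹ * z ∈ O := by
      rw [show o * z * o⁻¹ * z = o * (z * o⁻¹ * z⁻¹) by
        rw [inv_eq_of_mul_eq_one_right h.zz]; group]
      exact mul_mem ho (hn z hzX _ (inv_mem ho))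
    rw [show g⁻¹ * (c * y * c⁻¹ * y) * g = c' * z * c'⁻¹ * z by rw [hc', hydef]; group, e,
      show d * o * z * (d * o)⁻¹ * z = d * (o * z * o⁻¹ * z) * (z⁻¹ * d⁻¹ * z) by group]
    rw [mul_assoc z⁻¹, show d⁻¹ * z = z * d⁻¹ by
      rw [eq_mul_inv_iff_mul_eq, mul_assoc, ← hdz, inv_mul_cancel_left], inv_mul_cancel_left]
    exact hn d hdX _ hoz
  refine ⟨fun j hj hjx => ?_, fun c hcz hcx => ⟨?_, fun j hj hjx => ?_⟩⟩
  · have hjz := h.z_cent j hj
    have hD := key j hjz hjx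
    have hmem : j * (y * j⁻¹ * y) ∈ J := mul_mem hj (by
      have := h.norm y hy j⁻¹ (inv_mem hj)
      rwa [show y⁻¹ = y from inv_eq_of_mul_eq_one_right (by
        rw [hydef, show g * z * g⁻¹ * (g * z * g⁻¹) = g * (z * z) * g⁻¹ by group, h.zz]; group)] at this)
    obtain ⟨k, hk⟩ := h.two_power_of_mem hmem
    have h1 := eq_one_of_two_odd (x := g⁻¹ * (j * y * j⁻¹ * y) * g) ⟨k, by
      have := (conj_pow (i := 2 ^ k) (a := g⁻¹) (b := j * y * j⁻¹ * y))
      rw [inv_inv] at this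
      rw [this, show j * y * j⁻¹ * y = j * (y * j⁻¹ * y) by group, hk]; group⟩ (odd_order_of_mem hodd hD)
    have h2 : j * y * j⁻¹ * y = 1 := by
      calc j * y * j⁻¹ * y = g * (g⁻¹ * (j * y * j⁻¹ * y) * g) * g⁻¹ := by group
        _ = 1 := by rw [h1]; group
    have hyy : y * y = 1 := by
      rw [hydef, show g * z * g⁻¹ * (g * z * g⁻¹) = g * (z * z) * g⁻¹ by group, h.zz]; group
    rw [mul_eq_one_iff_eq_inv, inv_eq_of_mul_eq_one_right hyy] at h2
    exact mul_inv_eq_iff_eq_mul.1 h2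
  · have := odd_order_of_mem hodd (key c hcz hcx)
    have e : orderOf (g⁻¹ * (c * y * c⁻¹ * y) * g) = orderOf (c * y * c⁻¹ * y) := by
      refine (SemiconjBy.orderOf_eq g⁻¹ ?_).symm
      rw [SemiconjBy]; group
    rwa [e] at this
  · set d := c * y * c⁻¹ * y with hd
    have hdz : d * z = z * d := by
      refine Subgroup.mem_centralizer_singleton_iff.1 (show d ∈ Subgroup.centralizer ({z} : Set G) from ?_)
      exact mul_mem (mul_mem (mul_mem (Subgroup.mem_centralizer_singleton_iff.2 hcz)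
        (Subgroup.mem_centralizer_singleton_iff.2 hy)) (inv_mem (Subgroup.mem_centralizer_singleton_iff.2 hcz)))
        (Subgroup.mem_centralizer_singleton_iff.2 hy)
    have hdx : d * x = x * d := by
      refine Subgroup.mem_centralizer_singleton_iff.1 (show d ∈ Subgroup.centralizer ({x} : Set G) from ?_)
      exact mul_mem (mul_mem (mul_mem (Subgroup.mem_centralizer_singleton_iff.2 hcx)
        (Subgroup.mem_centralizer_singleton_iff.2 hyx)) (inv_mem (Subgroup.mem_centralizer_singleton_iff.2 hcx)))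
        (Subgroup.mem_centralizer_singleton_iff.2 hyx)
    have hj' : j * d⁻¹ * j⁻¹ * d ∈ J := by
      rw [show j * d⁻¹ * j⁻¹ * d = j * (d⁻¹ * j⁻¹ * d⁻¹⁻¹) by group]
      exact mul_mem hj (h.norm _ (Subgroup.mem_centralizer_singleton_iff.1
        (inv_mem (Subgroup.mem_centralizer_singleton_iff.2 hdz))) _ (inv_mem hj))
    have hjO : g⁻¹ * (j * d⁻¹ * j⁻¹ * d) * g ∈ O := by
      have hmO := key c hcz hcx
      have hjX : g⁻¹ * j * g ∈ Subgroup.centralizer ({a} : Set G) := by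
        refine Subgroup.mem_centralizer_singleton_iff.2 ?_
        calc g⁻¹ * j * g * a = g⁻¹ * (j * x) * g := by rw [hxdef]; group
          _ = _ := by rw [hjx, hxdef]; group
      rw [show g⁻¹ * (j * d⁻¹ * j⁻¹ * d) * g =
        g⁻¹ * j * g * (g⁻¹ * d * g)⁻¹ * (g⁻¹ * j * g)⁻¹ * (g⁻¹ * d * g) by group]
      exact mul_mem (hn _ hjX _ (inv_mem hmO)) hmO
    obtain ⟨k, hk⟩ := h.two_power_of_mem hj'
    have h1 := eq_one_of_two_odd (x := g⁻¹ * (j * d⁻¹ * j⁻¹ * d) * g) ⟨k, by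
      have := (conj_pow (i := 2 ^ k) (a := g⁻¹) (b := j * d⁻¹ * j⁻¹ * d))
      rw [inv_inv] at this
      rw [this, hk]; group⟩ (odd_order_of_mem hodd hjO)
    have h' : j * d⁻¹ * j⁻¹ * d = 1 := by
      calc j * d⁻¹ * j⁻¹ * d = g * (g⁻¹ * (j * d⁻¹ * j⁻¹ * d) * g) * g⁻¹ := by group
        _ = 1 := by rw [h1]; group
    calc d * j = d * (j * d⁻¹ * j⁻¹ * d)⁻¹ * j := by rw [h', inv_one, mul_one]
      _ = j * d := by group

end Setting

end CfsgLib.Recognition.USixCentral
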