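import Cfsg.Agent.Lib.Recognition.USixCentral.Modulo
import Cfsg.Agent.Lib.Recognition.USixCentral.Pullback
import Cfsg.Agent.S0280
import Cfsg.Agent.S0283
import Cfsg.Agent.Lib.Recognition.USixTwoOuter.CoreAut
import Cfsg.Agent.Lib.Classical.SympMatrixSimple
import Cfsg.Agent.Lib.Coprime.SchurZassenhaus
import Cfsg.Agent.Lib.Solvable.Cores
import Cfsg.Agent.S3230
import Cfsg.Agent.S3231

/-!
# The theorems on `U₆(2)` applied to the centraliser of `a` modulo `a`, and to a normal subgroup avoiding `a`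

Both groups have an involution whose centraliser maps onto a group of automorphisms of `PSp₄(3)` containing the
inner ones, with extraspecial kernel.
-/

set_option autoImplicit false
set_option maxRecDepth 100000
set_option linter.unusedSectionVars false
set_option linter.style.haveILetI false

namespace CfsgLib.Recognition.USixCentral

open scoped commutatorElement

theorem apply_psu_card {K : Type*} [Field K] [Fintype K] (hK : Fintype.card K = 4) :
    Nat.card (Cfsg.PSU 6 K 2) = 9196830720 := by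
  have h := Cfsg.Agent.S0280.result (F := K) (q := 2) (by rw [hK]; norm_num) 6 (by norm_num)
  norm_num [Finset.prod_range_succ, Nat.even_iff] at h
  omega

theorem apply_psu_simple {K : Type*} [Field K] [Fintype K] (hK : Fintype.card K = 4) :
    IsSimpleGroup (Cfsg.PSU 6 K 2) :=
  Cfsg.Agent.S0283.result (F := K) (q := 2) (by rw [hK]; norm_num) 6 (by norm_num) (by norm_num)

variable {F : Type*} [Field F] [Fintype F]

/-- A subgroup of index at most two of the automorphism group contains the inner automorphisms. -/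
theorem inn_le_of_parity (hF : Fintype.card F = 3) {M : Subgroup (MulAut (Cfsg.PSp 2 F))}
    (hM : ∀ x y, x ∉ M → y ∉ M → x * y ∈ M) : Cfsg.Inn (Cfsg.PSp 2 F) ≤ M := by
  haveI := CfsgLib.Classical.psp_isSimpleGroup (F := F) 2 le_rfl (fun _ => hF.ge)
  set N := M.comap (MulAut.conj : Cfsg.PSp 2 F →* MulAut (Cfsg.PSp 2 F)) with hN
  suffices N = ⊤ by
    rintro _ ⟨s, rfl⟩
    exact (show s ∈ N from this ▸ Subgroup.mem_top s)
  by_contra hne
  obtain ⟨s, hs⟩ : ∃ s, s ∉ N := by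
    by_contra hc
    push Not at hc
    exact hne (eq_top_iff.2 fun s _ => hc s)
  have hs' : s⁻¹ ∉ N := fun h => hs (by simpa using inv_mem h)
  have h2 : N.index = 2 := Subgroup.index_eq_two_iff.2 ⟨s, fun x => by
    by_cases hx : x ∈ N
    · refine Or.inr ⟨hx, fun h => hs ?_⟩
      simpa using mul_mem (inv_mem hx) h
    · refine Or.inl ⟨?_, hx⟩
      show MulAut.conj (x * s) ∈ M
      rw [map_mul]
      exact hM _ _ hx hs⟩
  haveI : N.Normal := Subgroup.normal_of_index_eq_two h2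
  rcases Subgroup.Normal.eq_bot_or_eq_top (H := N) inferInstance with e | e
  · rw [e, Subgroup.index_bot, (CfsgLib.Recognition.USixTwoOuter.card_aut_psp_three hF).1] at h2
    omega
  · exact hne e

/-- A 2-group normalised by the inner automorphisms is trivial. -/
theorem two_group_bot (hF : Fintype.card F = 3) {N : Subgroup (MulAut (Cfsg.PSp 2 F))} (h2 : IsPGroup 2 N)
    (hn : ∀ s : Cfsg.PSp 2 F, ∀ n ∈ N, MulAut.conj s * n * (MulAut.conj s)⁻¹ ∈ N) : N = ⊥ := by
  haveI := CfsgLib.Classical.psp_isSimpleGroup (F := F) 2 le_rfl (fun _ => hF.ge)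
  have hinj := CfsgLib.KnownC.AutPSp.conj_injective_psp (F := F) (m := 2) (by norm_num)
  haveI : Fact (Nat.Prime 2) := ⟨Nat.prime_two⟩
  set M := N.comap (MulAut.conj : Cfsg.PSp 2 F →* MulAut (Cfsg.PSp 2 F)) with hM
  haveI : M.Normal := ⟨fun m hm s => by
    show MulAut.conj (s * m * s⁻¹) ∈ N
    rw [map_mul, map_mul, map_inv]
    exact hn s _ hm⟩
  have hbot : M = ⊥ := (Subgroup.Normal.eq_bot_or_eq_top (H := M) inferInstance).resolve_right fun e => by
    obtain ⟨n, hn'⟩ := IsPGroup.iff_card.1 (h2.comap_of_injective _ hinj)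
    change Nat.card M = _ at hn'
    rw [e, Subgroup.card_top, (CfsgLib.Recognition.USixTwoOuter.card_aut_psp_three hF).1] at hn'
    have h3 : (3 : ℕ) ∣ 2 ^ n := hn' ▸ by norm_num
    have h4 := (Nat.prime_dvd_prime_iff_eq (by norm_num) Nat.prime_two).1 (Nat.Prime.dvd_of_dvd_pow (by norm_num) h3)
    omega
  refine eq_bot_iff.2 fun n hnm => Subgroup.mem_bot.2 (MulEquiv.ext fun s => ?_)
  have h1 : MulAut.conj (n s * s⁻¹) = n * MulAut.conj s * n⁻¹ * (MulAut.conj s)⁻¹ := by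
    rw [map_mul, map_inv]
    congr 1
    exact MulEquiv.ext fun t => by simp
  have h3 : n s * s⁻¹ ∈ M := by
    show MulAut.conj (n s * s⁻¹) ∈ N
    rw [h1, show n * MulAut.conj s * n⁻¹ * (MulAut.conj s)⁻¹ = n * (MulAut.conj s * n⁻¹ * (MulAut.conj s)⁻¹) by group]
    exact mul_mem hnm (hn s _ (inv_mem hnm))
  rw [hbot, Subgroup.mem_bot, mul_inv_eq_one] at h3
  exact h3

/-- A group of automorphisms containing the inner ones is the group of those or everything. -/
theorem range_cases (hF : Fintype.card F = 3) {R : Subgroup (MulAut (Cfsg.PSp 2 F))}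
    (hR : Cfsg.Inn (Cfsg.PSp 2 F) ≤ R) : R = Cfsg.Inn (Cfsg.PSp 2 F) ∨ R = ⊤ := by
  obtain ⟨hS, hA⟩ := CfsgLib.Recognition.USixTwoOuter.card_aut_psp_three hF
  haveI : Finite (MulAut (Cfsg.PSp 2 F)) := Nat.finite_of_card_ne_zero (by rw [hA]; norm_num)
  have hI : Nat.card (Cfsg.Inn (Cfsg.PSp 2 F)) = 25920 := by
    rw [CfsgLib.KnownC.AutPSp.card_inn (by norm_num), hS]
  obtain ⟨u, hu⟩ := Subgroup.card_dvd_of_le hR
  obtain ⟨v, hv⟩ := R.card_subgroup_dvd_card
  rw [hI] at hu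
  rw [hA, hu, mul_assoc] at hv
  have huv : u * v = 2 := by omega
  rcases (Nat.dvd_prime Nat.prime_two).1 (Dvd.intro v huv) with rfl | rfl
  · exact Or.inl (Subgroup.eq_of_le_of_card_ge hR (by rw [hu, hI])).symm
  · exact Or.inr (Subgroup.eq_top_of_card_eq R (by rw [hu, hA]))

section Recognise

variable {X : Type*} [Group X] [Finite X] {z : X} (hF : Fintype.card F = 3)
  (W : Subgroup ↥(Subgroup.centralizer ({z} : Set X))) (φ : ↥(Subgroup.centralizer ({z} : Set X)) →* MulAut (Cfsg.PSp 2 F))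
  (hker : φ.ker = W) (hInn : Cfsg.Inn (Cfsg.PSp 2 F) ≤ φ.range) (h2 : IsPGroup 2 W)
include hF hker hInn h2

/-- The kernel is the two-core of the centraliser. -/
theorem pCore_eq_ker : Cfsg.pCore 2 ↥(Subgroup.centralizer ({z} : Set X)) = W := by
  haveI : Fact (Nat.Prime 2) := ⟨Nat.prime_two⟩
  refine le_antisymm ?_ (le_sSup ⟨hker ▸ φ.normal_ker, h2⟩)
  set P := Cfsg.pCore 2 ↥(Subgroup.centralizer ({z} : Set X))
  have hb : P.map φ = ⊥ := two_group_bot hF ((CfsgLib.Solvable.Cores.isPGroup_pCore (p := 2)).map φ) fun s n hn => by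
    obtain ⟨p, hp, rfl⟩ := hn
    obtain ⟨c, hc⟩ := hInn ⟨s, rfl⟩
    exact ⟨c * p * c⁻¹, (inferInstance : P.Normal).conj_mem _ hp c, by rw [map_mul, map_mul, map_inv, hc]⟩
  rw [← hker]
  intro p hp
  exact Subgroup.mem_bot.1 (hb ▸ Subgroup.mem_map_of_mem φ hp)

/-- The hypotheses of the theorems: the two-core, and the quotient by it. -/
theorem quotient_cases :
    (φ.range = Cfsg.Inn (Cfsg.PSp 2 F) ∧ Nonempty ((↥(Subgroup.centralizer ({z} : Set X)) ⧸
      Cfsg.pCore 2 ↥(Subgroup.centralizer ({z} : Set X))) ≃* Cfsg.PSp 2 F)) ∨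
    (φ.range = ⊤ ∧ Nonempty ((↥(Subgroup.centralizer ({z} : Set X)) ⧸
      Cfsg.pCore 2 ↥(Subgroup.centralizer ({z} : Set X))) ≃* MulAut (Cfsg.PSp 2 F))) := by
  have e := (QuotientGroup.quotientMulEquivOfEq ((pCore_eq_ker hF W φ hker hInn h2).trans hker.symm)).trans
    (QuotientGroup.quotientKerEquivRange φ)
  rcases range_cases hF hInn with hr | hr
  · exact Or.inl ⟨hr, ⟨e.trans ((MulEquiv.subgroupCongr hr).trans (MonoidHom.ofInjective
      (CfsgLib.KnownC.AutPSp.conj_injective_psp (F := F) (m := 2) (by norm_num))).symm)⟩⟩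
  · exact Or.inr ⟨hr, ⟨e.trans ((MulEquiv.subgroupCongr hr).trans Subgroup.topEquiv)⟩⟩

variable (hz : orderOf z = 2) (hE : Cfsg.IsExtraspecial 2 ↥W) (hc : Nat.card ↥W = 2 ^ 9)
  (hW : Subgroup.centralizer (W : Set ↥(Subgroup.centralizer ({z} : Set X))) ≤ W)
  {K : Type*} [Field K] [Fintype K] (hK : Fintype.card K = 4)
include hz hE hc hW hK

/-- The recognition. -/
theorem recognise : Subgroup.centralizer ({z} : Set X) ⊔ Cfsg.oddCore X = ⊤ ∨
    ∃ U : Subgroup X, U.index ≤ 2 ∧ (φ.range = Cfsg.Inn (Cfsg.PSp 2 F) → U = ⊤) ∧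
      Nonempty (↥U ≃* Cfsg.PSU 6 K 2) ∧ Subgroup.centralizer (U : Set X) = ⊥ := by
  have hP := pCore_eq_ker hF W φ hker hInn h2
  rcases quotient_cases hF W φ hker hInn h2 with ⟨hr, ⟨e⟩⟩ | ⟨hr, ⟨e⟩⟩
  · rcases Cfsg.Agent.S3230.result z hz hF hK (hP.symm ▸ hE) (hP.symm ▸ hc) (hP.symm ▸ hW) e with hf | hs
    · right
      obtain ⟨f⟩ := hf
      haveI := apply_psu_simple hK
      haveI := f.isSimpleGroup
      refine ⟨⊤, by rw [Subgroup.index_top]; omega, fun _ => rfl, ⟨Subgroup.topEquiv.trans f⟩, ?_⟩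
      rw [Subgroup.coe_top, Subgroup.centralizer_univ]
      refine (Subgroup.Normal.eq_bot_or_eq_top (H := Subgroup.center X) inferInstance).resolve_right fun e' => ?_
      obtain ⟨⟨j, hj⟩, ⟨k, hk⟩, hne⟩ : ∃ x y : ↥W, x * y ≠ y * x := by
        by_contra hcon
        push Not at hcon
        have htop : Subgroup.center ↥W = ⊤ := eq_top_iff.2 fun x _ => Subgroup.mem_center_iff.2 fun y => hcon y x
        have h' := hE.2
        rw [htop, Subgroup.card_top, hc] at h'
        omega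
      exact hne (Subtype.ext (Subtype.ext ((Subgroup.mem_center_iff.1 (e' ▸ Subgroup.mem_top (j : X)) (k : X)).symm)))
    · exact Or.inl hs
  · rcases Cfsg.Agent.S3231.result z hz hF hK (hP.symm ▸ hE) (hP.symm ▸ hc) (hP.symm ▸ hW) e with ⟨U, hi, hiso, hcU⟩ | hs
    · exact Or.inr ⟨U, hi.le, fun h' => absurd (hr.symm.trans h') (fun e' => by
        have h1 := congrArg (fun H : Subgroup (MulAut (Cfsg.PSp 2 F)) => Nat.card H) e'
        simp only [Subgroup.card_top, (CfsgLib.Recognition.USixTwoOuter.card_aut_psp_three hF).2,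
          CfsgLib.KnownC.AutPSp.card_inn (F := F) (m := 2) (by norm_num),
          (CfsgLib.Recognition.USixTwoOuter.card_aut_psp_three hF).1] at h1
        omega), hiso, hcU⟩
    · exact Or.inl hs

end Recognise

variable {G : Type*} [Group G] [Finite G]

/-- `J` has order `2¹⁰` and centre `{1, z, a, z * a}`, and is the kernel of the action on `PSp₄(3)`. -/
structure Twin (z a : G) (J : Subgroup G)
    (φ : ↥(Subgroup.centralizer ({z} : Set G)) →* MulAut (Cfsg.PSp 2 F)) : Prop where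
  ord_z : orderOf z = 2
  ord_a : orderOf a = 2
  ne : a ≠ z
  card_J : Nat.card J = 1024
  z_mem : z ∈ J
  a_mem : a ∈ J
  z_cent : ∀ j ∈ J, j * z = z * j
  a_cent : ∀ j ∈ J, j * a = a * j
  comm : ∀ j ∈ J, ∀ k ∈ J, j * k = k * j ∨ j * k = z * (k * j)
  centre : ∀ j ∈ J, (∀ k ∈ J, j * k = k * j) → j = 1 ∨ j = z ∨ j = a ∨ j = z * a
  cent_le : ∀ c : G, (∀ j ∈ J, c * j = j * c) → c ∈ J
  surj : Function.Surjective φ
  ker : ∀ c : ↥(Subgroup.centralizer ({z} : Set G)), φ c = 1 ↔ (c : G) ∈ J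

/-- A group of order `2⁹` with commutators in a group of order two which is its centre is extraspecial. -/
theorem extraspecial_nine {Y : Type*} [Group Y] [Finite Y] {W : Subgroup Y} {w : Y}
    (hc : Nat.card W = 512) (hw : w * w = 1) (hwm : w ∈ W) (hwc : ∀ x ∈ W, x * w = w * x)
    (hcomm : ∀ x ∈ W, ∀ y ∈ W, x * y = y * x ∨ x * y = w * (y * x))
    (hcen : ∀ x ∈ W, (∀ y ∈ W, x * y = y * x) → x = 1 ∨ x = w) : Cfsg.IsExtraspecial 2 ↥W := by
  haveI : Fact (Nat.Prime 2) := ⟨Nat.prime_two⟩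
  have hc2 : Nat.card (Subgroup.center ↥W) ≤ 2 := by
    refine le_trans ?_ ((Set.ncard_insert_le (1 : Y) {w}).trans (by rw [Set.ncard_singleton]))
    rw [← Nat.card_coe_set_eq]
    exact Nat.card_le_card_of_injective (fun x => (⟨((x : ↥W) : Y), hcen _ (x : ↥W).2 fun y hy =>
      (congrArg Subtype.val (Subgroup.mem_center_iff.1 x.2 ⟨y, hy⟩)).symm⟩ : ↥({1, w} : Set Y)))
      fun x y e => Subtype.ext (Subtype.ext (congrArg (fun t : ↥({1, w} : Set Y) => (t : Y)) e))
  refine CfsgLib.Solvable.RankTwoUnipotent.isExtraspecial_of_squares (IsPGroup.of_card (n := 9) (by rw [hc]; rfl))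
    hc2 (fun x => Subgroup.mem_center_iff.2 fun y => Subtype.ext ?_) ?_
  · show (y : Y) * ((x ^ 2 : ↥W) : Y) = ((x ^ 2 : ↥W) : Y) * y
    rw [SubmonoidClass.coe_pow, pow_two]
    rcases hcomm y y.2 x x.2 with e | e
    · rw [← mul_assoc, e, mul_assoc, e, mul_assoc]
    · calc (y : Y) * (x * x) = w * (x * y) * x := by rw [← mul_assoc, e]
        _ = w * x * (y * x) := by group
        _ = w * x * (w * (x * y)) := by rw [e]
        _ = w * (x * w) * (x * y) := by group
        _ = (x : Y) * x * y := by rw [hwc x x.2, ← mul_assoc w, hw, one_mul, mul_assoc]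
  · by_contra hcon
    push Not at hcon
    have htop : Subgroup.center ↥W = ⊤ := eq_top_iff.2 fun x _ => Subgroup.mem_center_iff.2 fun y => hcon y x
    rw [htop, Subgroup.card_top, hc] at hc2
    omega

namespace Twin

variable {z a : G} {J : Subgroup G} {φ : ↥(Subgroup.centralizer ({z} : Set G)) →* MulAut (Cfsg.PSp 2 F)}
  (t : Twin z a J φ)
include t

theorem zz : z * z = 1 := mul_self_of_order_two t.ord_z

theorem aa : a * a = 1 := mul_self_of_order_two t.ord_a

theorem za : a * z = z * a := t.z_cent a t.a_mem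

theorem za_ne_one : z * a ≠ 1 := fun e => t.ne (by
  rw [← one_mul a, ← t.zz, mul_assoc, e, mul_one])

theorem le_cent : J ≤ Subgroup.centralizer ({z} : Set G) := fun j hj => mem_cent_of (t.z_cent j hj)

theorem J_le_cent_a : J ≤ Subgroup.centralizer ({a} : Set G) := fun j hj => mem_cent_of (t.a_cent j hj)

theorem norm {c : G} (hc : c * z = z * c) {j : G} (hj : j ∈ J) : c * j * c⁻¹ ∈ J := by
  refine (t.ker (⟨c, mem_cent_of hc⟩ * ⟨j, t.le_cent hj⟩ * (⟨c, mem_cent_of hc⟩)⁻¹)).1 ?_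
  rw [map_mul, map_mul, map_inv, (t.ker ⟨j, t.le_cent hj⟩).2 hj, mul_one, mul_inv_cancel]

theorem norm' {c : G} (hc : c * z = z * c) {j : G} (hj : j ∈ J) : c⁻¹ * j * c ∈ J := by
  have := t.norm (c := c⁻¹) (by rw [inv_mul_eq_iff_eq_mul, ← mul_assoc, hc, mul_inv_cancel_right]) hj
  rwa [inv_inv] at this

/-- The centraliser permutes `a` and `z * a`. -/
theorem conj_a {c : G} (hc : c * z = z * c) : c * a * c⁻¹ = a ∨ c * a * c⁻¹ = z * a := by
  rcases t.centre _ (t.norm hc t.a_mem) (fun k hk => by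
    have h1 := t.a_cent _ (t.norm' hc hk)
    calc c * a * c⁻¹ * k = c * (a * (c⁻¹ * k * c)) * c⁻¹ := by group
      _ = k * (c * a * c⁻¹) := by rw [← h1]; group) with e | e | e | e
  · exact absurd (conj_eq_one_iff.1 e) (ne_one_of_order_two t.ord_a)
  · refine absurd ?_ t.ne
    calc a = c⁻¹ * (c * a * c⁻¹) * c := by group
      _ = c⁻¹ * (z * c) := by rw [e, mul_assoc]
      _ = z := by rw [← hc, inv_mul_cancel_left]
  · exact Or.inl e
  · exact Or.inr e

theorem swap_of_not_comm {c : G} (hc : c * z = z * c) (hn : c * a ≠ a * c) : c * a * c⁻¹ = z * a :=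
  (t.conj_a hc).resolve_left fun e => hn (mul_inv_eq_iff_eq_mul.1 e)

theorem mul_comm_a {c d : G} (hc : c * z = z * c) (hd : d * z = z * d) (nc : c * a ≠ a * c) (nd : d * a ≠ a * d) :
    c * d * a = a * (c * d) := by
  have e1 := t.swap_of_not_comm hd nd
  have e2 := t.swap_of_not_comm hc nc
  rw [← mul_inv_eq_iff_eq_mul, show c * d * a * (c * d)⁻¹ = c * (d * a * d⁻¹) * c⁻¹ by group, e1,
    show c * (z * a) * c⁻¹ = (c * z) * c⁻¹ * (c * a * c⁻¹) by group, hc, mul_inv_cancel_right, e2, ← mul_assoc,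
    t.zz, one_mul]

omit t in
/-- The centraliser of `z` and `a`. -/
def Fix (z a : G) : Subgroup ↥(Subgroup.centralizer ({z} : Set G)) :=
  (Subgroup.centralizer ({a} : Set G)).subgroupOf (Subgroup.centralizer ({z} : Set G))

omit t in
theorem mem_Fix {c : ↥(Subgroup.centralizer ({z} : Set G))} : c ∈ Fix z a ↔ (c : G) * a = a * c :=
  Subgroup.mem_subgroupOf.trans Subgroup.mem_centralizer_singleton_iff

theorem inn_le_Fix (hF : Fintype.card F = 3) : Cfsg.Inn (Cfsg.PSp 2 F) ≤ (Fix z a).map φ := by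
  refine inn_le_of_parity hF fun x y hx hy => ?_
  obtain ⟨c, rfl⟩ := t.surj x
  obtain ⟨d, rfl⟩ := t.surj y
  rw [← map_mul]
  refine Subgroup.mem_map_of_mem φ (mem_Fix.2 ?_)
  exact t.mul_comm_a (Subgroup.mem_centralizer_singleton_iff.1 c.2) (Subgroup.mem_centralizer_singleton_iff.1 d.2)
    (fun e => hx (Subgroup.mem_map_of_mem φ (mem_Fix.2 e))) (fun e => hy (Subgroup.mem_map_of_mem φ (mem_Fix.2 e)))

/-- The image of the centraliser of both is everything exactly when `a` is fixed. -/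
theorem Fix_map_top : (Fix z a).map φ = ⊤ ↔ ∀ c : G, c * z = z * c → c * a = a * c := by
  constructor
  · intro h c hc
    obtain ⟨d, hd, e⟩ : φ ⟨c, mem_cent_of hc⟩ ∈ (Fix z a).map φ := h ▸ Subgroup.mem_top _
    have hj : (d : G)⁻¹ * c ∈ J :=
      (t.ker (d⁻¹ * ⟨c, mem_cent_of hc⟩)).1 (by rw [map_mul, map_inv, e, inv_mul_cancel])
    exact Subgroup.mem_centralizer_singleton_iff.1
      (show c ∈ Subgroup.centralizer ({a} : Set G) by
        rw [show c = (d : G) * ((d : G)⁻¹ * c) by group]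
        exact mul_mem (mem_cent_of (mem_Fix.1 hd)) (t.J_le_cent_a hj))
  · refine fun h => eq_top_iff.2 fun x _ => ?_
    obtain ⟨c, rfl⟩ := t.surj x
    exact Subgroup.mem_map_of_mem φ (mem_Fix.2 (h c (Subgroup.mem_centralizer_singleton_iff.1 c.2)))

/-- A normalised set of elements squaring into `J` lies in `J`. -/
theorem le_J_of_square (hF : Fintype.card F = 3) {M S : Subgroup ↥(Subgroup.centralizer ({z} : Set G))}
    (hM : Cfsg.Inn (Cfsg.PSp 2 F) ≤ M.map φ) (hn : ∀ m ∈ M, ∀ s ∈ S, m * s * m⁻¹ ∈ S)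
    (hsq : ∀ s ∈ S, (s : G) * s ∈ J) : ∀ s ∈ S, (s : G) ∈ J := by
  have h2 : IsPGroup 2 (S.map φ) := by
    rintro ⟨_, s, hs, rfl⟩
    refine ⟨1, Subtype.ext ?_⟩
    show φ s ^ (2 ^ 1) = 1
    rw [pow_one, pow_two, ← map_mul, t.ker]
    exact hsq s hs
  have hb := two_group_bot hF h2 fun s n hn' => by
    obtain ⟨r, hr, rfl⟩ := hn'
    obtain ⟨m, hm, e⟩ := hM ⟨s, rfl⟩
    exact ⟨m * r * m⁻¹, hn m hm r hr, by rw [map_mul, map_mul, map_inv, e]⟩
  exact fun s hs => (t.ker s).1 (Subgroup.mem_bot.1 (hb ▸ Subgroup.mem_map_of_mem φ hs))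

theorem exists_noncomm : ∃ j ∈ J, ∃ k ∈ J, j * k = z * (k * j) := by
  by_contra hcon
  push Not at hcon
  have hab : ∀ j ∈ J, ∀ k ∈ J, j * k = k * j := fun j hj k hk =>
    (t.comm j hj k hk).resolve_right (hcon j hj k hk)
  have h1 : (J : Set G).ncard ≤ ({1, z, a, z * a} : Set G).ncard :=
    Set.ncard_le_ncard (fun j hj => t.centre j hj (hab j hj)) (Set.toFinite _)
  have h2 : ({1, z, a, z * a} : Set G).ncard ≤ 4 :=
    (Set.ncard_insert_le _ _).trans (Nat.succ_le_succ ((Set.ncard_insert_le _ _).trans (Nat.succ_le_succ ((Set.ncard_insert_le _ _).trans (by rw [Set.ncard_singleton])))))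
  rw [← Nat.card_coe_set_eq] at h1
  change Nat.card J ≤ _ at h1
  rw [t.card_J] at h1
  omega

/-- `z` is not conjugate to `z * a` under the centraliser of `a`. -/
theorem not_conj_za (hF : Fintype.card F = 3) {g : G} (hg : g * a = a * g) : g * z * g⁻¹ ≠ z * a := by
  intro e
  set D := Subgroup.centralizer ({z} : Set G) ⊓ Subgroup.centralizer ({a} : Set G) with hD
  have hDn : ∀ d : G, d * a = a * d → ((g * d * g⁻¹) * z = z * (g * d * g⁻¹) ↔ d * z = z * d) := by
    intro d hd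
    have hd' : g * d * g⁻¹ * a = a * (g * d * g⁻¹) := by
      calc g * d * g⁻¹ * a = g * (d * (g⁻¹ * (a * g))) * g⁻¹ := by group
        _ = g * (d * a) * g⁻¹ := by rw [← hg]; group
        _ = g * a * d * g⁻¹ := by rw [hd]; group
        _ = _ := by rw [hg]; group
    constructor
    · intro h1
      have h2 : g * d * g⁻¹ * (z * a) = z * a * (g * d * g⁻¹) := by rw [← mul_assoc, h1, mul_assoc, hd', ← mul_assoc]
      rw [← e] at h2
      calc d * z = g⁻¹ * (g * d * g⁻¹ * (g * z * g⁻¹)) * g := by group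
        _ = _ := by rw [h2]; group
    · intro h1
      have h2 : g * d * g⁻¹ * (z * a) = z * a * (g * d * g⁻¹) := by
        rw [← e]
        calc g * d * g⁻¹ * (g * z * g⁻¹) = g * (d * z) * g⁻¹ := by group
          _ = _ := by rw [h1]; group
      rw [← mul_assoc, mul_assoc z a, ← hd', ← mul_assoc] at h2
      exact mul_right_cancel h2
  have hga : ∀ x : G, x * a = a * x → g⁻¹ * x * g * a = a * (g⁻¹ * x * g) := fun x hx => by
    calc g⁻¹ * x * g * a = g⁻¹ * (x * a) * g := by rw [mul_assoc _ g a, hg]; group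
      _ = g⁻¹ * (a * g) * (g⁻¹ * x * g) := by rw [hx]; group
      _ = _ := by rw [← hg]; group
  let S : Subgroup ↥(Subgroup.centralizer ({z} : Set G)) :=
    (J.map (MulAut.conj g).toMonoidHom).subgroupOf (Subgroup.centralizer ({z} : Set G))
  haveI : Fact (Nat.Prime 2) := ⟨Nat.prime_two⟩
  have h2 : IsPGroup 2 (S.map φ) :=
    (((IsPGroup.of_card (p := 2) (n := 10) (by rw [t.card_J]; rfl)).map _).comap_of_injective _
      Subtype.val_injective).map _
  have hb : S.map φ = ⊥ := two_group_bot hF h2 fun s n hn => by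
    obtain ⟨r, hr, rfl⟩ := hn
    obtain ⟨m, hm, em⟩ := t.inn_le_Fix hF ⟨s, rfl⟩
    refine ⟨m * r * m⁻¹, ?_, by rw [map_mul, map_mul, map_inv, em]⟩
    obtain ⟨j, hj, ej⟩ := Subgroup.mem_subgroupOf.1 hr
    change g * j * g⁻¹ = (r : G) at ej
    have hm1 := hga _ (mem_Fix.1 hm)
    have hm2 : g⁻¹ * (m : G) * g * z = z * (g⁻¹ * (m : G) * g) := (hDn _ hm1).1 (by
      rw [show g * (g⁻¹ * (m : G) * g) * g⁻¹ = (m : G) by group]
      exact Subgroup.mem_centralizer_singleton_iff.1 m.2)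
    refine Subgroup.mem_subgroupOf.2 ⟨g⁻¹ * m * g * j * (g⁻¹ * m * g)⁻¹, t.norm hm2 hj, ?_⟩
    show g * _ * g⁻¹ = (m : G) * r * (m : G)⁻¹
    rw [← ej]; group
  have hJg : ∀ j ∈ J, g * j * g⁻¹ ∈ J := fun j hj => by
    have h1 : g * j * g⁻¹ ∈ Subgroup.centralizer ({z} : Set G) :=
      mem_cent_of ((hDn j (t.a_cent j hj)).2 (t.z_cent j hj))
    exact (t.ker ⟨_, h1⟩).1 (Subgroup.mem_bot.1 (hb ▸ Subgroup.mem_map_of_mem φ
      (show (⟨_, h1⟩ : ↥(Subgroup.centralizer ({z} : Set G))) ∈ S from Subgroup.mem_subgroupOf.2 ⟨j, hj, rfl⟩)))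
  obtain ⟨j, hj, k, hk, ejk⟩ := t.exists_noncomm
  have h1 : g * j * g⁻¹ * (g * k * g⁻¹) = z * a * (g * k * g⁻¹ * (g * j * g⁻¹)) := by
    rw [← e, show g * j * g⁻¹ * (g * k * g⁻¹) = g * (j * k) * g⁻¹ by group, ejk]; group
  rcases t.comm _ (hJg j hj) _ (hJg k hk) with c | c
  · rw [← c] at h1
    exact t.za_ne_one (mul_eq_right.1 h1.symm)
  · rw [c] at h1
    exact ne_one_of_order_two t.ord_a (mul_eq_left.1 (mul_right_cancel h1).symm)

section Quot

variable {Q : Type*} [Group Q] [Finite Q] {q : ↥(Subgroup.centralizer ({a} : Set G)) →* Q} (hq : Onto a q)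
include hq

omit hq in
/-- The image of `z`. -/
def zb (t : Twin z a J φ) (q : ↥(Subgroup.centralizer ({a} : Set G)) →* Q) : Q :=
  q ⟨z, mem_cent_of t.za.symm⟩

theorem ord_zb : orderOf (t.zb q) = 2 := by
  refine orderOf_eq_prime ?_ fun e => ?_
  · rw [pow_two, zb, ← map_mul, show (⟨z, mem_cent_of t.za.symm⟩ : ↥(Subgroup.centralizer ({a} : Set G))) *
      ⟨z, mem_cent_of t.za.symm⟩ = 1 from Subtype.ext t.zz, map_one]
  · rcases (hq.ker _).1 e with e' | e'
    · exact ne_one_of_order_two t.ord_z e'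
    · exact t.ne e'.symm

theorem comm_zb (hF : Fintype.card F = 3) {x : ↥(Subgroup.centralizer ({a} : Set G))}
    (hx : q x * t.zb q = t.zb q * q x) : (x : G) * z = z * x := by
  rw [zb, ← map_mul, ← map_mul, hq.eq_iff] at hx
  simp only [Subgroup.coe_mul] at hx
  rcases hx with e | e
  · exact e.symm
  · exfalso
    refine t.not_conj_za hF (g := (x : G)⁻¹) ?_ ?_
    · exact Subgroup.mem_centralizer_singleton_iff.1 (inv_mem x.2)
    · rw [inv_inv]
      calc (x : G)⁻¹ * z * x = (x : G)⁻¹ * (z * x) := mul_assoc _ _ _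
        _ = z * a := by rw [e, mul_assoc, inv_mul_cancel_left]

omit hq in
/-- The map of the centraliser of both onto the centraliser in the quotient. -/
def toCent (t : Twin z a J φ) (q : ↥(Subgroup.centralizer ({a} : Set G)) →* Q) :
    ↥(Fix z a) →* ↥(Subgroup.centralizer ({t.zb q} : Set Q)) :=
  (q.comp
    ({ toFun := fun c => ⟨((c : ↥(Subgroup.centralizer ({z} : Set G))) : G), mem_cent_of (mem_Fix.1 c.2)⟩
       map_one' := Subtype.ext rfl
       map_mul' := fun _ _ => Subtype.ext rfl } : ↥(Fix z a) →* ↥(Subgroup.centralizer ({a} : Set G)))).codRestrict _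
    fun c => Subgroup.mem_centralizer_singleton_iff.2 (by
      show q ⟨((c : ↥(Subgroup.centralizer ({z} : Set G))) : G), mem_cent_of (mem_Fix.1 c.2)⟩ * t.zb q = t.zb q * q _
      rw [zb, ← map_mul, ← map_mul]
      exact congrArg q (Subtype.ext (Subgroup.mem_centralizer_singleton_iff.1
        (c : ↥(Subgroup.centralizer ({z} : Set G))).2)))

omit hq in
theorem toCent_val (c : ↥(Fix z a)) : ((t.toCent q c : ↥(Subgroup.centralizer ({t.zb q} : Set Q))) : Q) =
    q ⟨((c : ↥(Subgroup.centralizer ({z} : Set G))) : G), mem_cent_of (mem_Fix.1 c.2)⟩ := rfl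

theorem toCent_surj (hF : Fintype.card F = 3) : Function.Surjective (t.toCent q) := fun v => by
  obtain ⟨x, hx⟩ := hq.surj (v : Q)
  have hv := Subgroup.mem_centralizer_singleton_iff.1 v.2
  rw [← hx] at hv
  refine ⟨⟨⟨(x : G), mem_cent_of (t.comm_zb hq hF hv)⟩, mem_Fix.2 (Subgroup.mem_centralizer_singleton_iff.1 x.2)⟩,
    Subtype.ext ?_⟩
  rw [toCent_val]
  exact (congrArg q (Subtype.ext rfl)).trans hx

theorem toCent_eq_one {c : ↥(Fix z a)} : t.toCent q c = 1 ↔
    ((c : ↥(Subgroup.centralizer ({z} : Set G))) : G) = 1 ∨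
      ((c : ↥(Subgroup.centralizer ({z} : Set G))) : G) = a := by
  rw [← Subtype.coe_inj, toCent_val, OneMemClass.coe_one, hq.ker]

theorem toCent_eq_iff {c d : ↥(Fix z a)} : t.toCent q c = t.toCent q d ↔
    ((d : ↥(Subgroup.centralizer ({z} : Set G))) : G) = (c : ↥(Subgroup.centralizer ({z} : Set G))) ∨
      ((d : ↥(Subgroup.centralizer ({z} : Set G))) : G) = ((c : ↥(Subgroup.centralizer ({z} : Set G))) : G) * a := by
  rw [← Subtype.coe_inj, toCent_val, toCent_val, hq.eq_iff]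

/-- The image of `J` and the induced action. -/
theorem quot_data (hF : Fintype.card F = 3) :
    ∃ (W : Subgroup ↥(Subgroup.centralizer ({t.zb q} : Set Q)))
      (ψ : ↥(Subgroup.centralizer ({t.zb q} : Set Q)) →* MulAut (Cfsg.PSp 2 F)),
      ψ.ker = W ∧ ψ.range = (Fix z a).map φ ∧ Cfsg.IsExtraspecial 2 ↥W ∧ Nat.card W = 2 ^ 9 ∧
        Subgroup.centralizer (W : Set ↥(Subgroup.centralizer ({t.zb q} : Set Q))) ≤ W := by
  set r := t.toCent q
  have hr : Function.Surjective r := t.toCent_surj hq hF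
  set φ' := φ.comp (Fix z a).subtype with hφ'
  have hle : r.ker ≤ φ'.ker := fun c hc => by
    refine (t.ker _).2 ?_
    show ((c : ↥(Subgroup.centralizer ({z} : Set G))) : G) ∈ J
    rcases (t.toCent_eq_one hq).1 (MonoidHom.mem_ker.1 hc) with e | e <;> rw [e]
    · exact one_mem _
    · exact t.a_mem
  set ψ := r.liftOfSurjective hr ⟨φ', hle⟩ with hψ
  have hψr : ∀ c, ψ (r c) = φ (c : ↥(Subgroup.centralizer ({z} : Set G))) :=
    fun c => MonoidHom.liftOfRightInverse_comp_apply _ _ _ _ c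
  let jf : ↥J → ↥(Fix z a) := fun j => ⟨⟨j, t.le_cent j.2⟩, mem_Fix.2 (t.a_cent j j.2)⟩
  have hmem : ∀ c, r c ∈ ψ.ker ↔ ((c : ↥(Subgroup.centralizer ({z} : Set G))) : G) ∈ J := fun c => by
    rw [MonoidHom.mem_ker, hψr, t.ker]
  have hex : ∀ x ∈ ψ.ker, ∃ j : ↥J, r (jf j) = x := fun x hx => by
    obtain ⟨c, rfl⟩ := hr x
    exact ⟨⟨_, (hmem c).1 hx⟩, rfl⟩
  have hjmul : ∀ j k : ↥J, r (jf j) * r (jf k) = r (jf (j * k)) := fun j k => (map_mul r _ _).symm
  have heq : ∀ j k : ↥J, r (jf j) = r (jf k) ↔ (k : G) = j ∨ (k : G) = j * a := fun j k => t.toCent_eq_iff hq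
  have haJ : ∀ j : ↥J, (j : G) * a ∈ J := fun j => mul_mem j.2 t.a_mem
  have hc512 : Nat.card ψ.ker = 512 := by
    let f : ↥J →* ↥ψ.ker :=
      { toFun := fun j => ⟨r (jf j), (hmem _).2 j.2⟩
        map_one' := Subtype.ext (map_one r)
        map_mul' := fun j k => Subtype.ext (hjmul j k).symm }
    have hf : Function.Surjective f := fun x => by
      obtain ⟨j, hj⟩ := hex x x.2
      exact ⟨j, Subtype.ext hj⟩
    have h1 := f.ker.card_mul_index
    have hk : Nat.card f.ker = 2 := by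
      have hs : ({1, a} : Set G).ncard = 2 := Set.ncard_pair (ne_one_of_order_two t.ord_a).symm
      refine Eq.trans ?_ hs
      rw [← Nat.card_coe_set_eq]
      refine Nat.card_congr ⟨fun x => ⟨((x : ↥J) : G),
          (t.toCent_eq_one hq (c := jf x)).1 (congrArg Subtype.val (MonoidHom.mem_ker.1 x.2))⟩,
        fun c => ⟨⟨c.1, ?_⟩, ?_⟩, fun x => rfl, fun c => rfl⟩
      · rcases c.2 with e | e <;> rw [show c.1 = _ from e]
        · exact one_mem _
        · exact t.a_mem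
      · exact Subtype.ext ((t.toCent_eq_one hq).2 c.2)
    rw [Subgroup.index_ker, MonoidHom.range_eq_top.2 hf, Subgroup.card_top, hk, t.card_J] at h1
    omega
  refine ⟨ψ.ker, ψ, rfl, ?_, ?_, ?_, ?_⟩
  · refine le_antisymm ?_ ?_
    · rintro _ ⟨x, rfl⟩
      obtain ⟨c, rfl⟩ := hr x
      exact ⟨c, c.2, (hψr c).symm⟩
    · rintro _ ⟨c, hc, rfl⟩
      exact ⟨r ⟨c, hc⟩, hψr ⟨c, hc⟩⟩
  · refine extraspecial_nine (w := r (jf ⟨z, t.z_mem⟩)) ?_ ?_ ((hmem _).2 t.z_mem) ?_ ?_ ?_
    · exact hc512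
    · rw [hjmul, show (⟨z, t.z_mem⟩ : ↥J) * ⟨z, t.z_mem⟩ = 1 from Subtype.ext t.zz]
      exact map_one r
    · intro x hx
      obtain ⟨j, rfl⟩ := hex x hx
      rw [hjmul, hjmul, heq]
      exact Or.inl (t.z_cent j j.2).symm
    · intro x hx y hy
      obtain ⟨j, rfl⟩ := hex x hx
      obtain ⟨k, rfl⟩ := hex y hy
      rcases t.comm j j.2 k k.2 with c | c
      · exact Or.inl (by rw [hjmul, hjmul, heq]; exact Or.inl c.symm)
      · exact Or.inr (by rw [hjmul, hjmul, hjmul, heq]; exact Or.inl c.symm)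
    · intro x hx hall
      obtain ⟨j, rfl⟩ := hex x hx
      rcases t.centre j j.2 (fun k hk => by
        have e := hall _ ((hmem (jf ⟨k, hk⟩)).2 hk)
        rw [hjmul, hjmul, heq] at e
        simp only [Subgroup.coe_mul] at e
        rcases t.comm j j.2 k hk with c | c
        · exact c
        · exfalso
          rcases e with e | e
          · rw [← e] at c
            exact ne_one_of_order_two t.ord_z (mul_eq_right.1 c.symm)
          · rw [c, mul_assoc z, t.a_cent _ (mul_mem hk j.2), ← mul_assoc] at e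
            exact t.za_ne_one (mul_eq_right.1 e.symm)) with e | e | e | e
      · exact Or.inl ((congrArg (fun i => r (jf i)) (show j = 1 from Subtype.ext e)).trans (map_one r))
      · exact Or.inr (congrArg (fun i => r (jf i)) (show j = ⟨z, t.z_mem⟩ from Subtype.ext e))
      · refine Or.inl ?_
        rw [← map_one r]
        exact (t.toCent_eq_iff hq).2 (Or.inr (by
          show (1 : G) = (j : G) * a
          rw [e, t.aa]))
      · refine Or.inr ((heq _ _).2 (Or.inr ?_))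
        show z = (j : G) * a
        rw [e, mul_assoc, t.aa, mul_one]
  · rw [hc512]; norm_num
  · intro x hx
    obtain ⟨c, rfl⟩ := hr x
    refine (hmem c).2 ?_
    let S : Subgroup ↥(Subgroup.centralizer ({z} : Set G)) :=
      ((Subgroup.centralizer (ψ.ker : Set ↥(Subgroup.centralizer ({t.zb q} : Set Q)))).comap r).map (Fix z a).subtype
    refine t.le_J_of_square hF (M := Fix z a) (S := S) (t.inn_le_Fix hF) ?_ ?_ c ⟨c, hx, rfl⟩
    · rintro m hm _ ⟨d, hd, rfl⟩
      refine ⟨⟨m, hm⟩ * d * ⟨m, hm⟩⁻¹, Subgroup.mem_comap.2 ?_, rfl⟩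
      rw [map_mul, map_mul, map_inv]
      have hd' : r d ∈ Subgroup.centralizer (ψ.ker : Set _) := hd
      refine Subgroup.mem_centralizer_iff.2 fun w hw => ?_
      have hw' : (r ⟨m, hm⟩)⁻¹ * w * r ⟨m, hm⟩ ∈ ψ.ker := ψ.normal_ker.conj_mem' _ hw _
      have h1 := Subgroup.mem_centralizer_iff.1 hd' _ hw'
      calc w * (r ⟨m, hm⟩ * r d * (r ⟨m, hm⟩)⁻¹)
          = r ⟨m, hm⟩ * ((r ⟨m, hm⟩)⁻¹ * w * r ⟨m, hm⟩ * r d) * (r ⟨m, hm⟩)⁻¹ := by group
        _ = _ := by rw [h1]; group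
    · rintro _ ⟨d, hd, rfl⟩
      set e := ((d : ↥(Subgroup.centralizer ({z} : Set G))) : G)
      have hez : e * z = z * e := Subgroup.mem_centralizer_singleton_iff.1 (d : ↥(Subgroup.centralizer ({z} : Set G))).2
      have hea : e * a = a * e := mem_Fix.1 d.2
      show e * e ∈ J
      refine t.cent_le _ fun j hj => ?_
      have h1 := Subgroup.mem_centralizer_iff.1 (Subgroup.mem_comap.1 hd) _ ((hmem (jf ⟨j, hj⟩)).2 hj)
      rw [← map_mul, ← map_mul, t.toCent_eq_iff hq] at h1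
      change e * j = j * e ∨ e * j = j * e * a at h1
      rcases h1 with h1 | h1
      · rw [mul_assoc, h1, ← mul_assoc, h1, mul_assoc]
      · calc e * e * j = e * (e * j) := mul_assoc _ _ _
          _ = e * (j * e * a) := by rw [h1]
          _ = e * j * (e * a) := by group
          _ = j * e * a * (e * a) := by rw [h1]
          _ = j * e * (a * e) * a := by group
          _ = j * (e * e) * (a * a) := by rw [← hea]; group
          _ = j * (e * e) := by rw [t.aa, mul_one]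

/-- The hypotheses of the theorems on `U₆(2)` for the quotient: the two-core of the centraliser of the image
of `z`, and the quotient by it. -/
theorem quot_hyps (hF : Fintype.card F = 3) :
    orderOf (t.zb q) = 2 ∧ Cfsg.IsExtraspecial 2 ↥(Cfsg.pCore 2 ↥(Subgroup.centralizer ({t.zb q} : Set Q))) ∧
      Nat.card ↥(Cfsg.pCore 2 ↥(Subgroup.centralizer ({t.zb q} : Set Q))) = 2 ^ 9 ∧
      Subgroup.centralizer ((Cfsg.pCore 2 ↥(Subgroup.centralizer ({t.zb q} : Set Q))) :
        Set ↥(Subgroup.centralizer ({t.zb q} : Set Q))) ≤ Cfsg.pCore 2 ↥(Subgroup.centralizer ({t.zb q} : Set Q)) ∧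
      ((∀ c : G, c * z = z * c → c * a = a * c) → Nonempty ((↥(Subgroup.centralizer ({t.zb q} : Set Q)) ⧸
        Cfsg.pCore 2 ↥(Subgroup.centralizer ({t.zb q} : Set Q))) ≃* MulAut (Cfsg.PSp 2 F))) ∧
      ((∃ s : G, s * z = z * s ∧ s * a ≠ a * s) → Nonempty ((↥(Subgroup.centralizer ({t.zb q} : Set Q)) ⧸
        Cfsg.pCore 2 ↥(Subgroup.centralizer ({t.zb q} : Set Q))) ≃* Cfsg.PSp 2 F)) := by
  obtain ⟨W, ψ, hk, hr, hE, hc, hW⟩ := t.quot_data hq hF
  have hInn : Cfsg.Inn (Cfsg.PSp 2 F) ≤ ψ.range := hr ▸ t.inn_le_Fix hF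
  have h2 : IsPGroup 2 W := IsPGroup.of_card hc
  have hP := pCore_eq_ker hF W ψ hk hInn h2
  refine ⟨t.ord_zb hq, hP.symm ▸ hE, hP.symm ▸ hc, hP.symm ▸ hW, fun hfix => ?_, fun hsw => ?_⟩
  · rcases quotient_cases hF W ψ hk hInn h2 with ⟨h1, -⟩ | ⟨-, h1⟩
    · exfalso
      have htop := (t.Fix_map_top).2 hfix
      rw [← hr, h1] at htop
      have h3 := congrArg (fun H : Subgroup (MulAut (Cfsg.PSp 2 F)) => Nat.card H) htop
      simp only [Subgroup.card_top, (CfsgLib.Recognition.USixTwoOuter.card_aut_psp_three hF).2,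
        CfsgLib.KnownC.AutPSp.card_inn (F := F) (m := 2) (by norm_num),
        (CfsgLib.Recognition.USixTwoOuter.card_aut_psp_three hF).1] at h3
      omega
    · exact h1
  · rcases quotient_cases hF W ψ hk hInn h2 with ⟨-, h1⟩ | ⟨h1, -⟩
    · exact h1
    · obtain ⟨s, hsz, hsa⟩ := hsw
      exact absurd ((t.Fix_map_top).1 (hr ▸ h1) s hsz) hsa

/-- A supplement of the odd core of the quotient splits the centraliser of `a`. -/
theorem split_of_supplement (hF : Fintype.card F = 3)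
    (hs : Subgroup.centralizer ({t.zb q} : Set Q) ⊔ Cfsg.oddCore Q = ⊤) :
    SplitAt z (Subgroup.centralizer ({a} : Set G)) := by
  haveI : Fact (Nat.Prime 2) := ⟨Nat.prime_two⟩
  haveI hOn : (Cfsg.oddCore Q).Normal := CfsgLib.Involution.ZStar.oddCore_normal
  set N := (Cfsg.oddCore Q).comap q with hN
  let A : Subgroup ↥N := (q.comp N.subtype).ker
  have hA : Nat.card A = 2 := by
    have hs : ({1, a} : Set G).ncard = 2 := Set.ncard_pair (ne_one_of_order_two t.ord_a).symm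
    refine Eq.trans ?_ hs
    rw [← Nat.card_coe_set_eq]
    refine Nat.card_congr ⟨fun x => ⟨(((x : ↥N) : ↥(Subgroup.centralizer ({a} : Set G))) : G), (hq.ker _).1 x.2⟩,
      fun c => ⟨⟨⟨c.1, ?_⟩, ?_⟩, ?_⟩, fun x => rfl, fun c => rfl⟩
    · rcases c.2 with e | e <;> rw [show c.1 = _ from e]
      · exact one_mem _
      · exact mem_cent_of rfl
    · exact Subgroup.mem_comap.2 (by rw [(hq.ker ⟨c.1, _⟩).2 c.2]; exact one_mem _)
    · refine (hq.ker ⟨c.1, ?_⟩).2 c.2
  have hAi : Odd A.index := by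
    rw [Subgroup.index_ker]
    refine CfsgLib.Involution.ZStar.odd_card_oddCore.of_dvd_nat (Subgroup.card_dvd_of_le ?_)
    rintro _ ⟨x, rfl⟩
    exact x.2
  obtain ⟨B, hB⟩ := Subgroup.exists_right_complement'_of_coprime (N := A)
    (by rw [hA]; exact Nat.coprime_two_left.2 hAi)
  have hBodd : Odd (Nat.card B) := by
    rw [← hB.symm.index_eq_card]; exact hAi
  have hdec : ∀ n : ↥N, ∃ u, (u = 1 ∨ u = a) ∧ ∃ b ∈ B,
      ((n : ↥(Subgroup.centralizer ({a} : Set G))) : G) = u * ((b : ↥(Subgroup.centralizer ({a} : Set G))) : G) := by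
    intro n
    obtain ⟨⟨u, b⟩, e⟩ := hB.2 n
    exact ⟨_, (hq.ker _).1 u.2, b, b.2, by rw [← e]; rfl⟩
  set O := (B.map N.subtype).map (Subgroup.centralizer ({a} : Set G)).subtype with hO
  have hOmem : ∀ b ∈ B, ((b : ↥(Subgroup.centralizer ({a} : Set G))) : G) ∈ O := fun b hb =>
    Subgroup.mem_map_of_mem _ (Subgroup.mem_map_of_mem _ hb)
  have hOX : O ≤ Subgroup.centralizer ({a} : Set G) := Subgroup.map_subtype_le _
  have hOodd : Odd (Nat.card O) := by
    rw [hO, Subgroup.card_map_of_injective (Subgroup.subtype_injective _),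
      Subgroup.card_map_of_injective (Subgroup.subtype_injective _)]
    exact hBodd
  refine ⟨O, hOX, hOodd, fun x hx o ho => ?_, fun x hx => ?_⟩
  · obtain ⟨_, ⟨b, hb, rfl⟩, rfl⟩ := ho
    have hm : (⟨x, hx⟩ : ↥(Subgroup.centralizer ({a} : Set G))) * b * ⟨x, hx⟩⁻¹ ∈ N :=
      (inferInstance : N.Normal).conj_mem _ b.2 _
    obtain ⟨u, hu, b', hb', e⟩ := hdec ⟨_, hm⟩
    change x * _ * x⁻¹ = _ at e
    show x * _ * x⁻¹ ∈ O
    set o := ((b : ↥(Subgroup.centralizer ({a} : Set G))) : G)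
    set o' := ((b' : ↥(Subgroup.centralizer ({a} : Set G))) : G)
    change x * o * x⁻¹ = u * o' at e
    change x * o * x⁻¹ ∈ O
    rcases hu with rfl | hua
    · rw [e, one_mul]
      exact hOmem b' hb'
    · exfalso
      rw [hua] at e
      have hc : Commute a o' := (Subgroup.mem_centralizer_singleton_iff.1 (hOX (hOmem b' hb'))).symm
      have h1 : orderOf (a * o') = orderOf o := by
        rw [← e]
        refine (SemiconjBy.orderOf_eq x ?_).symm
        rw [SemiconjBy]; group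
      have h2 : Odd (orderOf (a * o')) := h1 ▸ odd_order_of_mem hOodd (hOmem b hb)
      have h3 : orderOf (a * o') = orderOf a * orderOf o' :=
        hc.orderOf_mul_eq_mul_orderOf_of_coprime (by
          rw [t.ord_a]; exact Nat.coprime_two_left.2 (odd_order_of_mem hOodd (hOmem b' hb')))
      rw [h3, t.ord_a] at h2
      exact (Nat.not_even_iff_odd.2 h2) (Nat.even_mul.2 (Or.inl even_two))
  · have h1 : q ⟨x, hx⟩ ∈ (Subgroup.centralizer ({t.zb q} : Set Q) ⊔ Cfsg.oddCore Q : Subgroup Q) :=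
      hs ▸ Subgroup.mem_top _
    rw [← SetLike.mem_coe, Subgroup.mul_normal] at h1
    obtain ⟨v, hv, w, hw, e⟩ := Set.mem_mul.1 h1
    obtain ⟨y, rfl⟩ := hq.surj v
    have hy := t.comm_zb hq hF (Subgroup.mem_centralizer_singleton_iff.1 hv)
    have hn : y⁻¹ * ⟨x, hx⟩ ∈ N :=
      Subgroup.mem_comap.2 (by rw [map_mul, map_inv, ← e, inv_mul_cancel_left]; exact hw)
    obtain ⟨u, hu, b, hb, e'⟩ := hdec ⟨_, hn⟩
    change (y : G)⁻¹ * x = u * _ at e'
    refine ⟨(y : G) * u, ?_, _, hOmem b hb, by rw [mul_assoc, ← e']; group⟩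
    refine Subgroup.mem_centralizer_singleton_iff.1 (mul_mem (mem_cent_of hy) ?_)
    rcases hu with rfl | hua
    · exact one_mem _
    · rw [hua]; exact mem_cent_of t.za

variable {K : Type*} [Field K] [Fintype K] (hK : Fintype.card K = 4)
include hK

/-- The recognition of the quotient. -/
theorem quot_recognise (hF : Fintype.card F = 3) : SplitAt z (Subgroup.centralizer ({a} : Set G)) ∨
    ∃ U : Subgroup Q, U.index ≤ 2 ∧ ((∃ s : G, s * z = z * s ∧ s * a ≠ a * s) → U = ⊤) ∧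
      Nonempty (↥U ≃* Cfsg.PSU 6 K 2) ∧ Subgroup.centralizer (U : Set Q) = ⊥ := by
  obtain ⟨W, ψ, hk, hr, hE, hc, hW⟩ := t.quot_data hq hF
  have hInn : Cfsg.Inn (Cfsg.PSp 2 F) ≤ ψ.range := hr ▸ t.inn_le_Fix hF
  rcases recognise hF W ψ hk hInn (IsPGroup.of_card hc) (t.ord_zb hq) hE hc hW hK with hs | ⟨U, h1, h2, h3, h4⟩
  · exact Or.inl (t.split_of_supplement hq hF hs)
  · refine Or.inr ⟨U, h1, fun ⟨s, hsz, hsa⟩ => h2 ?_, h3, h4⟩
    rcases range_cases hF hInn with h5 | h5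
    · exact h5
    · exact absurd ((t.Fix_map_top).1 (hr ▸ h5) s hsz) hsa

end Quot

/-- The recognition of a normal subgroup avoiding `a`. -/
theorem avoiding_recognise (hF : Fintype.card F = 3) {G1 : Subgroup G} (hn : G1.Normal) (hz : z ∈ G1)
    (ha : a ∉ G1) (hJ : ∀ j ∈ J, j ∈ G1 ∨ j * a ∈ G1) (hbig : ∃ c ∈ G1, c * z = z * c ∧ c ∉ J)
    {K : Type*} [Field K] [Fintype K] (hK : Fintype.card K = 4) :
    SplitAt z G1 ∨ ∃ U : Subgroup G, U ≤ G1 ∧ (∀ x ∈ G1, ∀ y ∈ G1, x ∉ U → y ∉ U → x * y ∈ U) ∧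
      Nat.card U = 9196830720 := by
  haveI : Fact (Nat.Prime 2) := ⟨Nat.prime_two⟩
  haveI := hn
  set z1 : ↥G1 := ⟨z, hz⟩ with hz1
  have hzc : ∀ c : ↥(Subgroup.centralizer ({z1} : Set ↥G1)), ((c : ↥G1) : G) * z = z * ((c : ↥G1) : G) :=
    fun c => congrArg Subtype.val (Subgroup.mem_centralizer_singleton_iff.1 c.2)
  let i : ↥(Subgroup.centralizer ({z1} : Set ↥G1)) →* ↥(Subgroup.centralizer ({z} : Set G)) :=
    { toFun := fun c => ⟨((c : ↥G1) : G), mem_cent_of (hzc c)⟩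
      map_one' := rfl
      map_mul' := fun _ _ => rfl }
  set ψ := φ.comp i with hψ
  have hmem : ∀ c, c ∈ ψ.ker ↔ ((c : ↥G1) : G) ∈ J := fun c => t.ker (i c)
  have hlift : ∀ j ∈ J, j ∈ G1 → ∃ c ∈ ψ.ker, ((c : ↥G1) : G) = j := fun j hj hjG =>
    ⟨⟨⟨j, hjG⟩, mem_cent_of (Subtype.ext (t.z_cent j hj))⟩, (hmem _).2 hj, rfl⟩
  have hzaG : z * a ∉ G1 := fun e => ha (by
    have := mul_mem hz e
    rwa [← mul_assoc, t.zz, one_mul] at this)
  have hInn : Cfsg.Inn (Cfsg.PSp 2 F) ≤ ψ.range := by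
    haveI := CfsgLib.Classical.psp_isSimpleGroup (F := F) 2 le_rfl (fun _ => hF.ge)
    set M := ψ.range.comap (MulAut.conj : Cfsg.PSp 2 F →* MulAut (Cfsg.PSp 2 F)) with hM
    have hRn : ∀ c : ↥(Subgroup.centralizer ({z} : Set G)), ∀ r ∈ ψ.range, φ c * r * (φ c)⁻¹ ∈ ψ.range := by
      rintro c _ ⟨d, rfl⟩
      have hm : (c : G) * ((d : ↥G1) : G) * (c : G)⁻¹ ∈ G1 := hn.conj_mem _ (d : ↥G1).2 _
      refine ⟨⟨⟨_, hm⟩, mem_cent_of (Subtype.ext ?_)⟩, ?_⟩
      · exact Subgroup.mem_centralizer_singleton_iff.1 (mul_mem (mul_mem c.2 (i d).2) (inv_mem c.2))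
      · show φ _ = φ c * φ (i d) * (φ c)⁻¹
        rw [← map_inv, ← map_mul, ← map_mul]
        rfl
    haveI : M.Normal := ⟨fun m hm s => by
      show MulAut.conj (s * m * s⁻¹) ∈ ψ.range
      obtain ⟨c, hc⟩ := t.surj (MulAut.conj s)
      rw [map_mul, map_mul, map_inv, ← hc]
      exact hRn c _ hm⟩
    rcases Subgroup.Normal.eq_bot_or_eq_top (H := M) inferInstance with e | e
    · exfalso
      obtain ⟨c, hcG, hcz, hcJ⟩ := hbig
      refine hcJ ((t.ker ⟨c, mem_cent_of hcz⟩).1 ?_)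
      have hr : φ ⟨c, mem_cent_of hcz⟩ ∈ ψ.range := ⟨⟨⟨c, hcG⟩, mem_cent_of (Subtype.ext hcz)⟩, rfl⟩
      set n := φ ⟨c, mem_cent_of hcz⟩
      refine MulEquiv.ext fun s => ?_
      have h1 : MulAut.conj (n s * s⁻¹) = n * MulAut.conj s * n⁻¹ * (MulAut.conj s)⁻¹ := by
        rw [map_mul, map_inv]
        congr 1
        exact MulEquiv.ext fun u => by simp
      have h3 : n s * s⁻¹ ∈ M := by
        show MulAut.conj (n s * s⁻¹) ∈ ψ.range
        obtain ⟨d, hd⟩ := t.surj (MulAut.conj s)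
        rw [h1, show n * MulAut.conj s * n⁻¹ * (MulAut.conj s)⁻¹ = n * (MulAut.conj s * n⁻¹ * (MulAut.conj s)⁻¹) by group,
          ← hd]
        exact mul_mem hr (hRn d _ (inv_mem hr))
      rw [e, Subgroup.mem_bot, mul_inv_eq_one] at h3
      exact h3
    · rintro _ ⟨s, rfl⟩
      exact (show s ∈ M from e ▸ Subgroup.mem_top s)
  have hc : Nat.card ψ.ker = 512 := by
    let f : ↥ψ.ker → ↥(J ⊓ G1) := fun c => ⟨((c : ↥(Subgroup.centralizer ({z1} : Set ↥G1))) : ↥G1),
      (hmem _).1 c.2, ((c : ↥(Subgroup.centralizer ({z1} : Set ↥G1))) : ↥G1).2⟩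
    have hf : Function.Bijective f := by
      refine ⟨fun c d e => Subtype.ext (Subtype.ext (Subtype.ext (congrArg (fun w : ↥(J ⊓ G1) => (w : G)) e))), fun w => ?_⟩
      obtain ⟨c, hc, e⟩ := hlift w w.2.1 w.2.2
      exact ⟨⟨c, hc⟩, Subtype.ext e⟩
    rw [Nat.card_eq_of_bijective f hf]
    have hi : ((J ⊓ G1).subgroupOf J).index = 2 := by
      refine Subgroup.index_eq_two_iff.2 ⟨⟨a, t.a_mem⟩, fun j => ?_⟩
      simp only [Subgroup.mem_subgroupOf, Subgroup.mem_inf, Subgroup.coe_mul]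
      by_cases hj : (j : G) ∈ G1
      · refine Or.inr ⟨⟨j.2, hj⟩, fun h' => ha ?_⟩
        simpa using mul_mem (inv_mem hj) h'.2
      · exact Or.inl ⟨⟨mul_mem j.2 t.a_mem, (hJ j j.2).resolve_left hj⟩, fun h' => hj h'.2⟩
    have h1 := ((J ⊓ G1).subgroupOf J).card_mul_index
    rw [Nat.card_congr (Subgroup.subgroupOfEquivOfLe inf_le_left).toEquiv, hi, t.card_J] at h1
    omega
  have hcommJ : ∀ {c : G}, (∀ j ∈ J, j ∈ G1 → c * j = j * c) → c * a = a * c → ∀ j ∈ J, c * j = j * c := by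
    intro c h1 h2 j hj
    rcases hJ j hj with h' | h'
    · exact h1 j hj h'
    · have h3 := h1 _ (mul_mem hj t.a_mem) h'
      calc c * j = c * (j * a) * a := by rw [mul_assoc, mul_assoc j, t.aa, mul_one]
        _ = j * a * (c * a) := by rw [h3, mul_assoc]
        _ = j * (a * a) * c := by rw [h2]; group
        _ = j * c := by rw [t.aa, mul_one]
  have hE : Cfsg.IsExtraspecial 2 ↥ψ.ker := by
    refine extraspecial_nine (w := ⟨z1, mem_cent_of rfl⟩) hc (Subtype.ext (Subtype.ext t.zz)) ((hmem _).2 t.z_mem)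
      (fun x hx => Subtype.ext (Subtype.ext (t.z_cent _ ((hmem x).1 hx)))) (fun x hx y hy => ?_) (fun x hx hall => ?_)
    · exact (t.comm _ ((hmem x).1 hx) _ ((hmem y).1 hy)).imp (fun c => Subtype.ext (Subtype.ext c))
        (fun c => Subtype.ext (Subtype.ext c))
    · rcases t.centre _ ((hmem x).1 hx) (hcommJ (fun j hj hjG => by
        obtain ⟨c, hc', e⟩ := hlift j hj hjG
        rw [← e]
        exact congrArg (fun w : ↥(Subgroup.centralizer ({z1} : Set ↥G1)) => ((w : ↥G1) : G)) (hall c hc'))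
        (t.a_cent _ ((hmem x).1 hx))) with e | e | e | e
      · exact Or.inl (Subtype.ext (Subtype.ext e))
      · exact Or.inr (Subtype.ext (Subtype.ext e))
      · exact absurd (e ▸ (x : ↥G1).2) ha
      · exact absurd (e ▸ (x : ↥G1).2) hzaG
  have hW : Subgroup.centralizer (ψ.ker : Set ↥(Subgroup.centralizer ({z1} : Set ↥G1))) ≤ ψ.ker := by
    intro c hc'
    refine (hmem c).2 ?_
    refine t.le_J_of_square hF (M := i.range) (S := (Subgroup.centralizer (ψ.ker : Set _)).map i)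
      (by rw [MonoidHom.map_range]; exact hInn) ?_ ?_ (i c) ⟨c, hc', rfl⟩
    · rintro _ ⟨m, rfl⟩ _ ⟨d, hd, rfl⟩
      refine ⟨m * d * m⁻¹, Subgroup.mem_centralizer_iff.2 fun w hw => ?_, by rw [map_mul, map_mul, map_inv]⟩
      have hw' : m⁻¹ * w * m ∈ ψ.ker := ψ.normal_ker.conj_mem' _ hw _
      have h1 := Subgroup.mem_centralizer_iff.1 hd _ hw'
      calc w * (m * d * m⁻¹) = m * (m⁻¹ * w * m * d) * m⁻¹ := by group
        _ = _ := by rw [h1]; group
    · rintro _ ⟨d, hd, rfl⟩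
      set e := ((d : ↥G1) : G) with he
      have hez : e * z = z * e := hzc d
      show e * e ∈ J
      refine t.cent_le _ (hcommJ (fun j hj hjG => ?_) ?_)
      · obtain ⟨w, hw, ew⟩ := hlift j hj hjG
        have h1 : j * e = e * j := by
          rw [← ew]
          exact congrArg (fun v : ↥(Subgroup.centralizer ({z1} : Set ↥G1)) => ((v : ↥G1) : G))
            (Subgroup.mem_centralizer_iff.1 hd w hw)
        calc e * e * j = e * (j * e) := by rw [mul_assoc, ← h1]
          _ = j * (e * e) := by rw [← mul_assoc, ← h1, mul_assoc]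
      · by_cases hea : e * a = a * e
        · rw [mul_assoc, hea, ← mul_assoc, hea, mul_assoc]
        · exact t.mul_comm_a hez hez hea hea
  have hord : orderOf z1 = 2 := by rw [hz1, Subgroup.orderOf_mk]; exact t.ord_z
  rcases recognise hF ψ.ker ψ rfl hInn (IsPGroup.of_card (n := 9) (by rw [hc]; rfl)) hord hE
      (by rw [hc]; norm_num) hW hK with hs | ⟨U, hi, -, ⟨f⟩, -⟩
  · left
    haveI hOn : (Cfsg.oddCore ↥G1).Normal := CfsgLib.Involution.ZStar.oddCore_normal
    refine ⟨(Cfsg.oddCore ↥G1).map G1.subtype, Subgroup.map_subtype_le _, ?_, ?_, fun x hx => ?_⟩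
    · rw [Subgroup.card_map_of_injective G1.subtype_injective]
      exact CfsgLib.Involution.ZStar.odd_card_oddCore
    · rintro x hx _ ⟨o, ho, rfl⟩
      exact ⟨⟨x, hx⟩ * o * ⟨x, hx⟩⁻¹, hOn.conj_mem _ ho _, rfl⟩
    · have h1 : (⟨x, hx⟩ : ↥G1) ∈ (Subgroup.centralizer ({z1} : Set ↥G1) ⊔ Cfsg.oddCore ↥G1 : Subgroup ↥G1) :=
        hs ▸ Subgroup.mem_top _
      rw [← SetLike.mem_coe, Subgroup.mul_normal] at h1
      obtain ⟨c, hc', o, ho, e⟩ := Set.mem_mul.1 h1
      exact ⟨(c : G), hzc ⟨c, hc'⟩, (o : G), ⟨o, ho, rfl⟩, (congrArg Subtype.val e).symm⟩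
  · right
    refine ⟨U.map G1.subtype, Subgroup.map_subtype_le _, fun x hx y hy hxU hyU => ?_, ?_⟩
    · refine ⟨⟨x, hx⟩ * ⟨y, hy⟩, ?_, rfl⟩
      rcases Nat.lt_or_ge U.index 2 with hlt | hge
      · have h1 : U.index = 1 := by
          have := Subgroup.index_ne_zero_of_finite (H := U)
          omega
        rw [Subgroup.index_eq_one.1 h1]
        exact Subgroup.mem_top _
      · exact (Subgroup.mul_mem_iff_of_index_two (le_antisymm hi hge)).2
          (iff_of_false (fun h' => hxU ⟨_, h', rfl⟩) (fun h' => hyU ⟨_, h', rfl⟩))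
    · rw [Subgroup.card_map_of_injective G1.subtype_injective, Nat.card_congr f.toEquiv, apply_psu_card hK]

end Twin

/-- A quotient by `a`. -/
theorem exists_onto.{u} {G : Type u} [Group G] [Finite G] (a : G) (ha : orderOf a = 2) :
    ∃ (Q : Type u) (_ : Group Q) (_ : Finite Q) (q : ↥(Subgroup.centralizer ({a} : Set G)) →* Q), Onto a q := by
  set N := (Subgroup.zpowers a).subgroupOf (Subgroup.centralizer ({a} : Set G))
  haveI hN : N.Normal := ⟨fun x hx c => by
    obtain ⟨n, hn⟩ := Subgroup.mem_zpowers_iff.1 (Subgroup.mem_subgroupOf.1 hx)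
    refine Subgroup.mem_subgroupOf.2 (Subgroup.mem_zpowers_iff.2 ⟨n, ?_⟩)
    show a ^ n = (c : G) * x * (c : G)⁻¹
    rw [← hn, ((Commute.zpow_right (show Commute (c : G) a from Subgroup.mem_centralizer_singleton_iff.1 c.2) n)).eq,
      mul_inv_cancel_right]⟩
  refine ⟨_ ⧸ N, inferInstance, inferInstance, QuotientGroup.mk' N, QuotientGroup.mk'_surjective N, fun x => ?_⟩
  rw [QuotientGroup.mk'_apply, QuotientGroup.eq_one_iff, Subgroup.mem_subgroupOf, Subgroup.mem_zpowers_iff]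
  constructor
  · rintro ⟨n, hn⟩
    have h2 : a ^ (2 : ℤ) = 1 := by rw [zpow_two, mul_self_of_order_two ha]
    rcases Int.even_or_odd n with ⟨k, rfl⟩ | ⟨k, rfl⟩
    · rw [← two_mul, zpow_mul, h2, one_zpow] at hn
      exact Or.inl hn.symm
    · rw [zpow_add_one, zpow_mul, h2, one_zpow, one_mul] at hn
      exact Or.inr hn.symm
  · rintro (e | e)
    · exact ⟨0, by rw [zpow_zero, e]⟩
    · exact ⟨1, by rw [zpow_one, e]⟩

/-- The setting from the hypotheses of the theorem, for any central involution outside `⟨z⟩`. -/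
theorem twin_of_hyps (z : G) (hz : orderOf z = 2)
    (A E : Subgroup ↥(Subgroup.centralizer ({z} : Set G)))
    (hAE : Cfsg.IsInternalDirectProduct A E (Cfsg.pCore 2 ↥(Subgroup.centralizer ({z} : Set G))))
    (hA : Nat.card ↥A = 2) (hE : Cfsg.IsExtraspecial 2 ↥E) (hEc : Nat.card ↥E = 2 ^ 9)
    (zc : ↥(Subgroup.centralizer ({z} : Set G))) (hzc : (zc : G) = z)
    (hJ' : ⁅(Cfsg.pCore 2 ↥(Subgroup.centralizer ({z} : Set G))), (Cfsg.pCore 2 ↥(Subgroup.centralizer ({z} : Set G)))⁆ = Subgroup.zpowers zc)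
    (hCJ : Subgroup.centralizer ((Cfsg.pCore 2 ↥(Subgroup.centralizer ({z} : Set G))) : Set ↥(Subgroup.centralizer ({z} : Set G))) ≤ Cfsg.pCore 2 ↥(Subgroup.centralizer ({z} : Set G)))
    [(Cfsg.pCore 2 ↥(Subgroup.centralizer ({z} : Set G))).Normal]
    (e : (↥(Subgroup.centralizer ({z} : Set G)) ⧸ Cfsg.pCore 2 ↥(Subgroup.centralizer ({z} : Set G))) ≃* MulAut (Cfsg.PSp 2 F))
    {a : G} (ha : a ∈ CfsgLib.Recognition.USixTwoOuter.coreTwo z) (ha2 : orderOf a = 2)
    (hac : ∀ j ∈ CfsgLib.Recognition.USixTwoOuter.coreTwo z, j * a = a * j) (hne : a ≠ z) :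
    Twin z a (CfsgLib.Recognition.USixTwoOuter.coreTwo z)
      (e.toMonoidHom.comp (QuotientGroup.mk' (Cfsg.pCore 2 ↥(Subgroup.centralizer ({z} : Set G))))) := by
  set J := CfsgLib.Recognition.USixTwoOuter.coreTwo z with hJdef
  have hmemJ : ∀ c : ↥(Subgroup.centralizer ({z} : Set G)), (c : G) ∈ J ↔ c ∈ (Cfsg.pCore 2 ↥(Subgroup.centralizer ({z} : Set G))) := fun c => Subgroup.mem_map_iff_mem (Subgroup.centralizer ({z} : Set G)).subtype_injective
  have hlift : ∀ j ∈ J, ∃ c ∈ (Cfsg.pCore 2 ↥(Subgroup.centralizer ({z} : Set G))), (c : G) = j := fun j hj => hj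
  obtain ⟨hAP, hEP, hAEc, hdisj, hsup⟩ := hAE
  have hcard : Nat.card (Cfsg.pCore 2 ↥(Subgroup.centralizer ({z} : Set G))) = 1024 := by
    rw [← Nat.card_congr (Equiv.ofBijective (fun p : ↥A × ↥E => (⟨p.1 * p.2, mul_mem (hAP p.1.2) (hEP p.2.2)⟩ : ↥(Cfsg.pCore 2 ↥(Subgroup.centralizer ({z} : Set G)))))
      ⟨fun p p' h' => ?_, fun w => ?_⟩), Nat.card_prod, hA, hEc]
    · rfl
    · have h1 : (p.1 : ↥(Subgroup.centralizer ({z} : Set G))) * p.2 = p'.1 * p'.2 := congrArg Subtype.val h'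
      have h2 : (p'.1 : ↥(Subgroup.centralizer ({z} : Set G)))⁻¹ * p.1 ∈ A ⊓ E := ⟨A.mul_mem (A.inv_mem p'.1.2) p.1.2, by
        rw [show (p'.1 : ↥(Subgroup.centralizer ({z} : Set G)))⁻¹ * p.1 = p'.2 * (p.2 : ↥(Subgroup.centralizer ({z} : Set G)))⁻¹ by
          rw [inv_mul_eq_iff_eq_mul, eq_comm, ← mul_assoc, ← h1, mul_inv_cancel_right]]
        exact E.mul_mem p'.2.2 (E.inv_mem p.2.2)⟩
      rw [hdisj, Subgroup.mem_bot, inv_mul_eq_one] at h2
      rw [h2] at h1
      exact Prod.ext (Subtype.ext h2.symm) (Subtype.ext (mul_left_cancel h1))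
    · have h1 : (w : ↥(Subgroup.centralizer ({z} : Set G))) ∈ A ⊔ E := hsup.symm ▸ w.2
      have h2 : (A ⊔ E : Subgroup ↥(Subgroup.centralizer ({z} : Set G))) ≤ Subgroup.normalizer (E : Set ↥(Subgroup.centralizer ({z} : Set G))) := sup_le
        (fun x hx => Subgroup.mem_normalizer_fintype fun y hy => by
          rw [hAEc x hx y hy, mul_inv_cancel_right]; exact hy)
        Subgroup.le_normalizer
      have h3 := Subgroup.coe_mul_of_left_le_normalizer_right A E (le_sup_left.trans h2)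
      rw [← SetLike.mem_coe, h3] at h1
      obtain ⟨x, hx, y, hy, e'⟩ := Set.mem_mul.1 h1
      exact ⟨(⟨x, hx⟩, ⟨y, hy⟩), Subtype.ext e'⟩
  have hzP : zc ∈ (Cfsg.pCore 2 ↥(Subgroup.centralizer ({z} : Set G))) := hCJ fun p _ => Subtype.ext (by
    show (p : G) * zc = zc * p
    rw [hzc]; exact Subgroup.mem_centralizer_singleton_iff.1 p.2)
  have hzJ : z ∈ J := hzc ▸ (hmemJ zc).2 hzP
  have hzz : z * z = 1 := mul_self_of_order_two hz
  refine ⟨hz, ha2, hne, ?_, hzJ, ha, fun j hj => ?_, hac, fun j hj k hk => ?_, fun j hj hcen => ?_, fun c hc => ?_,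
    e.surjective.comp (QuotientGroup.mk'_surjective (Cfsg.pCore 2 ↥(Subgroup.centralizer ({z} : Set G)))), fun c => ?_⟩
  · rw [hJdef, CfsgLib.Recognition.USixTwoOuter.coreTwo, Subgroup.card_map_of_injective (Subgroup.centralizer ({z} : Set G)).subtype_injective]
    exact hcard
  · obtain ⟨c, -, rfl⟩ := hlift j hj
    exact Subgroup.mem_centralizer_singleton_iff.1 c.2
  · obtain ⟨x, hx, rfl⟩ := hlift j hj
    obtain ⟨y, hy, rfl⟩ := hlift k hk
    obtain ⟨n, hn⟩ := Subgroup.mem_zpowers_iff.1 (hJ' ▸ Subgroup.commutator_mem_commutator hx hy)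
    have h1 : z ^ n = (x : G) * y * (x : G)⁻¹ * (y : G)⁻¹ := by
      have h0 := congrArg Subtype.val hn
      simp only [SubgroupClass.coe_zpow, commutatorElement_def, Subgroup.coe_mul, Subgroup.coe_inv] at h0
      rw [hzc] at h0
      exact h0
    have h2 : z ^ (2 : ℤ) = 1 := by rw [zpow_two, hzz]
    rcases Int.even_or_odd n with ⟨i, rfl⟩ | ⟨i, rfl⟩
    · rw [← two_mul, zpow_mul, h2, one_zpow] at h1
      left
      calc (x : G) * y = (x : G) * y * (x : G)⁻¹ * (y : G)⁻¹ * (y * x) := by group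
        _ = _ := by rw [← h1, one_mul]
    · rw [zpow_add_one, zpow_mul, h2, one_zpow, one_mul] at h1
      right
      calc (x : G) * y = (x : G) * y * (x : G)⁻¹ * (y : G)⁻¹ * (y * x) := by group
        _ = _ := by rw [← h1]
  · let S : Set G := {w | w ∈ J ∧ ∀ k ∈ J, w * k = k * w}
    have hS : S.ncard ≤ 4 := by
      let g : ↥A × ↥(Subgroup.center ↥E) → G := fun p => ((p.1 : ↥(Subgroup.centralizer ({z} : Set G))) * ((p.2 : ↥E) : ↥(Subgroup.centralizer ({z} : Set G))) : ↥(Subgroup.centralizer ({z} : Set G)))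
      have hsub : S ⊆ Set.range g := by
        rintro w ⟨hw, hwc⟩
        obtain ⟨c, hc, rfl⟩ := hlift w hw
        have h1 : c ∈ A ⊔ E := hsup.symm ▸ hc
        have h2 : A ≤ Subgroup.normalizer (E : Set ↥(Subgroup.centralizer ({z} : Set G))) :=
          fun x hx => Subgroup.mem_normalizer_fintype fun y hy => by
            rw [hAEc x hx y hy, mul_inv_cancel_right]; exact hy
        rw [← SetLike.mem_coe, Subgroup.coe_mul_of_left_le_normalizer_right A E h2] at h1
        obtain ⟨x, hx, y, hy, rfl⟩ := Set.mem_mul.1 h1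
        refine ⟨(⟨x, hx⟩, ⟨⟨y, hy⟩, Subgroup.mem_center_iff.2 fun u => Subtype.ext (Subtype.ext ?_)⟩), rfl⟩
        have h3 := hwc _ ((hmemJ (u : ↥(Subgroup.centralizer ({z} : Set G)))).2 (hEP u.2))
        have hxu : (x : G) * (u : ↥(Subgroup.centralizer ({z} : Set G))) = (u : ↥(Subgroup.centralizer ({z} : Set G))) * x := congrArg Subtype.val (hAEc x hx u u.2)
        simp only [Subgroup.coe_mul] at h3 ⊢
        rw [← mul_assoc, ← hxu, mul_assoc, mul_assoc] at h3
        exact (mul_left_cancel h3).symm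
      calc S.ncard ≤ (Set.range g).ncard := Set.ncard_le_ncard hsub (Set.toFinite _)
        _ ≤ Nat.card (↥A × ↥(Subgroup.center ↥E)) := by
          rw [← Set.image_univ]
          exact (Set.ncard_image_le (Set.toFinite _)).trans (by rw [Set.ncard_univ])
        _ = 4 := by rw [Nat.card_prod, hA, hE.2]
    have hz' : ∀ k ∈ J, z * k = k * z := fun k hk => by
      obtain ⟨c, -, rfl⟩ := hlift k hk
      exact (Subgroup.mem_centralizer_singleton_iff.1 c.2).symm
    have hac' : ∀ k ∈ J, a * k = k * a := fun k hk => (hac k hk).symm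
    have hT : ({1, z, a, z * a} : Set G) ⊆ S := by
      intro w hw
      rcases hw with rfl | rfl | rfl | rfl
      · exact ⟨one_mem _, fun k _ => by rw [one_mul, mul_one]⟩
      · exact ⟨hzJ, hz'⟩
      · exact ⟨ha, hac'⟩
      · exact ⟨mul_mem hzJ ha, fun k hk => by rw [mul_assoc, hac' k hk, ← mul_assoc, hz' k hk, mul_assoc]⟩
    have hz1 := ne_one_of_order_two hz
    have ha1 := ne_one_of_order_two ha2
    have hza1 : z * a ≠ 1 := fun e' => hne (by rw [← one_mul a, ← hzz, mul_assoc, e', mul_one])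
    have hcard4 : ({1, z, a, z * a} : Set G).ncard = 4 := by
      rw [Set.ncard_insert_of_notMem, Set.ncard_insert_of_notMem, Set.ncard_pair]
      · exact fun e' => hz1 (mul_eq_right.1 e'.symm)
      · rintro (e' | e')
        · exact hne e'.symm
        · exact ha1 (mul_eq_left.1 (show z * a = z from (e' : z = z * a).symm))
      · rintro (e' | e' | e')
        · exact hz1 e'.symm
        · exact ha1 e'.symm
        · exact hza1 (e' : 1 = z * a).symm
    have hjS : j ∈ ({1, z, a, z * a} : Set G) := by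
      rw [Set.eq_of_subset_of_ncard_le hT (by omega) (Set.toFinite _)]
      exact ⟨hj, hcen⟩
    exact hjS
  · have hcC : c ∈ Subgroup.centralizer ({z} : Set G) := Subgroup.mem_centralizer_singleton_iff.2 (hc z hzJ)
    refine (hmemJ ⟨c, hcC⟩).2 (hCJ fun p hp => Subtype.ext ?_)
    exact (hc p ((hmemJ p).2 hp)).symm
  · rw [hmemJ]
    show e (QuotientGroup.mk' (Cfsg.pCore 2 ↥(Subgroup.centralizer ({z} : Set G))) c) = 1 ↔ _
    rw [e.map_eq_one_iff, QuotientGroup.mk'_apply, QuotientGroup.eq_one_iff]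

end CfsgLib.Recognition.USixCentral
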