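import Cfsg.Agent.Lib.Recognition.USixCentral.Outer
import Cfsg.Agent.Lib.Recognition.USixTwoOuter.Outer

/-!
# A group of semilinear isometries of order 51840, after a change of coordinates, contains the field automorphism
-/

set_option autoImplicit false
set_option linter.unusedSectionVars false

namespace CfsgLib.Recognition.USixCentral

open CfsgLib.Recognition.USixTwo
open CfsgLib.Recognition.USixTwoOuter (Model42 Anti omV_exists omV_cube)
open CfsgLib.Sporadic.LargeFischer (D4 om nzd)

local notation "GL8" => V4 ≃ₗ[ZMod 2] V4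

theorem sigma_omV (v : V4) : sigma (omV v) = omV (omV (sigma v)) := by
  have key : ∀ d : D4, cj (om d) = om (om (cj d)) := by decide
  funext i
  simp only [sigma_apply, omV, key]

theorem omV_q4 (v : V4) : q4 (omV v) = q4 v := by
  have key : ∀ d : D4, nzd (om d) = nzd d := by decide
  simp only [q4, omV, key]

/-- A scalar change of coordinates puts the field automorphism into the group. -/
theorem exists_scalar {R : Subgroup GL8} (h : Model42 R)
    (hc : ∀ g ∈ R, (∀ t ∈ R, t ∈ isoGroup → g * t = t * g) → g = 1) :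
    ∃ m : GL8, (∀ v, q4 (m v) = q4 v) ∧ Outer4 (R.map (MulAut.conj m).toMonoidHom) := by
  classical
  haveI := gl_finite
  have hL : Model4 (R ⊓ isoGroup) := ⟨inf_le_right, h.card_lin⟩
  have hLT := model_eq hL
  have hTGR : TG ≤ R := hLT ▸ inf_le_left
  have hcardTG : Nat.card TG = 25920 := hLT ▸ h.card_lin
  obtain ⟨w, hw⟩ := omV_exists
  have hw3 : w ^ 3 = 1 := LinearEquiv.ext fun v => by
    show w (w (w v)) = v
    rw [hw, hw, hw, omV_cube]
  have hwi : w ∈ isoGroup := ⟨fun v => by rw [hw, hw], fun v => by rw [hw, omV_q4]⟩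
  have hwc : ∀ t ∈ isoGroup, w * t = t * w := fun t ht => LinearEquiv.ext fun v => by
    show w (t v) = t (w v)
    rw [hw, hw, (show IsIso t from ht).lin]
  have hw1 : w ≠ 1 := fun e => by
    have h2 := congrArg (fun f : GL8 => f (fun _ => (1, 0)) 0) e
    simp only [hw] at h2
    exact absurd h2 (by decide)
  have hwT : w ∉ TG := fun hm => hw1 (hc w (hTGR hm) fun t _ ht => hwc t ht)
  set S := TG ⊔ Subgroup.zpowers w with hS
  have hSi : S ≤ isoGroup := sup_le TG_le (Subgroup.zpowers_le.2 hwi)
  have hSeq : S = isoGroup := by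
    refine Subgroup.eq_of_le_of_card_ge hSi (le_trans isoGroup_card ?_)
    obtain ⟨k, hk⟩ : Nat.card TG ∣ Nat.card S := Subgroup.card_dvd_of_le le_sup_left
    rw [hcardTG] at hk
    rcases k with _ | _ | _ | k
    · exact absurd hk (by have := Nat.card_pos (α := S); omega)
    · exfalso
      refine hwT ((Subgroup.eq_of_le_of_card_ge (le_sup_left : TG ≤ S) (le_of_eq (hk.trans (by simp [hcardTG])))).symm ▸ ?_)
      exact Subgroup.mem_sup_right (Subgroup.mem_zpowers w)
    · exfalso
      have hi : (TG.subgroupOf S).index = 2 := by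
        have h1 := (TG.subgroupOf S).card_mul_index
        rw [Nat.card_congr (Subgroup.subgroupOfEquivOfLe le_sup_left).toEquiv, hcardTG, hk] at h1
        omega
      set ws : ↥S := ⟨w, Subgroup.mem_sup_right (Subgroup.mem_zpowers w)⟩
      have h2 : ws * ws ∈ TG.subgroupOf S := (Subgroup.mul_mem_iff_of_index_two hi).2 Iff.rfl
      have h3 : w * w ∈ TG := h2
      refine hwT ?_
      have h4 := mul_mem h3 h3
      rwa [show w * w * (w * w) = w ^ 3 * w by rw [pow_three', mul_assoc (w * w) w w], hw3, one_mul] at h4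
    · omega
  obtain ⟨g, hg, hgi⟩ : ∃ g ∈ R, g ∉ isoGroup := by
    by_contra hcon
    push Not at hcon
    have := h.card_lin
    rw [inf_eq_left.2 hcon, h.card] at this
    omega
  have hanti : Anti g := (h.semi g hg).resolve_left fun e => hgi ⟨e, h.quad g hg⟩
  have hgs : g * sigma ∈ S := hSeq.symm ▸ (⟨fun v => by
    show g (sigma (omV v)) = omV (g (sigma v))
    rw [sigma_omV, hanti, hanti, omV_cube], fun v => by
    show q4 (g (sigma v)) = q4 v
    rw [h.quad g hg, sigma_q4]⟩ : g * sigma ∈ isoGroup)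
  have hwn : Subgroup.zpowers w ≤ Subgroup.centralizer (TG : Set GL8) :=
    Subgroup.zpowers_le.2 (Subgroup.mem_centralizer_iff.2 fun t ht => (hwc t (TG_le ht)).symm)
  have hnorm : Subgroup.zpowers w ≤ Subgroup.normalizer (TG : Set GL8) := fun p hp =>
    Subgroup.mem_normalizer_fintype fun t ht => by
      rw [← Subgroup.mem_centralizer_iff.1 (hwn hp) t ht, mul_inv_cancel_right]; exact ht
  rw [← SetLike.mem_coe, hS, sup_comm, Subgroup.coe_mul_of_left_le_normalizer_right _ _ hnorm] at hgs
  obtain ⟨m, hm, t, ht, e⟩ := Set.mem_mul.1 hgs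
  have hmc : ∀ u ∈ TG, m * u = u * m := fun u hu => (Subgroup.mem_centralizer_iff.1 (hwn hm) u hu).symm
  have hmi : m ∈ isoGroup := Subgroup.zpowers_le.2 hwi hm
  have hmsR : m * sigma ∈ R := by
    have : g = t * (m * sigma) := by
      rw [← mul_assoc, ← hmc t ht, e, mul_assoc, sigma_mul_self, mul_one]
    rw [show m * sigma = t⁻¹ * g by rw [this, inv_mul_cancel_left]]
    exact mul_mem (inv_mem (hTGR ht)) hg
  have hsig : ∀ p ∈ Subgroup.zpowers w, sigma * p = p⁻¹ * sigma := by
    intro p hp
    obtain ⟨n, rfl⟩ := Subgroup.mem_zpowers_iff.1 hp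
    have h1 : SemiconjBy sigma w w⁻¹ := by
      show sigma * w = w⁻¹ * sigma
      rw [show w⁻¹ = w * w from inv_eq_of_mul_eq_one_right (by rw [← hw3, pow_three', mul_assoc])]
      exact LinearEquiv.ext fun v => by
        show sigma (w v) = w (w (sigma v))
        rw [hw, hw, hw, sigma_omV]
    rw [← inv_zpow]
    exact (h1.zpow_right n).eq
  have hm3 : m ^ 3 = 1 := by
    obtain ⟨n, rfl⟩ := Subgroup.mem_zpowers_iff.1 hm
    rw [← zpow_natCast, ← zpow_mul, mul_comm, zpow_mul, zpow_natCast, hw3, one_zpow]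
  refine ⟨m, (show IsIso m from hmi).quad, ?_, ?_, ?_, ⟨TG_le, hcardTG⟩, ?_⟩
  · rintro _ ⟨r, hr, rfl⟩ v
    show q4 (m (r (m.symm v))) = q4 v
    rw [(show IsIso m from hmi).quad, h.quad r hr, ← (show IsIso m from hmi).quad (m.symm v), m.apply_symm_apply]
  · rw [Subgroup.card_map_of_injective (MulAut.conj m).injective, h.card]
  · refine ⟨m * sigma, hmsR, ?_⟩
    show m * (m * sigma) * m⁻¹ = sigma
    rw [show m * (m * sigma) * m⁻¹ = m * m * (sigma * m⁻¹) by group, hsig m⁻¹ (inv_mem hm), inv_inv,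
      ← mul_assoc, show m * m * m = 1 by rw [← hm3, pow_three'], one_mul]
  · intro u hu
    refine ⟨u, hTGR hu, ?_⟩
    show m * u * m⁻¹ = u
    rw [hmc u hu, mul_inv_cancel_right]

end CfsgLib.Recognition.USixCentral
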