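import Cfsg.Agent.Lib.Recognition.USixCentral.Pairs
import Cfsg.Agent.Lib.ThreeTransp.Extraspecial
import Cfsg.Agent.Lib.Solvable.RankTwoUnipotent.Setting

/-!
# The centraliser of `a` modulo `a`
-/

set_option autoImplicit false
set_option linter.unusedSectionVars false

namespace CfsgLib.Recognition.USixCentral

open CfsgLib.Recognition.USixTwo
open CfsgLib.Sporadic.LargeFischer (D4 om nzd)

variable {G : Type*} [Group G] [Finite G]

/-- A map of the centraliser of `a` onto a group with kernel generated by `a`. -/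
structure Onto (a : G) {Q : Type*} [Group Q] (q : ↥(Subgroup.centralizer ({a} : Set G)) →* Q) : Prop where
  surj : Function.Surjective q
  ker : ∀ x, q x = 1 ↔ (x : G) = 1 ∨ (x : G) = a

theorem mem_cent_of {a x : G} (h : x * a = a * x) : x ∈ Subgroup.centralizer ({a} : Set G) :=
  Subgroup.mem_centralizer_singleton_iff.2 h

theorem Onto.eq_iff {a : G} {Q : Type*} [Group Q] {q : ↥(Subgroup.centralizer ({a} : Set G)) →* Q} (hq : Onto a q)
    {x y : ↥(Subgroup.centralizer ({a} : Set G))} :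
    q x = q y ↔ (y : G) = x ∨ (y : G) = x * a := by
  rw [← inv_mul_eq_one, ← map_inv, ← map_mul, hq.ker]
  simp only [Subgroup.coe_mul, Subgroup.coe_inv, inv_mul_eq_one, inv_mul_eq_iff_eq_mul]
  exact or_congr (by rw [mul_one]) Iff.rfl

theorem ev0_ne : ev 0 ≠ 0 := by decide

namespace Setting

variable {z a : G} {J : Subgroup G} {π : G → V4} {ψ : ↥(Subgroup.centralizer ({z} : Set G)) →* (V4 ≃ₗ[ZMod 2] V4)}
  (h : Setting z a J π ψ)
include h

theorem z_mem_cent : z ∈ Subgroup.centralizer ({a} : Set G) := mem_cent_of h.za.symm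

/-- The image of `z`. -/
def zq {Q : Type*} [Group Q] (h : Setting z a J π ψ) (q : ↥(Subgroup.centralizer ({a} : Set G)) →* Q) : Q :=
  q ⟨z, h.z_mem_cent⟩

/-- The image of `J`. -/
def Jq {Q : Type*} [Group Q] (_h : Setting z a J π ψ) (q : ↥(Subgroup.centralizer ({a} : Set G)) →* Q) : Subgroup Q :=
  (J.subgroupOf (Subgroup.centralizer ({a} : Set G))).map q

variable {Q : Type*} [Group Q] {q : ↥(Subgroup.centralizer ({a} : Set G)) →* Q} (hq : Onto a q)
include hq

theorem zq_ne_one : h.zq q ≠ 1 := fun e => by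
  rcases (hq.ker _).1 e with e | e
  · exact ne_one_of_order_two h.ord_z e
  · exact h.ne e.symm

theorem zq_sq : h.zq q * h.zq q = 1 := by
  rw [zq, ← map_mul, show (⟨z, h.z_mem_cent⟩ : ↥(Subgroup.centralizer ({a} : Set G))) * ⟨z, h.z_mem_cent⟩ = 1 from
    Subtype.ext h.zz, map_one]

theorem ord_zq : orderOf (h.zq q) = 2 := orderOf_eq_prime (by rw [pow_two, h.zq_sq hq]) (h.zq_ne_one hq)

theorem mem_Jq {x : ↥(Subgroup.centralizer ({a} : Set G))} : q x ∈ h.Jq q ↔ (x : G) ∈ J := by
  constructor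
  · rintro ⟨y, hy, e⟩
    rcases hq.eq_iff.1 e with e' | e'
    · rw [e']; exact hy
    · rw [e']; exact mul_mem hy h.a_mem
  · exact fun hx => ⟨x, hx, rfl⟩

theorem exists_of_Jq {x : Q} (hx : x ∈ h.Jq q) :
    ∃ j, ∃ hj : j ∈ J, q ⟨j, h.J_le_cent_a hj⟩ = x := by
  obtain ⟨y, hy, rfl⟩ := hx
  exact ⟨y, hy, rfl⟩

theorem zq_mem : h.zq q ∈ h.Jq q := (h.mem_Jq hq).2 h.z_mem

/-- Commuting with `z` modulo `a` is commuting with it. -/
theorem comm_of_comm_q {x : ↥(Subgroup.centralizer ({a} : Set G))} (hx : q x * h.zq q = h.zq q * q x) :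
    (x : G) * z = z * x := by
  rw [zq, ← map_mul, ← map_mul, hq.eq_iff] at hx
  simp only [Subgroup.coe_mul] at hx
  rcases hx with e | e
  · exact e.symm
  · exfalso
    apply h.not_conj_za ((x : G)⁻¹)
    rw [inv_inv]
    calc (x : G)⁻¹ * z * x = (x : G)⁻¹ * (z * x) := mul_assoc _ _ _
      _ = z * a := by rw [e, mul_assoc, inv_mul_cancel_left]

theorem card_Jq : Nat.card (h.Jq q) = 512 := by
  classical
  set f : ↥(J.subgroupOf (Subgroup.centralizer ({a} : Set G))) →* Q := q.comp (Subgroup.subtype _) with hf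
  have h1 := f.ker.card_mul_index
  have hk : Nat.card f.ker = 2 := by
    have hs : ({1, a} : Set G).ncard = 2 := Set.ncard_pair (ne_one_of_order_two h.ord_a).symm
    refine Eq.trans ?_ hs
    rw [← Nat.card_coe_set_eq]
    refine Nat.card_congr ⟨fun x => ⟨((x.1.1 : ↥(Subgroup.centralizer ({a} : Set G))) : G), (hq.ker _).1 x.2⟩,
      fun c => ⟨⟨⟨c.1, ?_⟩, ?_⟩, ?_⟩, fun x => rfl, fun c => rfl⟩
    · rcases c.2 with e | e <;> rw [show c.1 = _ from e]
      · exact one_mem _
      · exact mem_cent_of rfl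
    · rcases c.2 with e | e <;> (show c.1 ∈ J; rw [show c.1 = _ from e])
      · exact one_mem _
      · exact h.a_mem
    · exact (hq.ker _).2 c.2
  have hr : f.range = h.Jq q := by
    rw [hf, MonoidHom.range_comp, Subgroup.range_subtype]; rfl
  rw [Subgroup.index_ker, hr, hk, Nat.card_congr (Subgroup.subgroupOfEquivOfLe h.J_le_cent_a).toEquiv, h.card_J] at h1
  omega

/-- The image of `J` is extraspecial with centre the image of `z`. -/
theorem extra_Jq : CfsgLib.ThreeTransp.Extraspecial.Extra (h.Jq q) (h.zq q) := by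
  haveI : Fact (Nat.Prime 2) := ⟨Nat.prime_two⟩
  haveI : Finite Q := Finite.of_surjective q hq.surj
  have hcen : (Subgroup.center ↥(h.Jq q)).map (h.Jq q).subtype = Subgroup.zpowers (h.zq q) := by
    refine le_antisymm ?_ (Subgroup.zpowers_le.2 ⟨⟨_, h.zq_mem hq⟩, Subgroup.mem_center_iff.2 fun x => Subtype.ext ?_, rfl⟩)
    · rintro _ ⟨⟨x, hx⟩, hxc, rfl⟩
      obtain ⟨j, hj, rfl⟩ := h.exists_of_Jq hq hx
      rcases h.centre hj (fun k hk => by
        have e : q ⟨j, h.J_le_cent_a hj⟩ * q ⟨k, h.J_le_cent_a hk⟩ = q ⟨k, h.J_le_cent_a hk⟩ * q ⟨j, h.J_le_cent_a hj⟩ :=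
          (congrArg Subtype.val (Subgroup.mem_center_iff.1 hxc ⟨_, (h.mem_Jq hq).2 hk⟩)).symm
        rw [← map_mul, ← map_mul, hq.eq_iff] at e
        rcases h.comm_cases hj hk with c | c
        · exact c
        · exfalso
          rcases e with e | e
          · change k * j = j * k at e
            rw [← e] at c
            exact ne_one_of_order_two h.ord_z (mul_eq_right.1 c.symm)
          · change k * j = j * k * a at e
            rw [c, mul_assoc z, h.a_cent _ (mul_mem hk hj), ← mul_assoc] at e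
            exact h.za_ne_one (mul_eq_right.1 e.symm)) with e | e | e | e
      · show q _ ∈ _
        rw [(hq.ker _).2 (Or.inl e)]
        exact one_mem _
      · show q _ ∈ _
        rw [(hq.eq_iff (x := ⟨j, h.J_le_cent_a hj⟩) (y := ⟨z, h.z_mem_cent⟩)).2 (Or.inl e.symm)]
        exact Subgroup.mem_zpowers _
      · show q _ ∈ _
        rw [(hq.ker _).2 (Or.inr e)]
        exact one_mem _
      · show q _ ∈ _
        rw [(hq.eq_iff (x := ⟨j, h.J_le_cent_a hj⟩) (y := ⟨z, h.z_mem_cent⟩)).2 (Or.inr (show z = (j : G) * a by rw [e, mul_assoc, h.aa, mul_one]))]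
        exact Subgroup.mem_zpowers _
    · obtain ⟨j, hj, e⟩ := h.exists_of_Jq hq x.2
      show (x : Q) * h.zq q = h.zq q * (x : Q)
      rw [← e, zq, ← map_mul, ← map_mul]
      exact congrArg q (Subtype.ext (h.z_cent j hj))
  have hc2 : Nat.card (Subgroup.center ↥(h.Jq q)) = 2 := by
    rw [← Subgroup.card_map_of_injective (h.Jq q).subtype_injective, hcen, Nat.card_zpowers, h.ord_zq hq]
  refine CfsgLib.ThreeTransp.Extraspecial.Extra.of_center ?_ hcen
  refine CfsgLib.Solvable.RankTwoUnipotent.isExtraspecial_of_squares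
    (IsPGroup.of_card (n := 9) (by rw [h.card_Jq hq]; rfl)) hc2.le (fun x => ?_) ?_
  · obtain ⟨j, hj, e⟩ := h.exists_of_Jq hq x.2
    refine Subgroup.mem_center_iff.2 fun y => Subtype.ext ?_
    obtain ⟨k, hk, e'⟩ := h.exists_of_Jq hq y.2
    show (y : Q) * (((x ^ 2 : ↥(h.Jq q))) : Q) = _ * (y : Q)
    rw [SubmonoidClass.coe_pow, ← e, ← e', pow_two, ← map_mul, ← map_mul, ← map_mul]
    refine congrArg q (Subtype.ext ?_)
    show k * (j * j) = j * j * k
    rw [h.sq j hj]
    split
    · rw [mul_one, one_mul]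
    · exact h.z_cent k hk
  · obtain ⟨v, hv⟩ : ∃ v, bs4 (ev 0) v ≠ 0 := by
      by_contra hc
      push Not at hc
      exact ev0_ne (bs4_nondeg hc)
    obtain ⟨j, hj, ej⟩ := h.π_surj (ev 0)
    obtain ⟨k, hk, ek⟩ := h.π_surj v
    refine ⟨⟨_, (h.mem_Jq hq (x := ⟨j, h.J_le_cent_a hj⟩)).2 hj⟩, ⟨_, (h.mem_Jq hq (x := ⟨k, h.J_le_cent_a hk⟩)).2 hk⟩,
      fun e => hv ?_⟩
    have e' := congrArg Subtype.val e
    simp only [Subgroup.coe_mul, ← map_mul, hq.eq_iff] at e'
    rw [← ej, ← ek, ← h.comm_iff hj hk]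
    rcases e' with e' | e'
    · exact e'.symm
    · exfalso
      rcases h.comm_cases hj hk with c | c
      · rw [c] at e'
        exact ne_one_of_order_two h.ord_a (mul_eq_left.1 e'.symm)
      · rw [c, mul_assoc z, h.a_cent _ (mul_mem hk hj), ← mul_assoc] at e'
        exact h.za_ne_one (mul_eq_right.1 e'.symm)

end Setting

end CfsgLib.Recognition.USixCentral
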