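import Cfsg.Agent.Lib.Recognition.USixCentral.Pairs
import Cfsg.Agent.Lib.Involution.ZStar.Main

/-!
# The centraliser fixes `a`: `a` is isolated when the centraliser of `z * a` splits
-/

set_option autoImplicit false
set_option linter.unusedSectionVars false

namespace CfsgLib.Recognition.USixCentral

open CfsgLib.Recognition.USixTwo
open CfsgLib.Sporadic.LargeFischer (D4 om nzd)

variable {G : Type*} [Group G] [Finite G]

theorem conj_mem_iff {g x : G} : g * x * g⁻¹ = x ↔ g * x = x * g := mul_inv_eq_iff_eq_mul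

namespace Setting

variable {z a : G} {J : Subgroup G} {π : G → V4} {ψ : ↥(Subgroup.centralizer ({z} : Set G)) →* (V4 ≃ₗ[ZMod 2] V4)}
  (h : Setting z a J π ψ) (hfix : ∀ c : G, c * z = z * c → c * a = a * c)
include h hfix

theorem fix_za {c : G} (hc : c * z = z * c) : c * (z * a) = z * a * c := by
  rw [← mul_assoc, hc, mul_assoc, hfix c hc, ← mul_assoc]

/-- `a` and `z * a` are not conjugate. -/
theorem not_conj (g : G) : g * a * g⁻¹ ≠ z * a := by
  intro e
  obtain ⟨P, hJP, hPC, hP2, hstd⟩ := h.exists_std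
  set X := Subgroup.centralizer ({z * a} : Set G) with hX
  have hJX : J ≤ X := h.swap.J_le_cent_a
  have hR : P.map (MulAut.conj g).toMonoidHom ≤ X := by
    rintro _ ⟨p, hp, rfl⟩
    refine Subgroup.mem_centralizer_singleton_iff.2 ?_
    show g * p * g⁻¹ * (z * a) = z * a * (g * p * g⁻¹)
    rw [← e, show g * p * g⁻¹ * (g * a * g⁻¹) = g * (p * a) * g⁻¹ by group,
      hfix p (Subgroup.mem_centralizer_singleton_iff.1 (hPC hp))]
    group
  obtain ⟨t, ht, htz⟩ := h.conj_into hJX hR (hP2.map _)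
  have htg := hstd (t * g) fun p hp => by
    have := htz _ ⟨p, hp, rfl⟩
    convert this using 2 <;> (show _ = t * (g * p * g⁻¹) * t⁻¹; group)
  have h1 := conj_mem_iff.2 (hfix _ htg)
  have h2 : t * g * a * (t * g)⁻¹ = z * a := by
    rw [show t * g * a * (t * g)⁻¹ = t * (g * a * g⁻¹) * t⁻¹ by group, e,
      Subgroup.mem_centralizer_singleton_iff.1 ht, mul_inv_cancel_right]
  exact h.za_ne_a (h2.symm.trans h1)

variable (hS : SplitAt z (Subgroup.centralizer ({z * a} : Set G)))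
include hS

/-- The conjugate of `a` lies in `J`, and in the centre when the conjugate of `z` is in `J`. -/
theorem conj_mem_J {g : G} (hy : g * z * g⁻¹ * z = z * (g * z * g⁻¹)) :
    g * a * g⁻¹ ∈ J ∧ (g * z * g⁻¹ ∈ J → π (g * a * g⁻¹) = 0) ∧
      (∀ j ∈ J, j * (g * z * g⁻¹) = g * z * g⁻¹ * j → j * (g * a * g⁻¹) = g * a * g⁻¹ * j) := by
  set y := g * z * g⁻¹ with hydef
  set x := g * (z * a) * g⁻¹ with hxdef
  have hxy : g * a * g⁻¹ = y * x := by
    rw [hydef, hxdef, show g * z * g⁻¹ * (g * (z * a) * g⁻¹) = g * (z * (z * a)) * g⁻¹ by group, h.z_za]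
  have hyC : ∀ c, c * y = y * c → c * x = x * c := by
    intro c hc
    have h1 : g⁻¹ * c * g * z = z * (g⁻¹ * c * g) := by
      calc g⁻¹ * c * g * z = g⁻¹ * (c * y) * g := by rw [hydef]; group
        _ = _ := by rw [hc, hydef]; group
    calc c * x = g * (g⁻¹ * c * g * (z * a)) * g⁻¹ := by rw [hxdef]; group
      _ = _ := by rw [h.fix_za hfix h1, hxdef]; group
  have hz : x * z = z * x := (hyC z hy.symm).symm
  have hyx : y * x = x * y := hyC y rfl
  obtain ⟨hpb, hpn⟩ := h.swap.pullback hS hy hz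
  have heq : ∀ j ∈ J, j * x = x * j ↔ j * y = y * j := fun j hj => ⟨hpb j hj, hyC j⟩
  have y2 : y * y = 1 := by
    rw [hydef, show g * z * g⁻¹ * (g * z * g⁻¹) = g * (z * z) * g⁻¹ by group, h.zz]; group
  have x2 : x * x = 1 := by
    rw [hxdef, show g * (z * a) * g⁻¹ * (g * (z * a) * g⁻¹) = g * (z * a * (z * a)) * g⁻¹ by group, h.za_sq]; group
  let yc : ↥(Subgroup.centralizer ({z} : Set G)) := ⟨y, Subgroup.mem_centralizer_singleton_iff.2 hy⟩
  let xc : ↥(Subgroup.centralizer ({z} : Set G)) := ⟨x, Subgroup.mem_centralizer_singleton_iff.2 hz⟩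
  have hlast : ∀ j ∈ J, j * y = y * j → j * (g * a * g⁻¹) = g * a * g⁻¹ * j := by
    intro j _ hjy
    rw [hxy, ← mul_assoc, hjy, mul_assoc, hyC j hjy, ← mul_assoc]
  by_cases hyJ : y ∈ J
  · by_cases hxJ : x ∈ J
    · rw [hxy]
      refine ⟨mul_mem hyJ hxJ, fun _ => ?_, by rw [← hxy]; exact hlast⟩
      rw [h.π_mul y hyJ x hxJ]
      rcases h.eq_of_cent hxJ hyJ (fun l hl => hpb l hl) with e | e
      · rcases h.eq_of_cent hyJ hxJ (fun l _ => hyC l) with e' | e' <;> simp [e, e']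
      · rw [e, add_self_V4]
    · refine (h.not_hyper (x := xc) ⟨hfix x hz, x2, hxJ⟩ (π y) fun j hj hb => hyC j ?_).elim
      exact ((h.comm_iff hyJ hj).2 hb).symm
  · have hxJ : x ∉ J := fun hxJ => h.not_hyper (x := yc) ⟨hfix y hy, y2, hyJ⟩ (π x) fun j hj hb =>
      hpb j hj ((h.comm_iff hxJ hj).2 hb).symm
    have hψ : ψ xc = ψ yc := by
      refine h.pair_eq (x := xc) (y := yc) ⟨hfix x hz, x2, hxJ⟩ ⟨hfix y hy, y2, hyJ⟩ hyx.symm heq fun c hc => ?_
      obtain ⟨hodd, -⟩ := hpn c (Subgroup.mem_centralizer_singleton_iff.1 c.2) hc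
      refine ⟨_, hodd, ?_⟩
      rw [← map_pow]
      convert map_one ψ using 2
      exact Subtype.ext (pow_orderOf_eq_one _)
    rw [hxy]
    refine ⟨(h.ker (yc * xc)).1 ?_, fun e => absurd e hyJ, by rw [← hxy]; exact hlast⟩
    rw [map_mul, hψ, ← map_mul, show yc * yc = 1 from Subtype.ext y2, map_one]

/-- A conjugate of `z` commuting with it is obtained by an element centralising `a`. -/
theorem conj_fix {g : G} (hy : g * z * g⁻¹ * z = z * (g * z * g⁻¹)) : g * a * g⁻¹ = a := by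
  obtain ⟨hgJ, -, -⟩ := h.conj_mem_J hfix hS hy
  by_cases h0 : π (g * a * g⁻¹) = 0
  · rcases (h.π_ker _ hgJ).1 h0 with e | e | e | e
    · exact absurd (conj_eq_one_iff.1 e) (ne_one_of_order_two h.ord_a)
    · refine absurd ?_ (h.not_conj_a g⁻¹)
      rw [← e]; group
    · exact e
    · exact absurd e (h.not_conj hfix g)
  exfalso
  set v := π (g * a * g⁻¹) with hv
  have hga2 : g * a * g⁻¹ * (g * a * g⁻¹) = 1 := by
    rw [show g * a * g⁻¹ * (g * a * g⁻¹) = g * (a * a) * g⁻¹ by group, h.aa]; group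
  have hq : q4 v = 0 := by
    have := h.sq _ hgJ
    rw [hga2] at this
    by_contra hne
    rw [if_neg hne] at this
    exact ne_one_of_order_two h.ord_z this.symm
  obtain ⟨k, hk, hkv⟩ := exists_moving hq h0
  haveI := gl_finite
  set Q := PS.map (MulAut.conj k).toMonoidHom with hQ
  have hQle : Q ≤ ψ.range := by
    rintro _ ⟨p, hp, rfl⟩
    exact mul_mem (mul_mem (h.outer.tg hk) (h.outer.PS_le hp)) (inv_mem (h.outer.tg hk))
  have hQfix : ∀ q ∈ Q, q v = v := by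
    rintro _ ⟨p, hp, rfl⟩
    show (k * p * k⁻¹) v = v
    rw [← hkv, conj_fixed, PS_code5 hp]
  set P := (Q.comap ψ).map (Subgroup.centralizer ({z} : Set G)).subtype with hP
  have hPcard : Nat.card P = 131072 := by
    rw [hP, Subgroup.card_map_of_injective Subtype.val_injective, h.card_preimage hQle, hQ,
      Subgroup.card_map_of_injective (f := (MulAut.conj k).toMonoidHom) (MulAut.conj k).injective, PS_card]
  have hP2 : IsPGroup 2 P := IsPGroup.of_card (n := 17) (by rw [hPcard]; rfl)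
  have hPC : P ≤ Subgroup.centralizer ({z} : Set G) := Subgroup.map_subtype_le _
  set P1 := P ⊓ Subgroup.centralizer ({g * a * g⁻¹} : Set G) with hP1
  have hcard1 : 32768 ≤ Nat.card P1 := by
    classical
    let f : ↥P → G := fun p => (p : G) * (g * a * g⁻¹) * (p : G)⁻¹
    let T : Finset G := {g * a * g⁻¹, g * a * g⁻¹ * z, g * a * g⁻¹ * a, g * a * g⁻¹ * (z * a)}
    haveI : Fintype ↥P := Fintype.ofFinite _
    have hmaps : ∀ p : ↥P, f p ∈ T := by
      rintro ⟨_, c, hc, rfl⟩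
      have hm := h.norm c (Subgroup.mem_centralizer_singleton_iff.1 c.2) _ hgJ
      have he : π (g * a * g⁻¹) = π ((c : G) * (g * a * g⁻¹) * (c : G)⁻¹) := by
        rw [h.act c _ hgJ]; exact (hQfix _ hc).symm
      have := h.π_eq hgJ hm he
      show (c : G) * (g * a * g⁻¹) * (c : G)⁻¹ ∈ T
      rw [show (c : G) * (g * a * g⁻¹) * (c : G)⁻¹ =
        g * a * g⁻¹ * ((g * a * g⁻¹)⁻¹ * ((c : G) * (g * a * g⁻¹) * (c : G)⁻¹)) by group]
      rcases this with e | e | e | e <;> rw [e] <;> simp [T]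
    have hfib : ∀ b ∈ (Finset.univ.image f), (Finset.univ.filter fun p => f p = b).card ≤ Nat.card P1 := by
      intro b hb
      obtain ⟨p₀, -, rfl⟩ := Finset.mem_image.1 hb
      rw [← Fintype.card_coe, ← Nat.card_eq_fintype_card]
      refine Nat.card_le_card_of_injective (fun p => (⟨(p₀ : G)⁻¹ * (p.1 : G), show (p₀ : G)⁻¹ * (p.1 : G) ∈ P from mul_mem (inv_mem p₀.2) p.1.2,
        Subgroup.mem_centralizer_singleton_iff.2 ?_⟩ : ↥P1)) fun p q e => ?_
      · have hp := (Finset.mem_filter.1 p.2).2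
        simp only [f] at hp
        calc (p₀ : G)⁻¹ * (p.1 : G) * (g * a * g⁻¹)
            = (p₀ : G)⁻¹ * ((p.1 : G) * (g * a * g⁻¹) * (p.1 : G)⁻¹) * (p.1 : G) := by group
          _ = _ := by rw [hp]; group
      · exact Subtype.ext (Subtype.ext (mul_left_cancel (congrArg Subtype.val e :)))
    have h1 := Finset.card_le_mul_card_image Finset.univ (Nat.card P1) hfib
    have h2 : (Finset.univ.image f).card ≤ 4 :=
      (Finset.card_le_card (fun b hb => by
        obtain ⟨p, -, rfl⟩ := Finset.mem_image.1 hb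
        exact hmaps p)).trans (by simp only [T]; exact Finset.card_le_four)
    rw [Finset.card_univ, ← Nat.card_eq_fintype_card, hPcard] at h1
    nlinarith
  have hJP : z ∈ P1 := by
    refine ⟨⟨⟨z, h.le_cent h.z_mem⟩, ?_, rfl⟩, Subgroup.mem_centralizer_singleton_iff.2 (h.z_cent _ hgJ).symm⟩
    show ψ ⟨z, h.le_cent h.z_mem⟩ ∈ Q
    rw [(h.ker ⟨z, _⟩).2 h.z_mem]
    exact one_mem _
  set R := P1.map (MulAut.conj g⁻¹).toMonoidHom with hR
  have hP12 : IsPGroup 2 P1 := hP2.to_le inf_le_left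
  have hRX : R ≤ Subgroup.centralizer ({a} : Set G) := by
    rintro _ ⟨p, hp, rfl⟩
    refine Subgroup.mem_centralizer_singleton_iff.2 ?_
    show g⁻¹ * p * g⁻¹⁻¹ * a = a * (g⁻¹ * p * g⁻¹⁻¹)
    calc g⁻¹ * p * g⁻¹⁻¹ * a = g⁻¹ * (p * (g * a * g⁻¹)) * g := by group
      _ = _ := by rw [Subgroup.mem_centralizer_singleton_iff.1 hp.2]; group
  obtain ⟨l, hl, hlz⟩ := h.conj_into h.J_le_cent_a hRX (hP12.map _)
  have hla := Subgroup.mem_centralizer_singleton_iff.1 hl
  set g1 := l * g⁻¹ with hg1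
  have key : ∀ p ∈ P1, g1 * p * g1⁻¹ * z = z * (g1 * p * g1⁻¹) := fun p hp => by
    have := hlz _ ⟨p, hp, rfl⟩
    convert this using 2 <;> (show _ = l * (g⁻¹ * p * g⁻¹⁻¹) * l⁻¹; rw [hg1]; group)
  have hy1 := key z hJP
  obtain ⟨hg1J, hz1, hcent⟩ := h.conj_mem_J hfix hS hy1
  have hne : g1 * a * g1⁻¹ ≠ a := by
    intro e
    apply h0
    rw [hv, show g * a * g⁻¹ = g * (l⁻¹ * (a * l)) * g⁻¹ by rw [← hla]; group,
      show a * l = g1 * a * g1⁻¹ * l by rw [e],
      show g * (l⁻¹ * (g1 * a * g1⁻¹ * l)) * g⁻¹ = a by rw [hg1]; group]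
    exact h.π_a
  have hπ1 : π (g1 * a * g1⁻¹) ≠ 0 := by
    intro e0
    rcases (h.π_ker _ hg1J).1 e0 with e | e | e | e
    · exact ne_one_of_order_two h.ord_a (conj_eq_one_iff.1 e)
    · exact h.not_conj_a g1⁻¹ (by rw [← e]; group)
    · exact hne e
    · exact h.not_conj hfix g1 e
  set y1 := g1 * z * g1⁻¹ with hy1def
  have hy1J : y1 ∉ J := fun e => hπ1 (hz1 e)
  let y1c : ↥(Subgroup.centralizer ({z} : Set G)) := ⟨y1, Subgroup.mem_centralizer_singleton_iff.2 hy1⟩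
  have hout : Out z a J y1c := ⟨hfix y1 hy1, by
    show g1 * z * g1⁻¹ * (g1 * z * g1⁻¹) = 1
    rw [show g1 * z * g1⁻¹ * (g1 * z * g1⁻¹) = g1 * (z * z) * g1⁻¹ by group, h.zz]; group, hy1J⟩
  set Q1 := P1.map (MulAut.conj g1).toMonoidHom with hQ1
  have hQ1C : Q1 ≤ Subgroup.centralizer ({z} : Set G) := by
    rintro _ ⟨p, hp, rfl⟩; exact Subgroup.mem_centralizer_singleton_iff.2 (key p hp)
  have hQ1card : 32768 ≤ Nat.card Q1 := by
    rw [hQ1, Subgroup.card_map_of_injective (f := (MulAut.conj g1).toMonoidHom) (MulAut.conj g1).injective]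
    exact hcard1
  have hbig : 256 ≤ Nat.card ↥(J ⊓ Subgroup.centralizer ({(y1c : G)} : Set G)) := by
    have h1 := h.card_two_sub hQ1C (hP12.map _)
    have h2 : Nat.card ↥(J ⊓ Q1) ≤ Nat.card ↥(J ⊓ Subgroup.centralizer ({(y1c : G)} : Set G)) := by
      refine Nat.card_le_card_of_injective _ (Subgroup.inclusion_injective (inf_le_inf_left _ ?_))
      rintro _ ⟨p, hp, rfl⟩
      refine Subgroup.mem_centralizer_singleton_iff.2 ?_
      show g1 * p * g1⁻¹ * (g1 * z * g1⁻¹) = g1 * z * g1⁻¹ * (g1 * p * g1⁻¹)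
      calc g1 * p * g1⁻¹ * (g1 * z * g1⁻¹) = g1 * (p * z) * g1⁻¹ := by group
        _ = _ := by rw [Subgroup.mem_centralizer_singleton_iff.1 (hPC hp.1)]; group
    omega
  obtain ⟨p, hpq, hp0, ht, hfull⟩ := h.full_of_card hout hbig
  obtain ⟨c, hc⟩ := perp_line hpq hp0 (u := π (g1 * a * g1⁻¹)) fun w hw => by
    obtain ⟨j, hj, rfl, hjc⟩ := hfull w hw
    exact (h.comm_iff hg1J hj).1 (hcent j hj hjc).symm
  have hc0 : c ≠ 0 := fun e => hπ1 (by rw [hc, e, scl_zero])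
  obtain ⟨t, htT, ht3, htc, hmove⟩ := line_moved hpq hp0
  obtain ⟨d, rfl, hdy⟩ := h.lift_commute hout htT ht3 (by rw [ht]; exact htc) (Or.inr ⟨p, hpq, hp0, ht, hfull⟩)
  have hda : (d : G) * (g1 * a * g1⁻¹) = g1 * a * g1⁻¹ * d := by
    have h1 : g1⁻¹ * (d : G) * g1 * z = z * (g1⁻¹ * (d : G) * g1) := by
      calc g1⁻¹ * (d : G) * g1 * z = g1⁻¹ * ((d : G) * (y1c : G)) * g1 := by
            show _ = g1⁻¹ * ((d : G) * (g1 * z * g1⁻¹)) * g1; group
        _ = _ := by rw [hdy]; show g1⁻¹ * (g1 * z * g1⁻¹ * (d : G)) * g1 = _; group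
    calc (d : G) * (g1 * a * g1⁻¹) = g1 * (g1⁻¹ * (d : G) * g1 * a) * g1⁻¹ := by group
      _ = _ := by rw [hfix _ h1]; group
  refine hmove c hc0 ?_
  rw [← hc, ← h.act d _ hg1J, hda, mul_inv_cancel_right]

/-- `a` is isolated. -/
theorem isolated_a : Cfsg.IsIsolatedInvolution a := by
  refine ⟨h.ord_a, fun g hg => ?_⟩
  have h2 : g * a * g⁻¹ * (g * a * g⁻¹) = 1 := by
    rw [show g * a * g⁻¹ * (g * a * g⁻¹) = g * (a * a) * g⁻¹ by group, h.aa]; group
  obtain ⟨l, hl, hlz⟩ := h.conj_inv_into h.J_le_cent_a (x := g * a * g⁻¹)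
    (Subgroup.mem_centralizer_singleton_iff.2 hg.eq.symm) h2
  have hla := Subgroup.mem_centralizer_singleton_iff.1 hl
  set g1 := l * g with hg1
  have e1 : l * (g * a * g⁻¹) * l⁻¹ = g1 * a * g1⁻¹ := by rw [hg1]; group
  rw [e1] at hlz
  set w := g1⁻¹ * z * g1 with hw
  have hwa : w * a = a * w := by
    calc w * a = g1⁻¹ * (z * (g1 * a * g1⁻¹)) * g1 := by rw [hw]; group
      _ = _ := by rw [← hlz, hw]; group
  have hw2 : w * w = 1 := by
    rw [hw, show g1⁻¹ * z * g1 * (g1⁻¹ * z * g1) = g1⁻¹ * (z * z) * g1 by group, h.zz]; group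
  obtain ⟨m, hm', hmz⟩ := h.conj_inv_into h.J_le_cent_a (x := w) (Subgroup.mem_centralizer_singleton_iff.2 hwa) hw2
  have e2 : m * w * m⁻¹ = m * g1⁻¹ * z * (m * g1⁻¹)⁻¹ := by rw [hw]; group
  rw [e2] at hmz
  have h3 := h.conj_fix hfix hS hmz
  have hma := Subgroup.mem_centralizer_singleton_iff.1 hm'
  have h4 : g1⁻¹ * a * g1 = a := by
    calc g1⁻¹ * a * g1 = m⁻¹ * (m * g1⁻¹ * a * (m * g1⁻¹)⁻¹) * m := by group
      _ = a := by rw [h3, mul_assoc, ← hma, inv_mul_cancel_left]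
  have h5 : g1 * a * g1⁻¹ = a := by
    calc g1 * a * g1⁻¹ = g1 * (g1⁻¹ * a * g1) * g1⁻¹ := by rw [h4]
      _ = a := by group
  calc g * a * g⁻¹ = l⁻¹ * (g1 * a * g1⁻¹) * l := by rw [hg1]; group
    _ = a := by rw [h5, mul_assoc, ← hla, inv_mul_cancel_left]

end Setting

end CfsgLib.Recognition.USixCentral
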