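import Cfsg.Agent.Lib.Recognition.USixCentral.UnitMember
import Cfsg.Agent.Lib.Recognition.USixCentral.Fixed

/-!
# `a` fixed: the two centralisers cannot both have a unitary section
-/

set_option autoImplicit false
set_option linter.unusedSectionVars false

namespace CfsgLib.Recognition.USixCentral

open CfsgLib.Recognition.USixTwo
open CfsgLib.Sporadic.LargeFischer (D4 om nzd)

variable {G : Type*} [Group G] [Finite G]

namespace Setting

variable {z a : G} {J : Subgroup G} {π : G → V4} {ψ : ↥(Subgroup.centralizer ({z} : Set G)) →* (V4 ≃ₗ[ZMod 2] V4)}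
  (h : Setting z a J π ψ) (hfix : ∀ c : G, c * z = z * c → c * a = a * c)
include h hfix

theorem conj_ne_za (g : G) : g * a * g⁻¹ ≠ z * a := h.not_conj hfix g

/-- The two unitary alternatives exclude each other. -/
theorem both_unitary {Qa : Type*} [Group Qa] {qa : ↥(Subgroup.centralizer ({a} : Set G)) →* Qa} (hqa : Onto a qa)
    {Qb : Type*} [Group Qb] {qb : ↥(Subgroup.centralizer ({z * a} : Set G)) →* Qb} (hqb : Onto (z * a) qb)
    {Ua : Subgroup Qa} (hia : Ua.index ≤ 2) (hsa : IsSimpleGroup ↥Ua) (hca : Nat.card ↥Ua = 9196830720)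
    {Ub : Subgroup Qb} (hib : Ub.index ≤ 2) (hsb : IsSimpleGroup ↥Ub) (hcb : Nat.card ↥Ub = 9196830720) : False := by
  obtain ⟨u, hua, hy2, ht2, hc2⟩ := h.unit_member hqa hia hsa hca
  obtain ⟨w, hwb, hy3, ht3, hc3⟩ := h.swap.unit_member hqb hib hsb hcb
  set y2 := u * z * u⁻¹ with hy2def
  set y3 := w * z * w⁻¹ with hy3def
  let y2c : ↥(Subgroup.centralizer ({z} : Set G)) := ⟨y2, Subgroup.mem_centralizer_singleton_iff.2 hy2⟩
  let y3c : ↥(Subgroup.centralizer ({z} : Set G)) := ⟨y3, Subgroup.mem_centralizer_singleton_iff.2 hy3⟩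
  have sq : ∀ g : G, g * z * g⁻¹ * (g * z * g⁻¹) = 1 := fun g => by
    rw [show g * z * g⁻¹ * (g * z * g⁻¹) = g * (z * z) * g⁻¹ by group, h.zz]; group
  have hnJ : ∀ c : ↥(Subgroup.centralizer ({z} : Set G)), ψ c = tv v0 → (c : G) ∉ J := fun c e m =>
    tv_ne_one v0_facts.1 v0_facts.2 (e.symm.trans ((h.ker c).2 m))
  have o2 : Out z a J y2c := ⟨hfix y2 hy2, sq u, hnJ y2c ht2⟩
  have o3 : Out z a J y3c := ⟨hfix y3 hy3, sq w, hnJ y3c ht3⟩
  obtain ⟨p2, -, -, e2, f2⟩ := h.full_of_card o2 hc2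
  obtain ⟨p3, -, -, e3, f3⟩ := h.full_of_card o3 hc3
  rw [show tv p2 = tv v0 from e2.symm.trans ht2] at f2
  rw [show tv p3 = tv v0 from e3.symm.trans ht3] at f3
  have hjJ : y2 * y3 ∈ J := (h.ker (y2c * y3c)).1 (by rw [map_mul, ht2, ht3, tv_mul_self])
  obtain ⟨c, hc⟩ := perp_line v0_facts.1 v0_facts.2 (u := π (y2 * y3)) fun v hv => by
    obtain ⟨k, hk, ek, hkc⟩ := f2 v hv
    obtain ⟨k', hk', ek', hkc'⟩ := f3 v hv
    have h3 : k * y3 = y3 * k := h.lift_unique o3 hk hk' (ek'.trans ek.symm) hkc'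
    rw [← ek]
    refine (h.comm_iff hjJ hk).1 ?_
    change k * y2 = y2 * k at hkc
    rw [mul_assoc, ← h3, ← mul_assoc, ← hkc, mul_assoc]
  obtain ⟨v, hv⟩ := tv_image v0_facts.1 v0_facts.2 c
  obtain ⟨k, hk, rfl⟩ := h.π_surj v
  obtain ⟨d, hd, hπd, hky, -⟩ := h.image_lift o2 hk
  change k * y2 * k⁻¹ = y2 * d at hky
  set ζ := d⁻¹ * (y2 * y3) with hζ
  have hζc : ζ = 1 ∨ ζ = z ∨ ζ = a ∨ ζ = z * a := h.π_eq hd hjJ (by rw [hπd, hc, hv, ht2])
  have e3' : y3 = y2 * d * ζ := by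
    rw [hζ, show y2 * d * (d⁻¹ * (y2 * y3)) = y2 * y2 * y3 by group, sq u, one_mul]
  set w' := k⁻¹ * w with hw'
  have hkζ : k * ζ = ζ * k := h.centre_comm (h.z_cent k hk) (h.a_cent k hk) hζc
  have hy3' : w' * z * w'⁻¹ = y2 * ζ := by
    rw [show w' * z * w'⁻¹ = k⁻¹ * y3 * k by rw [hw', hy3def]; group, e3', ← hky]
    calc k⁻¹ * (k * y2 * k⁻¹ * ζ) * k = y2 * k⁻¹ * (ζ * k) := by group
      _ = _ := by rw [← hkζ]; group
  have hwb' : w' * (z * a) = z * a * w' :=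
    Subgroup.mem_centralizer_singleton_iff.1 (mul_mem (inv_mem (h.swap.J_le_cent_a hk))
      (Subgroup.mem_centralizer_singleton_iff.2 hwb))
  have hb' : w' * (z * a) * w'⁻¹ = z * a := mul_inv_eq_iff_eq_mul.2 hwb'
  have ha' : u * a * u⁻¹ = a := mul_inv_eq_iff_eq_mul.2 hua
  have ewa : w' * a * w'⁻¹ = w' * z * w'⁻¹ * (z * a) := by
    conv_rhs => rw [← hb']
    rw [show w' * z * w'⁻¹ * (w' * (z * a) * w'⁻¹) = w' * (z * (z * a)) * w'⁻¹ by group, h.z_za]
  have eub : u * (z * a) * u⁻¹ = y2 * a := by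
    conv_rhs => rw [← ha']
    rw [hy2def]; group
  rcases hζc with e | e | e | e <;> rw [e] at hy3'
  · rw [mul_one] at hy3'
    -- the same conjugate: the conjugating elements differ by an element fixing `a`
    have hgz : u⁻¹ * w' * z = z * (u⁻¹ * w') := by
      calc u⁻¹ * w' * z = u⁻¹ * (w' * z * w'⁻¹) * w' := by group
        _ = _ := by rw [hy3', hy2def]; group
    have hga := hfix _ hgz
    have hwa : w' * a = a * w' := by
      calc w' * a = u * (u⁻¹ * w' * a) := by group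
        _ = u * a * (u⁻¹ * w') := by rw [hga]; group
        _ = _ := by rw [hua]; group
    have hwz : w' * z * w'⁻¹ = z := by
      conv_lhs => rw [show z = z * a * a from by rw [mul_assoc, h.aa, mul_one]]
      rw [show w' * (z * a * a) * w'⁻¹ = w' * (z * a) * w'⁻¹ * (w' * a * w'⁻¹) by group, hb',
        mul_inv_eq_iff_eq_mul.2 hwa, mul_assoc, h.aa, mul_one]
    apply hnJ y2c ht2
    show y2 ∈ J
    rw [← hy3', hwz]
    exact h.z_mem
  · apply h.not_conj hfix (u⁻¹ * w')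
    rw [show u⁻¹ * w' * a * (u⁻¹ * w')⁻¹ = u⁻¹ * (w' * a * w'⁻¹) * u by group, ewa, hy3',
      mul_assoc y2 z (z * a), h.z_za, ← eub]
    group
  · apply h.not_conj_za (u⁻¹ * w')
    rw [show u⁻¹ * w' * z * (u⁻¹ * w')⁻¹ = u⁻¹ * (w' * z * w'⁻¹) * u by group, hy3', ← eub]
    group
  · apply h.not_conj_a (w'⁻¹ * u)
    have e4 : w' * a * w'⁻¹ = y2 := by rw [ewa, hy3', mul_assoc, h.za_sq, mul_one]
    rw [show w'⁻¹ * u * z * (w'⁻¹ * u)⁻¹ = w'⁻¹ * (u * z * u⁻¹) * w' by group, ← hy2def, ← e4]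
    group

end Setting

end CfsgLib.Recognition.USixCentral
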