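import Cfsg.Agent.Lib.Recognition.USixCentral.Fixed
import Cfsg.Agent.Lib.Recognition.USixTwoOuter.Isolated
import Cfsg.Agent.Lib.Solvable.Cores

/-!
# `a` fixed: supplement of the odd core, or a central involution
-/

set_option autoImplicit false
set_option linter.unusedSectionVars false

namespace CfsgLib.Recognition.USixCentral

open CfsgLib.Recognition.USixTwo
open CfsgLib.Sporadic.LargeFischer (D4 om nzd)

variable {G : Type*} [Group G] [Finite G]

/-- A normal subgroup of odd order lies in the odd core. -/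
theorem le_oddCore_of_odd {N : Subgroup G} (hN : N.Normal) (hodd : Odd (Nat.card N)) : N ≤ Cfsg.oddCore G :=
  le_sSup ⟨hN, Nat.coprime_two_right.2 hodd⟩

namespace Setting

variable {z a : G} {J : Subgroup G} {π : G → V4} {ψ : ↥(Subgroup.centralizer ({z} : Set G)) →* (V4 ≃ₗ[ZMod 2] V4)}
  (h : Setting z a J π ψ)
include h

/-- An isolated `a` with split centraliser gives the supplement. -/
theorem sup_of_isolated (hiso : Cfsg.IsIsolatedInvolution a) (hS : SplitAt z (Subgroup.centralizer ({a} : Set G))) :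
    Subgroup.centralizer ({z} : Set G) ⊔ Cfsg.oddCore G = ⊤ := by
  haveI hOn : (Cfsg.oddCore G).Normal := CfsgLib.Involution.ZStar.oddCore_normal
  obtain ⟨O, hOX, hodd, hn, hdec⟩ := hS
  have htop := CfsgLib.Recognition.USixTwoOuter.sup_oddCore_eq_top hiso
  set N := O ⊔ Cfsg.oddCore G with hN
  have hNn : N.Normal := by
    rw [← Subgroup.normalizer_eq_top_iff, eq_top_iff, ← htop]
    refine sup_le (fun x hx => Subgroup.mem_normalizer_fintype fun n hn' => ?_) (le_sup_right.trans Subgroup.le_normalizer)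
    have hle : N ≤ N.comap (MulAut.conj x).toMonoidHom := sup_le
      (fun o ho => Subgroup.mem_comap.2 (Subgroup.mem_sup_left (hn x hx o ho)))
      (fun o ho => Subgroup.mem_comap.2 (Subgroup.mem_sup_right (hOn.conj_mem o ho x)))
    exact hle hn'
  have hNodd : Odd (Nat.card N) := by
    set f := (QuotientGroup.mk' (Cfsg.oddCore G)).comp N.subtype with hf
    have h1 := f.ker.card_mul_index
    rw [Subgroup.index_ker] at h1
    have hk : Odd (Nat.card f.ker) := by
      have : f.ker = (Cfsg.oddCore G).subgroupOf N := Subgroup.ext fun x => by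
        rw [MonoidHom.mem_ker, Subgroup.mem_subgroupOf, hf, MonoidHom.comp_apply, QuotientGroup.mk'_apply,
          QuotientGroup.eq_one_iff]
        rfl
      rw [this, Nat.card_congr (Subgroup.subgroupOfEquivOfLe le_sup_right).toEquiv]
      exact CfsgLib.Involution.ZStar.odd_card_oddCore
    have hr : f.range = O.map (QuotientGroup.mk' (Cfsg.oddCore G)) := by
      rw [hf, MonoidHom.range_comp, Subgroup.range_subtype, hN, Subgroup.map_sup,
        (Subgroup.map_eq_bot_iff (Cfsg.oddCore G)).2 (le_of_eq (QuotientGroup.ker_mk' (Cfsg.oddCore G)).symm), sup_bot_eq]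
    rw [← h1, hr]
    exact hk.mul (hodd.of_dvd_nat (Subgroup.card_map_dvd _ _))
  rw [eq_top_iff, ← htop]
  refine sup_le (fun x hx => ?_) le_sup_right
  obtain ⟨c, hc, o, ho, rfl⟩ := hdec x hx
  exact mul_mem (Subgroup.mem_sup_left (Subgroup.mem_centralizer_singleton_iff.2 hc))
    (Subgroup.mem_sup_right (le_oddCore_of_odd hNn hNodd (Subgroup.mem_sup_left ho)))

/-- With the other centraliser split and a member in that of `a`, the involution `a` is central. -/
theorem central_of_member (hfix : ∀ c : G, c * z = z * c → c * a = a * c)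
    (hS : SplitAt z (Subgroup.centralizer ({z * a} : Set G))) {l : G} (hla : l * a = a * l)
    (hc : l * z * l⁻¹ * z = z * (l * z * l⁻¹)) (hne : l * z * l⁻¹ ≠ z) : ∀ g : G, g * a = a * g := by
  haveI hOn : (Cfsg.oddCore G).Normal := CfsgLib.Involution.ZStar.oddCore_normal
  have htop := CfsgLib.Recognition.USixTwoOuter.sup_oddCore_eq_top (h.isolated_a hfix hS)
  suffices hO : ∀ o ∈ Cfsg.oddCore G, o = 1 by
    rw [(Subgroup.eq_bot_iff_forall _).2 hO, sup_bot_eq] at htop
    exact fun g => Subgroup.mem_centralizer_singleton_iff.1 (htop.symm ▸ Subgroup.mem_top g)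
  set O := Cfsg.oddCore G with hOdef
  have hodd : Odd (Nat.card O) := CfsgLib.Involution.ZStar.odd_card_oddCore
  have hfree : ∀ o ∈ O, o * z = z * o → o = 1 := fun o ho hoz =>
    h.odd_cap hodd (fun j _ o ho => hOn.conj_mem o ho j) ho hoz
  have hinv : ∀ s : G, s * s = 1 → (∀ o ∈ O, o * s = s * o → o = 1) → ∀ o ∈ O, s * o * s⁻¹ = o⁻¹ := by
    intro s hs hf o ho
    let F : ↥O → ↥O := fun x => ⟨(x : G)⁻¹ * (s * x * s⁻¹), mul_mem (inv_mem x.2) (hOn.conj_mem _ x.2 s)⟩
    have hinj : Function.Injective F := fun x y e => by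
      have e' : (x : G)⁻¹ * (s * x * s⁻¹) = (y : G)⁻¹ * (s * y * s⁻¹) := congrArg Subtype.val e
      have h1 := hf ((y : G) * (x : G)⁻¹) (mul_mem y.2 (inv_mem x.2)) (by
        calc (y : G) * (x : G)⁻¹ * s = (y : G) * ((x : G)⁻¹ * (s * x * s⁻¹)) * (s * (x : G)⁻¹) * 1 := by group
          _ = (y : G) * ((y : G)⁻¹ * (s * y * s⁻¹)) * (s * (x : G)⁻¹) * 1 := by rw [e']
          _ = _ := by group)
      exact Subtype.ext (mul_inv_eq_one.1 h1).symm
    obtain ⟨x, hx⟩ := (Finite.injective_iff_surjective.1 hinj) ⟨o, ho⟩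
    have hx' : (x : G)⁻¹ * (s * x * s⁻¹) = o := congrArg Subtype.val hx
    have hs' : s⁻¹ = s := inv_eq_of_mul_eq_one_right hs
    rw [← hx', show s * ((x : G)⁻¹ * (s * x * s⁻¹)) * s⁻¹ = s * (x : G)⁻¹ * (s * x * (s * s)⁻¹) by group, hs, hs']
    calc s * (x : G)⁻¹ * (s * x * 1⁻¹) = s * (x : G)⁻¹ * s * x := by group
      _ = _ := by simp only [mul_inv_rev, inv_inv, hs'] <;> group
  set z' := l * z * l⁻¹ with hz'
  have hz'2 : z' * z' = 1 := by
    rw [hz', show l * z * l⁻¹ * (l * z * l⁻¹) = l * (z * z) * l⁻¹ by group, h.zz]; group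
  have hz'free : ∀ o ∈ O, o * z' = z' * o → o = 1 := by
    intro o ho e
    have h1 := hfree (l⁻¹ * o * l) (by simpa using hOn.conj_mem o ho l⁻¹) (by
      calc l⁻¹ * o * l * z = l⁻¹ * (o * z') * l := by rw [hz']; group
        _ = _ := by rw [e, hz']; group)
    calc o = l * (l⁻¹ * o * l) * l⁻¹ := by group
      _ = 1 := by rw [h1]; group
  have iz := hinv z h.zz hfree
  have iz' := hinv z' hz'2 hz'free
  by_contra hO
  push Not at hO
  obtain ⟨o₀, ho₀, ho1⟩ := hO
  have hzC : ¬ ∀ o ∈ O, z * o = o * z := fun e => ho1 (hfree o₀ ho₀ (e o₀ ho₀).symm)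
  have hJcap : ∀ j ∈ J, (∀ o ∈ O, j * o = o * j) → π j = 0 := by
    intro j hj hjo
    by_contra hπ
    obtain ⟨v, hv⟩ : ∃ v, bs4 (π j) v ≠ 0 := by
      by_contra hc
      push Not at hc
      exact hπ (bs4_nondeg hc)
    obtain ⟨k, hk, rfl⟩ := h.π_surj v
    have e := (h.comm_cases hj hk).resolve_left fun e => hv ((h.comm_iff hj hk).1 e)
    apply hzC
    intro o ho
    have hk' : ∀ o ∈ O, k * j * k⁻¹ * o = o * (k * j * k⁻¹) := fun o ho => by
      have := hjo (k⁻¹ * o * k) (by simpa using hOn.conj_mem o ho k⁻¹)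
      calc k * j * k⁻¹ * o = k * (j * (k⁻¹ * o * k)) * k⁻¹ := by group
        _ = _ := by rw [this]; group
    have ez : z = j * (k * j * k⁻¹)⁻¹ := by
      calc z = z * (k * j) * (k * j)⁻¹ := by group
        _ = j * k * (k * j)⁻¹ := by rw [e]
        _ = _ := by group
    rw [ez]
    exact Subgroup.mem_centralizer_iff.1 (mul_mem (show j ∈ Subgroup.centralizer (O : Set G) from
      Subgroup.mem_centralizer_iff.2 fun o ho => (hjo o ho).symm) (inv_mem (show k * j * k⁻¹ ∈ Subgroup.centralizer (O : Set G) from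
      Subgroup.mem_centralizer_iff.2 fun o ho => (hk' o ho).symm))) o ho |>.symm
  set w := z * z' with hw
  have hwO : ∀ o ∈ O, w * o = o * w := fun o ho => by
    rw [← mul_inv_eq_iff_eq_mul, hw, show z * z' * o * (z * z')⁻¹ = z * (z' * o * z'⁻¹) * z⁻¹ by group, iz' o ho,
      iz _ (inv_mem ho), inv_inv]
  have hwz : w * z = z * w := by rw [hw, mul_assoc, hc]
  have hwJ : w ∈ J := by
    let wc : ↥(Subgroup.centralizer ({z} : Set G)) := ⟨w, Subgroup.mem_centralizer_singleton_iff.2 hwz⟩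
    refine (h.ker wc).1 (LinearEquiv.ext fun v => ?_)
    obtain ⟨j, hj, rfl⟩ := h.π_surj v
    show ψ wc (π j) = π j
    have hm := h.norm w hwz j hj
    have h0 := hJcap (w * j * w⁻¹ * j⁻¹) (mul_mem hm (inv_mem hj)) fun o ho => by
      have hwC : w ∈ Subgroup.centralizer (O : Set G) := Subgroup.mem_centralizer_iff.2 fun o ho => (hwO o ho).symm
      have hjn : j * w⁻¹ * j⁻¹ ∈ Subgroup.centralizer (O : Set G) := Subgroup.mem_centralizer_iff.2 fun o ho => by
        have h1 := Subgroup.mem_centralizer_iff.1 (inv_mem hwC) (j⁻¹ * o * j) (by simpa using hOn.conj_mem o ho j⁻¹)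
        calc o * (j * w⁻¹ * j⁻¹) = j * (j⁻¹ * o * j * w⁻¹) * j⁻¹ := by group
          _ = _ := by rw [h1]; group
      rw [show w * j * w⁻¹ * j⁻¹ = w * (j * w⁻¹ * j⁻¹) by group]
      exact (Subgroup.mem_centralizer_iff.1 (mul_mem hwC hjn) o ho).symm
    rw [h.π_mul _ hm _ (inv_mem hj), h.π_inv hj, h.act wc j hj] at h0
    calc ψ wc (π j) = ψ wc (π j) + π j + π j := by rw [add_assoc, add_self_V4, add_zero]
      _ = π j := by rw [h0, zero_add]
  have hπw : π w = 0 := hJcap w hwJ hwO
  apply hne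
  have hz'J : z' ∈ J := by
    rw [show z' = z * w by rw [hw, ← mul_assoc, h.zz, one_mul]]; exact mul_mem h.z_mem hwJ
  refine h.conj_eq_of_centre ((h.π_ker _ hz'J).1 ?_)
  rw [show z' = z * w by rw [hw, ← mul_assoc, h.zz, one_mul], h.π_mul z h.z_mem w hwJ, h.π_z, hπw, add_zero]

end Setting

end CfsgLib.Recognition.USixCentral
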