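import Cfsg.Agent.Lib.Recognition.USixCentral.Outer

/-!
# Involutions of the group of semilinear isometries
-/

set_option autoImplicit false
set_option maxRecDepth 100000

namespace CfsgLib.Recognition.USixCentral

open CfsgLib.Recognition.USixTwo
open CfsgLib.Sporadic.LargeFischer (D4 om nzd)

local notation "GL8" => V4 ≃ₗ[ZMod 2] V4

/-- An involution whose fixed space has order 16 and equals its image. -/
def Small (t : GL8) : Prop := {v | t v = v}.ncard = 16 ∧ ∀ v, t v = v → ∃ w, v = t w + w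

theorem conj_apply (c g : GL8) (v : V4) : (c * g * c⁻¹) (c v) = c (g v) := by
  show c (g (c.symm (c v))) = c (g v)
  rw [c.symm_apply_apply]

theorem conj_fixed {c g : GL8} {v : V4} : (c * g * c⁻¹) (c v) = c v ↔ g v = v := by
  rw [conj_apply]; exact c.injective.eq_iff

theorem fixN_nodup (a : List ℕ) : (fixN a).Nodup := List.nodup_range.filter _

theorem ncard_fixed (g : GL8) : {v | g v = v}.ncard = (fixN (cols g)).length := by
  classical
  refine le_antisymm (card_le_of_codes fun v hv => mem_fixN.2 hv) ?_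
  rw [← List.toFinset_card_of_nodup (fixN_nodup _), ← Set.ncard_coe_finset]
  refine (Set.ncard_le_ncard (s := _) (t := code '' {v | g v = v}) ?_ (Set.toFinite _)).trans
    (Set.ncard_image_le (Set.toFinite _))
  intro n hn
  have hn' : n ∈ fixN (cols g) := by simpa using hn
  refine ⟨dec n, ?_, codes_ok n (fixN_lt hn')⟩
  show g (dec n) = dec n
  exact mem_fixN.1 (by rw [codes_ok n (fixN_lt hn')]; exact hn')

theorem ncard_conj (c g : GL8) : {v | (c * g * c⁻¹) v = v}.ncard = {v | g v = v}.ncard := by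
  rw [← Set.ncard_image_of_injective {v | g v = v} c.injective]
  congr 1
  ext v
  constructor
  · intro hv
    refine ⟨c.symm v, ?_, c.apply_symm_apply v⟩
    show g (c.symm v) = c.symm v
    rw [← conj_fixed (c := c), c.apply_symm_apply]; exact hv
  · rintro ⟨w, hw, rfl⟩
    exact conj_fixed.2 hw

theorem code_image (g : GL8) (w : V4) : code (g w + w) = apN (cols g) (code w) ^^^ code w := by
  rw [code_add, code_apply]

/-! ### The transvections -/

theorem tv_image {p : V4} (hq : q4 p = 0) (hp : p ≠ 0) (c : D4) : ∃ w, scl c p = tv p w + w := by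
  obtain ⟨i, hi⟩ := hm_nondeg hp
  obtain ⟨x, hx⟩ := cj_fm _ hi
  refine ⟨scl (fm c x) (ev i), ?_⟩
  rw [tv_apply (hm_self_zero hq), add_comm (scl _ (ev i)), add_assoc, add_self_V4, add_zero, hm_scl_left,
    show fm (fm c x) (hm (ev i) p) = fm c (fm x (hm (ev i) p)) from
      (by decide : ∀ a b d : D4, fm (fm a b) d = fm a (fm b d)) _ _ _, hx,
    show fm c (1, 0) = c from (by decide : ∀ a : D4, fm a (1, 0) = a) c]

theorem tv_line_fixed {p : V4} (hq : q4 p = 0) (hp : p ≠ 0) (c : D4) : tv p (scl c p) = scl c p :=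
  (tv_fixed hq hp).2 (by rw [hm_scl_left, hm_self_zero hq]; exact (by decide : ∀ a : D4, fm a 0 = 0) c)

theorem cols_tv_v0 : cols (tv v0) = tvCols.getD 0 [] := by
  rw [← cols_tvP (i := 0) (by norm_num)]
  congr 1

theorem fix_tv0 : fixN (tvCols.getD 0 []) = perpCodes := by decide +kernel

theorem tv_fixed_card {p : V4} (hq : q4 p = 0) (hp : p ≠ 0) : {v | tv p v = v}.ncard = 64 := by
  obtain ⟨g, hg, rfl⟩ := exists_moving hq hp
  rw [← tv_conj (TG_le hg) v0_hm, ncard_conj, ncard_fixed, cols_tv_v0, fix_tv0, perp_ok.1]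

theorem line_code {n : ℕ} (h : lineN 5 n = true) : n = 0 ∨ n = 5 ∨ n = 10 ∨ n = 15 := by
  rw [lineN, show scN 1 5 = 5 by decide, show scN 2 5 = 10 by decide, show scN 3 5 = 15 by decide] at h
  simp only [Bool.or_eq_true, beq_iff_eq] at h
  tauto

theorem perp_line0 {u : V4} (h : ∀ v, tv v0 v = v → bs4 u v = 0) : ∃ c, u = scl c v0 := by
  refine (lineN_iff _ _).1 ?_
  rw [code_v0]
  have := forall_of_codes perp_perp_ok u
  rw [Bool.or_eq_true] at this
  refine this.resolve_right fun hc => ?_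
  obtain ⟨m, hm', he⟩ := List.any_eq_true.1 hc
  rw [← fix_tv0, ← cols_tv_v0] at hm'
  have hlt := fixN_lt hm'
  have h0 := h (dec m) (mem_fixN.1 (by rw [codes_ok m hlt]; exact hm'))
  rw [bs4_eq] at h0
  have hcd : cd (hm u (dec m)) = hN (code u) m := by rw [cd_hm, codes_ok m hlt]
  have h2 : ∀ a : D4, a.2 = 0 → cd a ≠ 2 ∧ cd a ≠ 3 := by decide
  obtain ⟨n2, n3⟩ := h2 _ h0
  rw [hcd] at n2 n3
  simp only [Bool.or_eq_true, beq_iff_eq] at he
  exact he.elim n2 n3

theorem perp_line {p : V4} (hq : q4 p = 0) (hp : p ≠ 0) {u : V4} (h : ∀ v, tv p v = v → bs4 u v = 0) :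
    ∃ c, u = scl c p := by
  obtain ⟨g, hg, rfl⟩ := exists_moving hq hp
  have hgi : IsIso g := TG_le hg
  obtain ⟨c, hc⟩ := perp_line0 (u := g.symm u) fun v hv => by
    have h1 := h (g v) (by rw [← tv_conj hgi v0_hm]; exact conj_fixed.2 hv)
    rw [bs4, ← hgi.quad (g.symm u + v), ← hgi.quad (g.symm u), ← hgi.quad v, map_add, g.apply_symm_apply, ← bs4, h1]
  exact ⟨c, by rw [← hgi.scl, ← hc, g.apply_symm_apply]⟩

theorem spanL_mem {W : AddSubgroup V4} : ∀ l : List ℕ, (∀ n ∈ l, n < 256 ∧ dec n ∈ W) →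
    ∀ n ∈ spanL l, n < 256 ∧ dec n ∈ W := by
  intro l
  induction l with
  | nil =>
    intro _ n hn
    rw [List.mem_singleton.1 hn]
    refine ⟨by norm_num, ?_⟩
    rw [show dec 0 = (0 : V4) by decide]
    exact zero_mem _
  | cons g l ih =>
    intro h n hn
    have ih' := ih fun m hm => h m (List.mem_cons_of_mem _ hm)
    rw [spanL, List.mem_append, List.mem_map] at hn
    rcases hn with hn | ⟨m, hm, rfl⟩
    · exact ih' n hn
    · obtain ⟨hg, hgW⟩ := h g List.mem_cons_self
      obtain ⟨hm', hmW⟩ := ih' m hm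
      refine ⟨Nat.xor_lt_two_pow (n := 8) hg hm', ?_⟩
      rw [show dec (g ^^^ m) = dec g + dec m from code_injective (by
        rw [code_add, codes_ok g hg, codes_ok m hm', codes_ok _ (Nat.xor_lt_two_pow (n := 8) hg hm')])]
      exact add_mem hgW hmW

/-- The word moving the line, as an element. -/
theorem lineWord_facts : wordE lineWord ∈ TG ∧ wordE lineWord ^ 3 = 1 ∧
    wordE lineWord * tv v0 = tv v0 * wordE lineWord ∧
    ∀ c : D4, c ≠ 0 → wordE lineWord (scl c v0) ≠ scl c v0 := by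
  obtain ⟨-, hv, h3, hc, h5, h10, h15⟩ := words_ok
  refine ⟨wordE_mem hv, cols_injective ?_, cols_injective ?_, fun c hc0 e => ?_⟩
  · rw [pow_three, cols_mul, cols_mul, cols_wordE _ hv, h3, cols_one]
  · rw [cols_mul, cols_mul, cols_wordE _ hv, cols_tv_v0, hc]
  · have e' := congrArg code e
    rw [code_wordE hv, code_scl, code_v0] at e'
    have : ∀ c : D4, c ≠ 0 → scN (cd c) 5 = 5 ∨ scN (cd c) 5 = 10 ∨ scN (cd c) 5 = 15 := by decide
    rcases this c hc0 with x | x | x <;> rw [x] at e'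
    · rw [h5] at e'; norm_num at e'
    · rw [h10] at e'; norm_num at e'
    · rw [h15] at e'; norm_num at e'

theorem line_moved {p : V4} (hq : q4 p = 0) (hp : p ≠ 0) : ∃ h ∈ TG, h ^ 3 = 1 ∧ h * tv p = tv p * h ∧
    ∀ c : D4, c ≠ 0 → h (scl c p) ≠ scl c p := by
  obtain ⟨g, hg, rfl⟩ := exists_moving hq hp
  obtain ⟨h1, h2, h3, h4⟩ := lineWord_facts
  refine ⟨g * wordE lineWord * g⁻¹, mul_mem (mul_mem hg h1) (inv_mem hg), ?_, ?_, fun c hc e => ?_⟩
  · rw [conj_pow, h2, mul_one, mul_inv_cancel]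
  · rw [← tv_conj (TG_le hg) v0_hm, show g * wordE lineWord * g⁻¹ * (g * tv v0 * g⁻¹) =
      g * (wordE lineWord * tv v0) * g⁻¹ by group, h3]
    group
  · rw [← (show IsIso g from TG_le hg).scl, conj_fixed] at e
    exact h4 c hc e

theorem half0 {W : AddSubgroup V4} (hline : ∀ c, scl c v0 ∈ W)
    (hpar : ∀ x y, tv v0 x = x → tv v0 y = y → x ∉ W → y ∉ W → x + y ∈ W)
    (hinv : ∀ g ∈ TG, g * tv v0 = tv v0 * g → ∀ x ∈ W, g x ∈ W) {v : V4} (hv : tv v0 v = v) : v ∈ W := by
  obtain ⟨h1, h3, hc, -⟩ := lineWord_facts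
  set g := wordE lineWord with hg
  have hfix : ∀ x, tv v0 x = x → tv v0 (g x) = g x := fun x hx => by
    rw [show tv v0 (g x) = (tv v0 * g) x from rfl, ← hc, LinearEquiv.mul_apply, hx]
  have key : ∀ x, tv v0 x = x → g x + x ∈ W := fun x hx => by
    by_cases hxW : x ∈ W
    · exact add_mem (hinv g h1 hc x hxW) hxW
    · refine hpar _ _ (hfix x hx) hx (fun hgx => hxW ?_) hxW
      have := hinv g h1 hc _ (hinv g h1 hc _ hgx)
      rwa [show g (g (g x)) = x from by rw [show g (g (g x)) = (g ^ 3) x from rfl, h3]; rfl] at this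
  have hgen : ∀ n ∈ [16, 32, 64, 128], apN (wordCols lineWord) n ^^^ n < 256 ∧
      dec (apN (wordCols lineWord) n ^^^ n) ∈ W := by
    intro n hn
    have hn' : n ∈ fixN (cols (tv v0)) := by
      rw [cols_tv_v0, fix_tv0]; exact List.contains_iff_mem.1 (List.all_eq_true.1 perp_ok.2.2 n hn)
    have hlt := fixN_lt hn'
    have e : code (g (dec n) + dec n) = apN (wordCols lineWord) n ^^^ n := by
      rw [code_add, hg, code_wordE words_ok.2.1, codes_ok n hlt]
    rw [← e, dec_code]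
    exact ⟨code_lt _, key _ (mem_fixN.1 (by rw [codes_ok n hlt]; exact hn'))⟩
  have hall := spanL_mem (W := W) [5, 10, apN (wordCols lineWord) 16 ^^^ 16, apN (wordCols lineWord) 32 ^^^ 32,
    apN (wordCols lineWord) 64 ^^^ 64, apN (wordCols lineWord) 128 ^^^ 128] (by
      intro n hn
      simp only [List.mem_cons, List.not_mem_nil, or_false] at hn
      rcases hn with rfl | rfl | rfl | rfl | rfl | rfl
      · refine ⟨by norm_num, ?_⟩
        rw [show dec 5 = scl (1, 0) v0 by decide]; exact hline _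
      · refine ⟨by norm_num, ?_⟩
        rw [show dec 10 = scl (0, 1) v0 by decide]; exact hline _
      all_goals exact hgen _ (by simp))
  have hmem : code v ∈ perpCodes := by rw [← fix_tv0, ← cols_tv_v0]; exact mem_fixN.2 hv
  have := (hall _ (List.contains_iff_mem.1 (List.all_eq_true.1 perp_ok.2.1 _ hmem))).2
  rwa [dec_code] at this

/-- An invariant part of index at most two of the fixed space containing the line is all of it. -/
theorem half {p : V4} (hq : q4 p = 0) (hp : p ≠ 0) {W : AddSubgroup V4} (hline : ∀ c, scl c p ∈ W)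
    (hpar : ∀ x y, tv p x = x → tv p y = y → x ∉ W → y ∉ W → x + y ∈ W)
    (hinv : ∀ g ∈ TG, g * tv p = tv p * g → ∀ x ∈ W, g x ∈ W) {v : V4} (hv : tv p v = v) : v ∈ W := by
  obtain ⟨g, hg, rfl⟩ := exists_moving hq hp
  have hgi : IsIso g := TG_le hg
  have e : tv (g v0) = g * tv v0 * g⁻¹ := (tv_conj hgi v0_hm).symm
  have := half0 (W := W.comap g.toLinearMap.toAddMonoidHom) (fun c => ?_) (fun x y hx hy nx ny => ?_)
    (fun k hk hkc x hx => ?_) (v := g.symm v) ?_
  · simpa using this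
  · show g (scl c v0) ∈ W
    rw [hgi.scl]; exact hline c
  · show g (x + y) ∈ W
    rw [map_add]
    exact hpar _ _ (by rw [e]; exact conj_fixed.2 hx) (by rw [e]; exact conj_fixed.2 hy) nx ny
  · show g (k x) ∈ W
    have := hinv (g * k * g⁻¹) (mul_mem (mul_mem hg hk) (inv_mem hg)) (by
      rw [e, show g * k * g⁻¹ * (g * tv v0 * g⁻¹) = g * (k * tv v0) * g⁻¹ by group, hkc]; group) (g x) hx
    rwa [conj_apply] at this
  · rw [← conj_fixed (c := g), ← e, g.apply_symm_apply]; exact hv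

theorem pow405_cols (g : GL8) : pow405 (cols g) = cols (g ^ 405) := by
  have e : ∀ a b : ℕ, mulCols (cols (g ^ a)) (cols (g ^ b)) = cols (g ^ (a + b)) := fun a b => by
    rw [← cols_mul, pow_add]
  have h1 : cols g = cols (g ^ 1) := by rw [pow_one]
  rw [h1]
  simp only [pow405, e]

namespace Outer4

variable {K : Subgroup GL8} (h : Outer4 K)
include h

/-- The two kinds of involutions. -/
theorem inv_cases {t : GL8} (ht : t ∈ K) (h2 : t * t = 1) (h1 : t ≠ 1) :
    (∃ p, q4 p = 0 ∧ p ≠ 0 ∧ t = tv p) ∨ Small t := by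
  obtain ⟨c, hc, hm'⟩ := h.conj_inv ht h2 h1
  have e := List.all_eq_true.1 case_ok _ hm'
  rw [Bool.or_eq_true] at e
  rcases e with e | e
  · obtain ⟨i, hi⟩ := of_tvCols (List.contains_iff_mem.1 e)
    obtain ⟨hq, hp⟩ := ptV_q _ i.2
    refine Or.inl ⟨c⁻¹ (ptV i), by rw [h.quad _ (inv_mem hc), hq],
      fun e0 => hp ((c⁻¹ : GL8).injective (e0.trans (map_zero _).symm)), ?_⟩
    rw [← h.tv_map (inv_mem hc) hq, inv_inv, show tv (ptV i) = tvP i from rfl, ← hi]
    group
  · rw [Bool.and_eq_true, beq_iff_eq] at e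
    refine Or.inr ⟨by rw [← ncard_conj c t, ncard_fixed, e.1], fun v hv => ?_⟩
    have hn : code (c v) ∈ fixN (cols (c * t * c⁻¹)) := mem_fixN.2 (conj_fixed.2 hv)
    obtain ⟨m, hm1, hm2⟩ := List.any_eq_true.1 (List.all_eq_true.1 e.2 _ hn)
    have hlt := List.mem_range.1 hm1
    refine ⟨c.symm (dec m), c.injective (code_injective ?_)⟩
    rw [map_add, ← conj_apply, c.apply_symm_apply, code_image, codes_ok m hlt]
    exact (beq_iff_eq.1 hm2).symm

theorem singular_image {t : GL8} (ht : t ∈ K) (h2 : t * t = 1) (h1 : t ≠ 1) :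
    ∃ w, q4 (t w + w) = 0 ∧ t w + w ≠ 0 := by
  obtain ⟨c, hc, hm'⟩ := h.conj_inv ht h2 h1
  obtain ⟨m, hm1, e⟩ := List.any_eq_true.1 (List.all_eq_true.1 sing_ok _ hm')
  have hlt := List.mem_range.1 hm1
  simp only [Bool.and_eq_true, bne_iff_ne, Bool.not_eq_true'] at e
  refine ⟨c.symm (dec m), ?_⟩
  have he : code (c (t (c.symm (dec m)) + c.symm (dec m))) = apN (cols (c * t * c⁻¹)) m ^^^ m := by
    rw [map_add, ← conj_apply, c.apply_symm_apply, code_image, codes_ok m hlt]
  refine ⟨?_, fun e0 => e.1 ?_⟩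
  · rw [← h.quad c hc, q4_eq_zero_iff, he]; exact e.2
  · rw [← he, e0, map_zero, code_zero]

/-- An involution centralised by a Sylow 2-subgroup is a transvection. -/
theorem central {Q : Subgroup GL8} (hQ : Q ≤ K) (h2 : IsPGroup 2 Q) (hcard : 128 ≤ Nat.card Q) {t : GL8}
    (htQ : t ∈ Q) (ht2 : t * t = 1) (ht1 : t ≠ 1) (hcen : ∀ g ∈ Q, g * t = t * g) :
    ∃ p, q4 p = 0 ∧ p ≠ 0 ∧ t = tv p := by
  haveI := gl_finite
  obtain ⟨c, hc, hmem⟩ := h.conj_into_PS hQ h2
  have heq : Q.map (MulAut.conj c).toMonoidHom = PS := by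
    refine Subgroup.eq_of_le_of_card_ge ?_ ?_
    · rintro _ ⟨g, hg, rfl⟩; exact hmem g hg
    · rw [PS_card, Subgroup.card_map_of_injective (MulAut.conj c).injective]; exact hcard
  have hi := mem_invCols (hmem t htQ)
    (by rw [show c * t * c⁻¹ * (c * t * c⁻¹) = c * (t * t) * c⁻¹ by group, ht2, mul_one, mul_inv_cancel])
    (fun e => ht1 (by rw [mul_inv_eq_one] at e; exact mul_eq_left.1 e))
  have e := List.all_eq_true.1 central_ok _ hi
  rw [Bool.or_eq_true, beq_iff_eq] at e
  rcases e with e | e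
  · refine ⟨c⁻¹ v0, by rw [h.quad _ (inv_mem hc), v0_facts.1],
      fun e0 => v0_facts.2 ((c⁻¹ : GL8).injective (e0.trans (map_zero _).symm)), ?_⟩
    rw [← cols_tv_v0] at e
    rw [← h.tv_map (inv_mem hc) v0_facts.1, ← cols_injective e]
    group
  · obtain ⟨b, hb, hne⟩ := List.any_eq_true.1 e
    obtain ⟨g, hg, hgc⟩ : ∃ g ∈ PS, cols g = b := by
      rw [psCols, List.mem_append, List.mem_map] at hb
      rcases hb with hb | ⟨l, hl, rfl⟩
      · obtain ⟨w, -, -, hw⟩ := syl_word hb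
        exact ⟨wordE w, Or.inl (by rw [mem_TS, hw]; exact hb), hw⟩
      · obtain ⟨w, -, -, hw⟩ := syl_word hl
        refine ⟨sigma * wordE w, Or.inr ?_, by rw [cols_sigma_mul, hw]⟩
        rw [← mul_assoc, sigma_mul_self, one_mul, mem_TS, hw]; exact hl
    rw [← heq] at hg
    obtain ⟨g', hg', rfl⟩ := hg
    exfalso
    rw [bne_iff_ne] at hne
    apply hne
    rw [← hgc, ← cols_mul, ← cols_mul]
    congr 1
    show c * t * c⁻¹ * (c * g' * c⁻¹) = c * g' * c⁻¹ * (c * t * c⁻¹)
    calc c * t * c⁻¹ * (c * g' * c⁻¹) = c * (t * g') * c⁻¹ := by group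
      _ = _ := by rw [← hcen g' hg']; group

/-- Two commuting involutions go into the Sylow subgroup together. -/
theorem conj_two {s t : GL8} (hs : s ∈ K) (ht : t ∈ K) (hs2 : s * s = 1) (ht2 : t * t = 1) (hs1 : s ≠ 1)
    (ht1 : t ≠ 1) (hcomm : s * t = t * s) :
    ∃ c ∈ K, cols (c * s * c⁻¹) ∈ invCols ∧ cols (c * t * c⁻¹) ∈ invCols := by
  haveI := gl_finite
  have h2 : IsPGroup 2 (Subgroup.closure ({s, t} : Set GL8)) := by
    intro ⟨x, hx⟩
    refine ⟨1, Subtype.ext ?_⟩
    show x ^ (2 ^ 1) = 1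
    have : x = 1 ∨ x = s ∨ x = t ∨ x = s * t := by
      induction hx using Subgroup.closure_induction with
      | mem y hy => simp only [Set.mem_insert_iff, Set.mem_singleton_iff] at hy; tauto
      | one => exact Or.inl rfl
      | mul a b _ _ ha hb =>
        have e1 : s * (s * t) = t := by rw [← mul_assoc, hs2, one_mul]
        have e2 : t * (s * t) = s := by rw [hcomm, ← mul_assoc, ht2, one_mul]
        have e3 : s * t * s = t := by rw [hcomm, mul_assoc, hs2, mul_one]
        have e4 : s * t * t = s := by rw [mul_assoc, ht2, mul_one]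
        have e5 : s * t * (s * t) = 1 := by rw [mul_assoc, e2, hs2]
        rcases ha with rfl | rfl | rfl | rfl <;> rcases hb with rfl | rfl | rfl | rfl <;>
          first
            | (simp only [one_mul, mul_one, hs2, ht2, hcomm.symm, e1, e2, e3, e4, e5]; tauto)
      | inv a _ ha =>
        rcases ha with rfl | rfl | rfl | rfl
        · simp
        · rw [inv_eq_of_mul_eq_one_right hs2]; tauto
        · rw [inv_eq_of_mul_eq_one_right ht2]; tauto
        · rw [mul_inv_rev, inv_eq_of_mul_eq_one_right hs2, inv_eq_of_mul_eq_one_right ht2, ← hcomm]; tauto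
    rcases this with rfl | rfl | rfl | rfl
    · simp
    · rw [pow_one, pow_two, hs2]
    · rw [pow_one, pow_two, ht2]
    · rw [pow_one, pow_two, mul_assoc, ← mul_assoc t, ← hcomm, mul_assoc, ht2, mul_one, hs2]
  obtain ⟨c, hc, hmem⟩ := h.conj_into_PS ((Subgroup.closure_le _).2 (by
    rintro x hx; rcases hx with rfl | rfl <;> assumption)) h2
  refine ⟨c, hc, mem_invCols (hmem s (Subgroup.subset_closure (by simp))) ?_ ?_,
    mem_invCols (hmem t (Subgroup.subset_closure (by simp))) ?_ ?_⟩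
  · rw [show c * s * c⁻¹ * (c * s * c⁻¹) = c * (s * s) * c⁻¹ by group, hs2, mul_one, mul_inv_cancel]
  · exact fun e => hs1 (by rw [mul_inv_eq_one] at e; exact mul_eq_left.1 e)
  · rw [show c * t * c⁻¹ * (c * t * c⁻¹) = c * (t * t) * c⁻¹ by group, ht2, mul_one, mul_inv_cancel]
  · exact fun e => ht1 (by rw [mul_inv_eq_one] at e; exact mul_eq_left.1 e)

theorem tv_mem {p : V4} (hq : q4 p = 0) (hp : p ≠ 0) : tv p ∈ K := h.tg (tv_mem_TG h.model hq hp)

theorem tv_conj_tvCols {c : GL8} (hc : c ∈ K) {p : V4} (hq : q4 p = 0) (hp : p ≠ 0) :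
    cols (c * tv p * c⁻¹) ∈ tvCols := by
  obtain ⟨i, hi⟩ := exists_tvP (v := c p) (by rw [h.quad c hc, hq])
    fun e0 => hp (c.injective (e0.trans (map_zero _).symm))
  rw [h.tv_map hc hq, hi]; exact tvCols_tvP i

theorem small_not_tvCols {c t : GL8} (ht : Small t) : cols (c * t * c⁻¹) ∉ tvCols := by
  intro hm'
  obtain ⟨i, hi⟩ := of_tvCols hm'
  have := ncard_conj c t
  rw [hi, ht.1, show tvP i = tv (ptV i) from rfl, tv_fixed_card (ptV_q _ i.2).1 (ptV_q _ i.2).2] at this
  norm_num at this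

/-- Two transvections have at most sixteen common fixed vectors. -/
theorem tv_tv {a b : V4} (ha : q4 a = 0) (hb : q4 b = 0) (ha0 : a ≠ 0) (hb0 : b ≠ 0)
    (hcomm : tv a * tv b = tv b * tv a) (hne : tv a ≠ tv b) : {v | tv a v = v ∧ tv b v = v}.ncard ≤ 16 := by
  obtain ⟨c, hc, h1, h2⟩ := h.conj_two (h.tv_mem ha ha0) (h.tv_mem hb hb0) (tv_mul_self a) (tv_mul_self b)
    (tv_ne_one ha ha0) (tv_ne_one hb hb0) hcomm
  have e := List.all_eq_true.1 (List.all_eq_true.1 tv_tv_ok _ h1) _ h2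
  rw [List.contains_iff_mem.2 (h.tv_conj_tvCols hc ha ha0), List.contains_iff_mem.2 (h.tv_conj_tvCols hc hb hb0),
    beq_eq_false_iff_ne.2 (fun e0 => hne (mul_left_cancel (mul_right_cancel (cols_injective e0)))),
    Bool.and_self, Bool.not_true, Bool.false_or, Bool.false_or, decide_eq_true_eq] at e
  rw [← Set.ncard_image_of_injective _ c.injective]
  refine (card_le_of_codes ?_).trans e
  rintro _ ⟨v, ⟨hva, hvb⟩, rfl⟩
  refine List.mem_filter.2 ⟨mem_fixN.2 (conj_fixed.2 hva), beq_iff_eq.2 ?_⟩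
  rw [← code_apply, conj_fixed.2 hvb]

theorem odd_pow {g : GL8} (hg : g ∈ K) {n : ℕ} (hn : Odd n) (e : g ^ n = 1) : g ^ 405 = 1 := by
  haveI := gl_finite
  refine orderOf_dvd_iff_pow_eq_one.1 ?_
  have hd : orderOf g ∣ 51840 := h.card ▸ Subgroup.orderOf_dvd_natCard K hg
  have ho : Odd (orderOf g) := hn.of_dvd_nat (orderOf_dvd_of_pow_eq_one e)
  have hcop : Nat.Coprime (orderOf g) (2 ^ 7) := Nat.Coprime.pow_right _ (Nat.coprime_two_right.2 ho)
  exact hcop.dvd_of_dvd_mul_left (by norm_num; exact hd)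

/-- Small involutions with the same singular fixed vectors are told apart by an element of order three. -/
theorem pair {s t : GL8} (hs : s ∈ K) (ht : t ∈ K) (hs2 : s * s = 1) (ht2 : t * t = 1) (hs1 : s ≠ 1) (ht1 : t ≠ 1)
    (hcomm : s * t = t * s) (hne : s ≠ t) (hS : Small s) (hT : Small t)
    (hfix : ∀ v, q4 v = 0 → (s v = v ↔ t v = v)) :
    ∃ g ∈ TG, g ^ 3 = 1 ∧ g * s = s * g ∧ ∀ n, Odd n → (g * t * g⁻¹ * t) ^ n ≠ 1 := by
  obtain ⟨c, hc, h1, h2⟩ := h.conj_two hs ht hs2 ht2 hs1 ht1 hcomm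
  have e := List.all_eq_true.1 (List.all_eq_true.1 pair_ok _ h1) _ h2
  set s' := c * s * c⁻¹ with hs'
  set t' := c * t * c⁻¹ with ht'
  have f1 : ¬ cols s' = cols t' := fun e0 => hne (mul_left_cancel (mul_right_cancel (cols_injective e0)))
  have f2 : mulCols (cols s') (cols t') = mulCols (cols t') (cols s') := by
    rw [← cols_mul, ← cols_mul, hs', ht', show c * s * c⁻¹ * (c * t * c⁻¹) = c * (s * t) * c⁻¹ by group, hcomm]
    congr 1; group
  have f3 : (fixN (cols s')).filter (fun n => !qN n) = (fixN (cols t')).filter (fun n => !qN n) := by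
    simp only [fixN, List.filter_filter]
    refine List.filter_congr fun n hn => ?_
    cases hq : qN n
    · simp only [Bool.not_false, Bool.true_and]
      have hlt := List.mem_range.1 hn
      have hq' : q4 (c.symm (dec n)) = 0 := by
        rw [← h.quad c hc, c.apply_symm_apply, q4_eq_zero_iff, codes_ok n hlt, hq]
      have key : ∀ f : GL8, (apN (cols (c * f * c⁻¹)) n == n) = true ↔ f (c.symm (dec n)) = c.symm (dec n) := by
        intro f
        rw [beq_iff_eq, ← conj_fixed (c := c), c.apply_symm_apply]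
        conv_lhs => rw [← codes_ok n hlt, ← code_apply]
        exact code_injective.eq_iff
      rw [Bool.eq_iff_iff, key, key, hfix _ hq']
    · simp
  rw [beq_eq_false_iff_ne.2 f1, List.contains_iff_mem.not.2 (h.small_not_tvCols hS) |> Bool.eq_false_iff.2,
    List.contains_iff_mem.not.2 (h.small_not_tvCols hT) |> Bool.eq_false_iff.2, f2, bne_self_eq_false, f3,
    bne_self_eq_false, Bool.false_or, Bool.false_or, Bool.false_or, Bool.false_or, Bool.false_or] at e
  obtain ⟨w, hw, e⟩ := List.any_eq_true.1 e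
  have hwv := List.all_eq_true.1 words_ok.1 w hw
  simp only [Bool.and_eq_true, beq_iff_eq] at hwv
  simp only [Bool.and_eq_true, beq_iff_eq, bne_iff_ne] at e
  set W := wordE w with hW
  have hcols : cols W = wordCols w := cols_wordE _ hwv.1
  have hW3 : W ^ 3 = 1 := cols_injective (by rw [pow_three, cols_mul, cols_mul, hcols, hwv.2, cols_one])
  have hWK : W ∈ K := h.tg (wordE_mem hwv.1)
  have hWc : W * s' = s' * W := cols_injective (by rw [cols_mul W s', cols_mul s' W, hcols, e.1])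
  have hodd : ∀ n, Odd n → (W * t' * W⁻¹ * t') ^ n ≠ 1 := by
    intro n hn hp
    have ht'K : t' ∈ K := mul_mem (mul_mem hc ht) (inv_mem hc)
    have := h.odd_pow (mul_mem (mul_mem (mul_mem hWK ht'K) (inv_mem hWK)) ht'K) hn hp
    apply e.2
    have hinv : W⁻¹ = W * W := inv_eq_of_mul_eq_one_right (by rw [← hW3, pow_three])
    rw [← hcols, ← cols_mul, ← cols_mul W W, ← hinv, ← cols_mul, ← cols_mul, ← cols_one, ← this]
    exact pow405_cols _
  refine ⟨c⁻¹ * W * c, ?_, ?_, ?_, fun n hn hp => hodd n hn ?_⟩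
  · simpa using h.normal (inv_mem hc) (wordE_mem hwv.1)
  · rw [show c⁻¹ * W * c = c⁻¹ * W * c⁻¹⁻¹ by rw [inv_inv], conj_pow, hW3]
    group
  · rw [show c⁻¹ * W * c * s = c⁻¹ * (W * s') * c by rw [hs']; group, hWc, hs']
    group
  · rw [show W * t' * W⁻¹ * t' = c * (c⁻¹ * W * c * t * (c⁻¹ * W * c)⁻¹ * t) * c⁻¹ by rw [ht']; group,
      conj_pow, hp, mul_one, mul_inv_cancel]

/-- An element fixing the fixed space of a transvection pointwise squares to one. -/
theorem sq_of_fix {g : GL8} (hg : g ∈ K) {p : V4} (hq : q4 p = 0) (hp : p ≠ 0)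
    (hfix : ∀ v, tv p v = v → g v = v) : g * g = 1 := by
  refine eq_one_of_fixed fun x => ?_
  obtain ⟨c, hc⟩ := perp_line hq hp (u := g x + x) fun v hv => by
    have h1 := h.bs hg x v
    rw [hfix v hv] at h1
    rw [bs4_eq, hm_add_left, Prod.snd_add, ← bs4_eq, ← bs4_eq, h1, CharTwo.add_self_eq_zero]
  have h2 := hfix _ (tv_line_fixed hq hp c)
  rw [← hc, map_add] at h2
  show g (g x) = x
  calc g (g x) = g (g x) + g x + g x := by rw [add_assoc, add_self_V4, add_zero]
    _ = g x + x + g x := by rw [h2]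
    _ = x := by rw [add_comm (g x) x, add_assoc, add_self_V4, add_zero]

end Outer4

end CfsgLib.Recognition.USixCentral
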