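import Cfsg.Agent.Lib.Recognition.USixCentral.Setting

/-!
# The centraliser in `J` of an involution outside it
-/

set_option autoImplicit false
set_option linter.unusedSectionVars false

namespace CfsgLib.Recognition.USixCentral

open CfsgLib.Recognition.USixTwo
open CfsgLib.Sporadic.LargeFischer (D4 om nzd)

variable {G : Type*} [Group G] [Finite G]

/-- A vector has a lift centralised by the element. -/
def Lifted (J : Subgroup G) (π : G → V4) (y : G) (v : V4) : Prop := ∃ j ∈ J, π j = v ∧ j * y = y * j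

/-- Every fixed vector has such a lift. -/
def Full (J : Subgroup G) (π : G → V4) (t : V4 ≃ₗ[ZMod 2] V4) (y : G) : Prop := ∀ v, t v = v → Lifted J π y v

/-- An involution of the centraliser outside `J` commuting with `a`. -/
structure Out (z a : G) (J : Subgroup G) (y : ↥(Subgroup.centralizer ({z} : Set G))) : Prop where
  comm_a : (y : G) * a = a * y
  sq : (y : G) * y = 1
  not_mem : (y : G) ∉ J

theorem bs4_self (v : V4) : bs4 v v = 0 := by
  rw [bs4, add_self_V4, add_assoc, CharTwo.add_self_eq_zero, add_zero]; decide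

theorem bs4_zero_left (v : V4) : bs4 0 v = 0 := by
  rw [bs4, zero_add, show q4 0 = 0 by decide, add_zero, CharTwo.add_self_eq_zero]

theorem bs4_zero_right (v : V4) : bs4 v 0 = 0 := by rw [bs4_eq, hm_zero_right]; rfl

namespace Setting

variable {z a : G} {J : Subgroup G} {π : G → V4} {ψ : ↥(Subgroup.centralizer ({z} : Set G)) →* (V4 ≃ₗ[ZMod 2] V4)}
  (h : Setting z a J π ψ)
include h

theorem centre_sq {c : G} (hc : c = 1 ∨ c = z ∨ c = a ∨ c = z * a) : c * c = 1 := by
  rcases hc with rfl | rfl | rfl | rfl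
  · rw [mul_one]
  · exact h.zz
  · exact h.aa
  · exact h.za_sq

theorem centre_mem {c : G} (hc : c = 1 ∨ c = z ∨ c = a ∨ c = z * a) : c ∈ J := by
  rcases hc with rfl | rfl | rfl | rfl
  exacts [one_mem _, h.z_mem, h.a_mem, h.za_mem]

variable {y : ↥(Subgroup.centralizer ({z} : Set G))} (hy : Out z a J y)
include hy

theorem y_z : (y : G) * z = z * y := Subgroup.mem_centralizer_singleton_iff.1 y.2

theorem psi_sq : ψ y * ψ y = 1 := by rw [← map_mul, show y * y = 1 from Subtype.ext hy.sq, map_one]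

theorem psi_ne : ψ y ≠ 1 := fun e => hy.not_mem ((h.ker y).1 e)

theorem y_inv : ((y : G))⁻¹ = y := inv_eq_of_mul_eq_one_right hy.sq

theorem comm_centre {c : G} (hc : c = 1 ∨ c = z ∨ c = a ∨ c = z * a) : (y : G) * c = c * y :=
  h.centre_comm (h.y_z hy) hy.comm_a hc

theorem lift_unique {j k : G} (hj : j ∈ J) (hk : k ∈ J) (e : π k = π j) (hc : k * (y : G) = y * k) :
    j * (y : G) = y * j := by
  have hcy := h.comm_centre hy (h.π_eq hk hj e)
  calc j * (y : G) = k * (k⁻¹ * j * y) := by group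
    _ = k * y * (k⁻¹ * j) := by rw [← hcy]; group
    _ = _ := by rw [hc]; group

theorem lifted_fixed {v : V4} (hv : Lifted J π (y : G) v) : ψ y v = v := by
  obtain ⟨j, hj, rfl, hc⟩ := hv
  rw [← h.act y j hj, show (y : G) * j * (y : G)⁻¹ = j by rw [← hc, mul_inv_cancel_right]]

theorem image_lift {k : G} (hk : k ∈ J) :
    ∃ d ∈ J, π d = ψ y (π k) + π k ∧ k * (y : G) * k⁻¹ = y * d ∧ ((y : G) * d * y = d⁻¹) := by
  refine ⟨(y : G) * k * y * k⁻¹, mul_mem ?_ (inv_mem hk), ?_, ?_, ?_⟩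
  · have := h.norm y (h.y_z hy) k hk
    rwa [h.y_inv hy] at this
  · have hmem := h.norm y (h.y_z hy) k hk
    rw [h.y_inv hy] at hmem
    rw [h.π_mul _ hmem _ (inv_mem hk), h.π_inv hk, ← h.act y k hk, h.y_inv hy]
  · calc k * (y : G) * k⁻¹ = (y : G) * y * (k * y * k⁻¹) := by rw [hy.sq, one_mul]
      _ = _ := by group
  · calc (y : G) * ((y : G) * k * y * k⁻¹) * y = (y : G) * y * k * y * k⁻¹ * y := by group
      _ = k * y * k⁻¹ * y := by rw [hy.sq, one_mul]
      _ = k * (y : G)⁻¹ * k⁻¹ * (y : G)⁻¹ := by rw [h.y_inv hy]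
      _ = _ := by group

/-- A vector of the image lifts exactly when it is singular. -/
theorem lifted_image (w : V4) : Lifted J π (y : G) (ψ y w + w) ↔ q4 (ψ y w + w) = 0 := by
  obtain ⟨k, hk, rfl⟩ := h.π_surj w
  obtain ⟨d, hd, hπ, -, hinv⟩ := h.image_lift hy hk
  rw [← hπ]
  constructor
  · rintro ⟨j, hj, hje, hc⟩
    have hdc := h.lift_unique hy hd hj hje hc
    rw [← hdc, mul_assoc, hy.sq, mul_one] at hinv
    by_contra hq
    have := h.sq d hd
    rw [if_neg hq] at this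
    rw [show d * d = 1 by nth_rw 1 [hinv]; rw [inv_mul_cancel]] at this
    exact ne_one_of_order_two h.ord_z this.symm
  · intro hq
    refine ⟨d, hd, rfl, ?_⟩
    have := h.sq d hd
    rw [if_pos hq] at this
    rw [inv_eq_of_mul_eq_one_right this] at hinv
    calc d * (y : G) = (y : G) * d * y * y := by rw [hinv]
      _ = _ := by rw [mul_assoc, hy.sq, mul_one]

theorem small_lifted (hS : Small (ψ y)) (v : V4) : Lifted J π (y : G) v ↔ ψ y v = v ∧ q4 v = 0 := by
  constructor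
  · intro hl
    have hfix := h.lifted_fixed hy hl
    refine ⟨hfix, ?_⟩
    obtain ⟨w, rfl⟩ := hS.2 v hfix
    exact (h.lifted_image hy w).1 hl
  · rintro ⟨hfix, hq⟩
    obtain ⟨w, rfl⟩ := hS.2 v hfix
    exact (h.lifted_image hy w).2 hq

theorem conj_lift {j : G} (hj : j ∈ J) (hfix : ψ y (π j) = π j) :
    ∃ c, (c = 1 ∨ c = z ∨ c = a ∨ c = z * a) ∧ (y : G) * j * (y : G)⁻¹ = j * c := by
  refine ⟨j⁻¹ * ((y : G) * j * (y : G)⁻¹), h.π_eq hj (h.norm y (h.y_z hy) j hj) ?_, by group⟩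
  rw [h.act y j hj, hfix]

/-- For a transvection the commutators of fixed vectors lie in the group of `z`. -/
theorem tv_commutator {p : V4} (hq : q4 p = 0) (hp : p ≠ 0) (ht : ψ y = tv p) {j : G} (hj : j ∈ J)
    (hfix : tv p (π j) = π j) : (y : G) * j * (y : G)⁻¹ = j ∨ (y : G) * j * (y : G)⁻¹ = j * z := by
  let S : V4 → Prop := fun v => ∀ j ∈ J, π j = v → (y : G) * j * (y : G)⁻¹ = j ∨ (y : G) * j * (y : G)⁻¹ = j * z
  let W : AddSubgroup V4 :=
    { carrier := {v | S v}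
      zero_mem' := fun j hj e => Or.inl (by rw [h.comm_centre hy ((h.π_ker j hj).1 e), mul_inv_cancel_right])
      add_mem' := by
        intro u v hu hv j hj e
        obtain ⟨k, hk, rfl⟩ := h.π_surj u
        have hm := mul_mem (inv_mem hk) hj
        have e2 : π (k⁻¹ * j) = v := by
          rw [h.π_mul _ (inv_mem hk) _ hj, h.π_inv hk, e, ← add_assoc, add_self_V4, zero_add]
        have hkj : (y : G) * j * (y : G)⁻¹ = ((y : G) * k * (y : G)⁻¹) * ((y : G) * (k⁻¹ * j) * (y : G)⁻¹) := by group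
        rw [hkj]
        have hz : z * (k⁻¹ * j) = k⁻¹ * j * z := (h.z_cent _ hm).symm
        rcases hu k hk rfl with a1 | a1 <;> rcases hv _ hm e2 with b1 | b1 <;> rw [a1, b1]
        · exact Or.inl (by group)
        · exact Or.inr (by group)
        · exact Or.inr (by rw [mul_assoc, hz]; group)
        · exact Or.inl (by rw [mul_assoc, ← mul_assoc z, hz, mul_assoc _ z z, h.zz]; group)
      neg_mem' := fun {v} hv j hj e => hv j hj (by rw [e]; funext i; exact neg_eq_iff_eq_neg.2 (CharTwo.neg_eq _).symm) }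
  refine half hq hp (W := W) ?_ ?_ ?_ hfix j hj rfl
  · intro c k hk e
    obtain ⟨w, hw⟩ := tv_image hq hp c
    have hl : Lifted J π (y : G) (π k) := by
      rw [e, hw, ← ht, h.lifted_image hy, ht, ← hw]; exact q4_scl hq c
    obtain ⟨k', hk', ek, hc⟩ := hl
    exact Or.inl (by rw [← h.lift_unique hy hk hk' ek hc, mul_inv_cancel_right])
  · intro u v hu hv nu nv k hk e
    obtain ⟨ju, hju, nju⟩ : ∃ ju, ju ∈ J ∧ π ju = u ∧
        ¬ ((y : G) * ju * (y : G)⁻¹ = ju ∨ (y : G) * ju * (y : G)⁻¹ = ju * z) := by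
      have nu' : ¬ S u := nu
      simp only [S, not_forall] at nu'
      obtain ⟨x, hx, hx', hx''⟩ := nu'
      exact ⟨x, hx, hx', hx''⟩
    obtain ⟨nju', nju⟩ := nju
    have hm := mul_mem (inv_mem hju) hk
    have e2 : π (ju⁻¹ * k) = v := by
      rw [h.π_mul _ (inv_mem hju) _ hk, h.π_inv hju, nju', e, ← add_assoc, add_self_V4, zero_add]
    obtain ⟨jv, hjv, njv', njv⟩ : ∃ jv, jv ∈ J ∧ π jv = v ∧
        ¬ ((y : G) * jv * (y : G)⁻¹ = jv ∨ (y : G) * jv * (y : G)⁻¹ = jv * z) := by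
      have nv' : ¬ S v := nv
      simp only [S, not_forall] at nv'
      obtain ⟨x, hx, hx', hx''⟩ := nv'
      exact ⟨x, hx, hx', hx''⟩
    have hjvc := h.π_eq hjv hm (njv'.trans e2.symm)
    obtain ⟨cu, hcu, eu⟩ := h.conj_lift hy hju (by rw [nju', ht]; exact hu)
    obtain ⟨cv, hcv, ev'⟩ := h.conj_lift hy hjv (by rw [njv', ht]; exact hv)
    set ζ := jv⁻¹ * (ju⁻¹ * k) with hζ
    have hζy : (y : G) * ζ * (y : G)⁻¹ = ζ := by rw [h.comm_centre hy hjvc, mul_inv_cancel_right]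
    have ek : (y : G) * k * (y : G)⁻¹ = ju * cu * (jv * cv) * ζ := by
      calc (y : G) * k * (y : G)⁻¹ = ((y : G) * ju * (y : G)⁻¹) * ((y : G) * jv * (y : G)⁻¹) *
            ((y : G) * ζ * (y : G)⁻¹) := by rw [hζ]; group
        _ = _ := by rw [eu, ev', hζy]
    have hcuc : cu * jv = jv * cu := (h.centre_comm (h.z_cent jv hjv) (h.a_cent jv hjv) hcu).symm
    have hzj : ∀ c, (c = 1 ∨ c = z ∨ c = a ∨ c = z * a) → c * ζ = ζ * c := fun c hc =>
      (h.centre_comm (h.z_cent ζ (mul_mem (inv_mem hjv) hm)) (h.a_cent ζ (mul_mem (inv_mem hjv) hm)) hc).symm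
    have ecu : cu = a ∨ cu = z * a := by
      rcases hcu with rfl | rfl | x | x
      · exact absurd (Or.inl (by rw [eu, mul_one])) nju
      · exact absurd (Or.inr eu) nju
      · exact Or.inl x
      · exact Or.inr x
    have ecv : cv = a ∨ cv = z * a := by
      rcases hcv with rfl | rfl | x | x
      · exact absurd (Or.inl (by rw [ev', mul_one])) njv
      · exact absurd (Or.inr ev') njv
      · exact Or.inl x
      · exact Or.inr x
    have ek' : (y : G) * k * (y : G)⁻¹ = k * (cu * cv) := by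
      rw [ek, show ju * cu * (jv * cv) * ζ = ju * (cu * jv) * (cv * ζ) by group, hcuc, hzj cv hcv,
        show ju * (jv * cu) * (ζ * cv) = ju * jv * (cu * ζ) * cv by group, hzj cu hcu, hζ]
      group
    rcases ecu with x | x <;> rcases ecv with x' | x' <;> rw [x, x'] at ek'
    · exact Or.inl (by rw [ek', h.aa, mul_one])
    · exact Or.inr (by rw [ek', ← mul_assoc a, h.za, mul_assoc z, h.aa, mul_one])
    · exact Or.inr (by rw [ek', mul_assoc z, h.aa, mul_one])
    · exact Or.inl (by rw [ek', h.za_sq, mul_one])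
  · intro g hg hgc v hv k hk e
    obtain ⟨c, rfl⟩ := h.outer.tg hg
    have hcz := Subgroup.mem_centralizer_singleton_iff.1 c.2
    have hm : (c : G)⁻¹ * k * c ∈ J := by
      have := h.norm (c : G)⁻¹ (Subgroup.mem_centralizer_singleton_iff.1 (inv_mem c.2)) k hk
      rwa [inv_inv] at this
    have ekc : (c : G) * ((c : G)⁻¹ * k * c) * (c : G)⁻¹ = k := by group
    have em : π ((c : G)⁻¹ * k * c) = v := (ψ c).injective (by rw [← h.act c _ hm, ekc, e])
    have hd : ψ (y * (c * y * c⁻¹)) = 1 := by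
      rw [map_mul, map_mul, map_mul, map_inv, ht, hgc, mul_inv_cancel_right, tv_mul_self]
    set d := (y : G) * ((c : G) * y * (c : G)⁻¹) with hd'
    have hdJ : d ∈ J := (h.ker _).1 hd
    have hy' : (c : G) * y * (c : G)⁻¹ = y * d := by rw [hd', ← mul_assoc (y : G), hy.sq, one_mul]
    have hdk : d * k * d⁻¹ = k ∨ d * k * d⁻¹ = z * k := (h.comm_cases hdJ hk).imp
      (fun x => by rw [x, mul_inv_cancel_right]) fun x => by rw [x, ← mul_assoc, mul_inv_cancel_right]
    have key : ∀ ζ, (c : G) * ((c : G)⁻¹ * k * c * ζ) * (c : G)⁻¹ = k * ((c : G) * ζ * (c : G)⁻¹) := fun ζ => by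
      group
    have hzc : (c : G) * z * (c : G)⁻¹ = z := by rw [hcz, mul_inv_cancel_right]
    have hyz : (y : G) * z = z * y := h.y_z hy
    rcases hv _ hm em with e1 | e1
    · have e2 : (y : G) * (d * k * d⁻¹) * (y : G)⁻¹ = k := by
        rw [show (y : G) * (d * k * d⁻¹) * (y : G)⁻¹ = (y : G) * d * k * ((y : G) * d)⁻¹ by group, ← hy',
          show (c : G) * y * (c : G)⁻¹ * k * ((c : G) * y * (c : G)⁻¹)⁻¹ =
            (c : G) * ((y : G) * ((c : G)⁻¹ * k * c) * (y : G)⁻¹) * (c : G)⁻¹ by group, e1, ekc]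
      rcases hdk with x | x <;> rw [x] at e2
      · exact Or.inl e2
      · refine Or.inr ?_
        calc (y : G) * k * (y : G)⁻¹ = z * z * ((y : G) * k * (y : G)⁻¹) := by rw [h.zz, one_mul]
          _ = z * ((y : G) * (z * k) * (y : G)⁻¹) := by
            rw [show (y : G) * (z * k) * (y : G)⁻¹ = (y : G) * z * k * (y : G)⁻¹ by group, hyz]; group
          _ = _ := by rw [e2, h.z_cent k hk]
    · have e2 : (y : G) * (d * k * d⁻¹) * (y : G)⁻¹ = k * z := by
        rw [show (y : G) * (d * k * d⁻¹) * (y : G)⁻¹ = (y : G) * d * k * ((y : G) * d)⁻¹ by group, ← hy',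
          show (c : G) * y * (c : G)⁻¹ * k * ((c : G) * y * (c : G)⁻¹)⁻¹ =
            (c : G) * ((y : G) * ((c : G)⁻¹ * k * c) * (y : G)⁻¹) * (c : G)⁻¹ by group, e1, key, hzc]
      rcases hdk with x | x <;> rw [x] at e2
      · exact Or.inr e2
      · refine Or.inl ?_
        calc (y : G) * k * (y : G)⁻¹ = z * z * ((y : G) * k * (y : G)⁻¹) := by rw [h.zz, one_mul]
          _ = z * ((y : G) * (z * k) * (y : G)⁻¹) := by
            rw [show (y : G) * (z * k) * (y : G)⁻¹ = (y : G) * z * k * (y : G)⁻¹ by group, hyz]; group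
          _ = _ := by rw [e2, h.z_cent k hk, ← mul_assoc, h.zz, one_mul]

theorem lifted_zero : Lifted J π (y : G) 0 := ⟨1, one_mem _, h.π_one, by rw [one_mul, mul_one]⟩

/-- For a transvection the lifted vectors have index at most two among the fixed ones. -/
theorem tv_card {p : V4} (hq : q4 p = 0) (hp : p ≠ 0) (ht : ψ y = tv p) :
    32 ≤ {v | Lifted J π (y : G) v}.ncard := by
  have hsub : ∀ v, Lifted J π (y : G) v → tv p v = v := fun v hv => ht ▸ h.lifted_fixed hy hv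
  by_cases hall : ∀ v, tv p v = v → Lifted J π (y : G) v
  · rw [show {v | Lifted J π (y : G) v} = {v | tv p v = v} from Set.ext fun v => ⟨hsub v, hall v⟩,
      tv_fixed_card hq hp]
    norm_num
  push Not at hall
  obtain ⟨u, hu, hul⟩ := hall
  have hc : {v | tv p v = v} ⊆ {v | Lifted J π (y : G) v} ∪ (fun v => u + v) '' {v | Lifted J π (y : G) v} := by
    intro v hv
    by_cases hvl : Lifted J π (y : G) v
    · exact Or.inl hvl
    refine Or.inr ⟨u + v, ?_, by show u + (u + v) = v; rw [← add_assoc, add_self_V4, zero_add]⟩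
    obtain ⟨j, hj, rfl⟩ := h.π_surj u
    obtain ⟨k, hk, rfl⟩ := h.π_surj v
    refine ⟨j * k, mul_mem hj hk, h.π_mul j hj k hk, ?_⟩
    have nj : ¬ (y : G) * j * (y : G)⁻¹ = j := fun e => hul ⟨j, hj, rfl, (mul_inv_eq_iff_eq_mul.1 e).symm⟩
    have nk : ¬ (y : G) * k * (y : G)⁻¹ = k := fun e => hvl ⟨k, hk, rfl, (mul_inv_eq_iff_eq_mul.1 e).symm⟩
    have e1 := (h.tv_commutator hy hq hp ht hj hu).resolve_left nj
    have e2 := (h.tv_commutator hy hq hp ht hk hv).resolve_left nk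
    have : (y : G) * (j * k) * (y : G)⁻¹ = j * k := by
      rw [show (y : G) * (j * k) * (y : G)⁻¹ = ((y : G) * j * (y : G)⁻¹) * ((y : G) * k * (y : G)⁻¹) by group, e1, e2,
        mul_assoc j, ← mul_assoc z k, ← h.z_cent k hk, mul_assoc k z z, h.zz, mul_one]
    exact (mul_inv_eq_iff_eq_mul.1 this).symm
  have h1 := (Set.ncard_le_ncard hc (Set.toFinite _)).trans (Set.ncard_union_le _ _)
  rw [tv_fixed_card hq hp, Set.ncard_image_of_injective _ (add_right_injective u)] at h1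
  omega

theorem card_cent : Nat.card ↥(J ⊓ Subgroup.centralizer ({(y : G)} : Set G)) =
    4 * {v | Lifted J π (y : G) v}.ncard := by
  classical
  set A := J ⊓ Subgroup.centralizer ({(y : G)} : Set G)
  set f : Additive ↥A →+ V4 := AddMonoidHom.mk' (fun x : Additive ↥A => π ((x.toMul : ↥A) : G)) (fun x x' =>
    h.π_mul _ (x.toMul : ↥A).2.1 _ (x'.toMul : ↥A).2.1) with hf
  have hker : Nat.card f.ker = 4 := by
    have hs : ({1, z, a, z * a} : Set G).ncard = 4 := by
      rw [Set.ncard_insert_of_notMem, Set.ncard_insert_of_notMem, Set.ncard_pair]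
      · exact h.za_ne_a.symm
      · simp only [Set.mem_insert_iff, Set.mem_singleton_iff, not_or]
        exact ⟨h.ne.symm, h.za_ne_z.symm⟩
      · simp only [Set.mem_insert_iff, Set.mem_singleton_iff, not_or]
        exact ⟨(ne_one_of_order_two h.ord_z).symm, (ne_one_of_order_two h.ord_a).symm, h.za_ne_one.symm⟩
    refine Eq.trans ?_ hs
    rw [← Nat.card_coe_set_eq]
    refine Nat.card_congr ⟨fun x => ⟨((x.1.toMul : ↥A) : G), ?_⟩, fun c => ⟨Additive.ofMul ⟨c.1, ?_, ?_⟩, ?_⟩,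
      fun x => rfl, fun c => rfl⟩
    · simpa using (h.π_ker _ (x.1.toMul : ↥A).2.1).1 x.2
    · exact h.centre_mem c.2
    · exact Subgroup.mem_centralizer_singleton_iff.2 (h.comm_centre hy c.2).symm
    · show π c.1 = 0
      exact (h.π_ker _ (h.centre_mem c.2)).2 c.2
  have hr : (f.range : Set V4) = {v | Lifted J π (y : G) v} := by
    ext v
    constructor
    · rintro ⟨x, rfl⟩
      exact ⟨_, (x.toMul : ↥A).2.1, rfl, Subgroup.mem_centralizer_singleton_iff.1 (x.toMul : ↥A).2.2⟩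
    · rintro ⟨j, hj, rfl, hc⟩
      exact ⟨Additive.ofMul ⟨j, hj, Subgroup.mem_centralizer_singleton_iff.2 hc⟩, rfl⟩
  have := f.ker.card_mul_index
  rw [AddSubgroup.index_ker, hker] at this
  rw [← hr, ← Nat.card_coe_set_eq, show Nat.card ↥A = Nat.card (Additive ↥A) from Nat.card_congr Additive.ofMul, ← this]
  rfl

/-- The two kinds and the number of lifts. -/
theorem out_cases : (∃ p, q4 p = 0 ∧ p ≠ 0 ∧ ψ y = tv p ∧ 32 ≤ {v | Lifted J π (y : G) v}.ncard) ∨
    (Small (ψ y) ∧ {v | Lifted J π (y : G) v}.ncard ≤ 16) := by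
  rcases h.outer.inv_cases ⟨y, rfl⟩ (h.psi_sq hy) (h.psi_ne hy) with ⟨p, hq, hp, ht⟩ | hS
  · exact Or.inl ⟨p, hq, hp, ht, h.tv_card hy hq hp ht⟩
  · exact Or.inr ⟨hS, (Set.ncard_le_ncard (fun v hv => h.lifted_fixed hy hv) (Set.toFinite _)).trans hS.1.le⟩

theorem card_cent_le : Nat.card ↥(J ⊓ Subgroup.centralizer ({(y : G)} : Set G)) ≤ 256 := by
  rw [h.card_cent hy]
  have hsub : {v | Lifted J π (y : G) v} ⊆ {v | ψ y v = v} := fun v hv => h.lifted_fixed hy hv
  rcases h.out_cases hy with ⟨p, hq, hp, ht, -⟩ | ⟨-, hS⟩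
  · have h1 := Set.ncard_le_ncard hsub (Set.toFinite _)
    rw [ht, tv_fixed_card hq hp] at h1
    omega
  · omega

theorem full_of_card (hc : 256 ≤ Nat.card ↥(J ⊓ Subgroup.centralizer ({(y : G)} : Set G))) :
    ∃ p, q4 p = 0 ∧ p ≠ 0 ∧ ψ y = tv p ∧ Full J π (tv p) (y : G) := by
  rw [h.card_cent hy] at hc
  rcases h.out_cases hy with ⟨p, hq, hp, ht, -⟩ | ⟨-, hS⟩
  · refine ⟨p, hq, hp, ht, fun v hv => ?_⟩
    have heq : {v | Lifted J π (y : G) v} = {v | tv p v = v} :=
      Set.eq_of_subset_of_ncard_le (fun v hv => ht ▸ h.lifted_fixed hy hv) (by rw [tv_fixed_card hq hp]; omega)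
        (Set.toFinite _)
    exact heq.ge hv
  · omega

/-- An element of order three commuting with the image lifts to one commuting with the involution. -/
theorem lift_commute {g : V4 ≃ₗ[ZMod 2] V4} (hg : g ∈ TG) (h3 : g ^ 3 = 1) (hgc : g * ψ y = ψ y * g)
    (hk : Small (ψ y) ∨ ∃ p, q4 p = 0 ∧ p ≠ 0 ∧ ψ y = tv p ∧ Full J π (tv p) (y : G)) :
    ∃ c : ↥(Subgroup.centralizer ({z} : Set G)), ψ c = g ∧ (c : G) * y = y * c := by
  obtain ⟨c₀, rfl⟩ := h.outer.tg hg
  have hca := h.fix_a hg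
  have hd : ψ (y * (c₀ * y * c₀⁻¹)) = 1 := by
    rw [map_mul, map_mul, map_mul, map_inv, hgc, mul_inv_cancel_right, h.psi_sq hy]
  set j := (y : G) * ((c₀ : G) * y * (c₀ : G)⁻¹) with hj'
  have hjJ : j ∈ J := (h.ker _).1 hd
  have hyj : (c₀ : G) * y * (c₀ : G)⁻¹ = y * j := by rw [hj', ← mul_assoc (y : G), hy.sq, one_mul]
  obtain ⟨w, hw⟩ : ∃ w, π j = ψ y w + w := by
    have hfix : ψ y (π j) = π j := by
      have e1 : (y : G) * j * ((y : G) * j) = 1 := by
        rw [← hyj, show (c₀ : G) * y * (c₀ : G)⁻¹ * ((c₀ : G) * y * (c₀ : G)⁻¹) = (c₀ : G) * (y * y) * (c₀ : G)⁻¹ by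
          group, hy.sq]
        group
      rw [← h.act y j hjJ, h.y_inv hy]
      have e2 : (y : G) * j * y = j⁻¹ := mul_eq_one_iff_eq_inv.1 (by rw [← e1]; group)
      rw [e2, h.π_inv hjJ]
    rcases hk with hS | ⟨p, hq, hp, ht, hF⟩
    · exact hS.2 _ hfix
    · obtain ⟨c, hc⟩ := perp_line hq hp (u := π j) fun v hv => by
        obtain ⟨k, hk, rfl, hkc⟩ := hF v hv
        obtain ⟨k', hk', ek', hk'c⟩ := hF ((ψ c₀).symm (π k)) (by
          rw [← conj_fixed (c := ψ c₀), ← ht, hgc, mul_inv_cancel_right, ht, (ψ c₀).apply_symm_apply]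
          exact hv)
        have hcz := Subgroup.mem_centralizer_singleton_iff.1 c₀.2
        have hm := h.norm (c₀ : G) hcz k' hk'
        have eπ : π ((c₀ : G) * k' * (c₀ : G)⁻¹) = π k := by rw [h.act c₀ k' hk', ek', (ψ c₀).apply_symm_apply]
        have hcc : (c₀ : G) * k' * (c₀ : G)⁻¹ * ((y : G) * j) = (y : G) * j * ((c₀ : G) * k' * (c₀ : G)⁻¹) := by
          rw [← hyj, show (c₀ : G) * k' * (c₀ : G)⁻¹ * ((c₀ : G) * y * (c₀ : G)⁻¹) =
            (c₀ : G) * (k' * y) * (c₀ : G)⁻¹ by group, hk'c]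
          group
        set ζ := ((c₀ : G) * k' * (c₀ : G)⁻¹)⁻¹ * k with hζ
        have hζc := h.π_eq hm hk eπ
        have e3 : ζ * ((y : G) * j) = (y : G) * j * ζ := by
          refine (h.centre_comm ?_ ?_ hζc).symm
          · rw [mul_assoc, h.z_cent j hjJ, ← mul_assoc, h.y_z hy, mul_assoc]
          · rw [mul_assoc, h.a_cent j hjJ, ← mul_assoc, hy.comm_a, mul_assoc]
        have e4 : k * ((y : G) * j) = (y : G) * j * k := by
          calc k * ((y : G) * j) = (c₀ : G) * k' * (c₀ : G)⁻¹ * (ζ * ((y : G) * j)) := by rw [hζ]; group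
            _ = (c₀ : G) * k' * (c₀ : G)⁻¹ * ((y : G) * j) * ζ := by rw [e3]; group
            _ = _ := by rw [hcc, hζ]; group
        rw [← mul_assoc, hkc, mul_assoc, mul_assoc] at e4
        exact (h.comm_iff hjJ hk).1 (mul_left_cancel e4).symm
      obtain ⟨w, hw⟩ := tv_image hq hp c
      exact ⟨w, by rw [hc, hw, ht]⟩
  obtain ⟨k, hk, rfl⟩ := h.π_surj w
  obtain ⟨d, hd, hπd, hky, -⟩ := h.image_lift hy hk
  set ζ := d * (k * j * k⁻¹) with hζ
  have hζc : ζ = 1 ∨ ζ = z ∨ ζ = a ∨ ζ = z * a := by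
    refine (h.π_ker _ (mul_mem hd (mul_mem (mul_mem hk hjJ) (inv_mem hk)))).1 ?_
    rw [h.π_mul _ hd _ (mul_mem (mul_mem hk hjJ) (inv_mem hk)), h.π_mul _ (mul_mem hk hjJ) _ (inv_mem hk),
      h.π_mul _ hk _ hjJ, h.π_inv hk, add_right_comm, add_self_V4, zero_add, hπd, hw, add_self_V4]
  set c : ↥(Subgroup.centralizer ({z} : Set G)) := ⟨k, h.le_cent hk⟩ * c₀ with hc
  have hcy : (c : G) * y * (c : G)⁻¹ = y * ζ := by
    show k * (c₀ : G) * y * (k * (c₀ : G))⁻¹ = _
    rw [show k * (c₀ : G) * y * (k * (c₀ : G))⁻¹ = k * ((c₀ : G) * y * (c₀ : G)⁻¹) * k⁻¹ by group, hyj,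
      show k * ((y : G) * j) * k⁻¹ = k * y * k⁻¹ * (k * j * k⁻¹) by group, hky, hζ]
    group
  have hcζ : (c : G) * ζ * (c : G)⁻¹ = ζ := by
    refine mul_inv_eq_iff_eq_mul.2 (h.centre_comm (Subgroup.mem_centralizer_singleton_iff.1 c.2) ?_ hζc)
    show k * (c₀ : G) * a = a * (k * (c₀ : G))
    rw [mul_assoc, hca, ← mul_assoc, h.a_cent k hk, mul_assoc]
  have h2 : (c : G) * c * y = y * ((c : G) * c) := by
    rw [← mul_inv_eq_iff_eq_mul, show (c : G) * c * y * ((c : G) * c)⁻¹ =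
      (c : G) * ((c : G) * y * (c : G)⁻¹) * (c : G)⁻¹ by group, hcy,
      show (c : G) * ((y : G) * ζ) * (c : G)⁻¹ = ((c : G) * y * (c : G)⁻¹) * ((c : G) * ζ * (c : G)⁻¹) by group, hcy,
      hcζ, mul_assoc, h.centre_sq hζc, mul_one]
  refine ⟨c * c * (c * c), ?_, ?_⟩
  · have hψ : ψ c = ψ c₀ := by
      rw [hc, map_mul, (h.ker ⟨k, h.le_cent hk⟩).2 hk, one_mul]
    rw [map_mul, map_mul, hψ]
    calc ψ c₀ * ψ c₀ * (ψ c₀ * ψ c₀) = ψ c₀ ^ 3 * ψ c₀ := by rw [pow_succ, pow_succ, pow_one]; group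
      _ = ψ c₀ := by rw [h3, one_mul]
  · show (c : G) * c * ((c : G) * c) * y = y * ((c : G) * c * ((c : G) * c))
    rw [mul_assoc, h2, ← mul_assoc, h2, mul_assoc]

end Setting

end CfsgLib.Recognition.USixCentral
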