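import Cfsg.Agent.Lib.Recognition.USixCentral.Split
import Cfsg.Agent.Lib.Recognition.USixTwo.Unitary
import Cfsg.Agent.S1713
import Cfsg.Agent.S0283

/-!
# A perfect centraliser of `a` gives the Fischer group
-/

set_option autoImplicit false
set_option linter.unusedSectionVars false
set_option linter.style.haveILetI false

namespace CfsgLib.Recognition.USixCentral

open CfsgLib.Recognition.USixTwo
open CfsgLib.Sporadic (FieldFour)

theorem psu_card {K : Type*} [Field K] [Fintype K] (hK : Fintype.card K = 4) :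
    Nat.card (Cfsg.PSU 6 K 2) = 9196830720 := by
  have h := Cfsg.Agent.S0280.result (F := K) (q := 2) (by rw [hK]; norm_num) 6 (by norm_num)
  norm_num [Finset.prod_range_succ, Nat.even_iff] at h
  omega

theorem psu_simple {K : Type*} [Field K] [Fintype K] (hK : Fintype.card K = 4) : IsSimpleGroup (Cfsg.PSU 6 K 2) :=
  Cfsg.Agent.S0283.result (F := K) (q := 2) (by rw [hK]; norm_num) 6 (by norm_num) (by norm_num)

variable {G : Type*} [Group G] [Finite G]

namespace Setting

variable {z a : G} {J : Subgroup G} {π : G → V4} {ψ : ↥(Subgroup.centralizer ({z} : Set G)) →* (V4 ≃ₗ[ZMod 2] V4)}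
  (h : Setting z a J π ψ) {Q : Type*} [Group Q] {q : ↥(Subgroup.centralizer ({a} : Set G)) →* Q} (hq : Onto a q)
include h hq

/-- A perfect centraliser over `U₆(2)`, with `a` and `z * a` exchanged, gives the Fischer group. -/
theorem fi22_of_perfect {K : Type*} [Field K] [Fintype K] (hK : Fintype.card K = 4) (e : Q ≃* Cfsg.PSU 6 K 2)
    (hsw : ∃ s : G, s * z = z * s ∧ s * a ≠ a * s) (ha : a ∈ h.L0) : Cfsg.Spor.IsoFi22 G := by
  classical
  haveI := psu_simple hK
  haveI hQs : IsSimpleGroup Q := e.isSimpleGroup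
  haveI hn : ((Subgroup.zpowers a).subgroupOf (Subgroup.centralizer ({a} : Set G))).Normal := ⟨fun x hx c => by
    obtain ⟨n, hn⟩ := Subgroup.mem_zpowers_iff.1 (Subgroup.mem_subgroupOf.1 hx)
    refine Subgroup.mem_subgroupOf.2 (Subgroup.mem_zpowers_iff.2 ⟨n, ?_⟩)
    show a ^ n = (c : G) * x * (c : G)⁻¹
    rw [← hn, ((Commute.zpow_right (show Commute (c : G) a from Subgroup.mem_centralizer_singleton_iff.1 c.2) n)).eq,
      mul_inv_cancel_right]⟩
  have hker : q.ker = (Subgroup.zpowers a).subgroupOf (Subgroup.centralizer ({a} : Set G)) := Subgroup.ext fun x => by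
    rw [MonoidHom.mem_ker, hq.ker, Subgroup.mem_subgroupOf, Subgroup.mem_zpowers_iff]
    constructor
    · rintro (e' | e')
      · exact ⟨0, by rw [zpow_zero, e']⟩
      · exact ⟨1, by rw [zpow_one, e']⟩
    · rintro ⟨n, e'⟩
      rcases Int.even_or_odd n with ⟨k, rfl⟩ | ⟨k, rfl⟩
      · rw [← two_mul, zpow_mul, zpow_two, h.aa, one_zpow] at e'
        exact Or.inl e'.symm
      · rw [zpow_add_one, zpow_mul, zpow_two, h.aa, one_zpow, one_mul] at e'
        exact Or.inr e'.symm
  have hperf : commutator ↥(Subgroup.centralizer ({a} : Set G)) = ⊤ := eq_top_iff.2 fun x _ => by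
    have hl : ∀ y : ↥(Subgroup.centralizer ({a} : Set G)), (y : G) ∈ h.L0 → y ∈ commutator ↥(Subgroup.centralizer ({a} : Set G)) := fun y hy => by
      have e1 : h.L0 = (commutator ↥(Subgroup.centralizer ({a} : Set G))).map (Subgroup.subtype (Subgroup.centralizer ({a} : Set G))) := by
        rw [commutator_def, Subgroup.map_commutator, ← MonoidHom.range_eq_map, Subgroup.range_subtype]; rfl
      rw [e1] at hy
      obtain ⟨y', hy', e2⟩ := hy
      exact Subtype.ext e2 ▸ hy'
    rcases h.L0_cover hq hQs (Subgroup.mem_centralizer_singleton_iff.1 x.2) with h1 | h1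
    · exact hl x h1
    · refine hl x ?_
      have := mul_mem h1 ha
      rwa [mul_assoc, h.aa, mul_one] at this
  have hcen : Subgroup.center ↥(Subgroup.centralizer ({a} : Set G)) = (Subgroup.zpowers a).subgroupOf (Subgroup.centralizer ({a} : Set G)) := by
    refine le_antisymm (fun x hx => ?_) fun x hx => Subgroup.mem_center_iff.2 fun y => ?_
    · rw [← hker, MonoidHom.mem_ker]
      have hcb : Subgroup.center Q = ⊥ :=
        (Subgroup.Normal.eq_bot_or_eq_top inferInstance).resolve_right fun e' => by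
          have h3 := h.commutator_top hq hQs
          rw [Subgroup.commutator_eq_bot_iff_le_centralizer.2 (by
            rw [Subgroup.coe_top, Subgroup.centralizer_univ, e'])] at h3
          exact h.zq_ne_one hq (Subgroup.mem_bot.1 (h3 ▸ Subgroup.mem_top _))
      rw [← Subgroup.mem_bot, ← hcb, Subgroup.mem_center_iff]
      intro v
      obtain ⟨w, rfl⟩ := hq.surj v
      rw [← map_mul, ← map_mul, Subgroup.mem_center_iff.1 hx w]
    · obtain ⟨n, e'⟩ := Subgroup.mem_zpowers_iff.1 (Subgroup.mem_subgroupOf.1 hx)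
      refine Subtype.ext ?_
      show (y : G) * x = x * y
      rw [← e']
      exact (Commute.zpow_right (show Commute (y : G) a from Subgroup.mem_centralizer_singleton_iff.1 y.2) n).eq
  have e1 : (↥(Subgroup.centralizer ({a} : Set G)) ⧸ (Subgroup.zpowers a).subgroupOf (Subgroup.centralizer ({a} : Set G))) ≃* Q :=
    (QuotientGroup.quotientMulEquivOfEq hker.symm).trans (QuotientGroup.quotientKerEquivOfSurjective q hq.surj)
  have hqs : Cfsg.IsQuasisimple ↥(Subgroup.centralizer ({a} : Set G)) := by
    refine ⟨⟨hperf⟩, ?_⟩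
    exact (((QuotientGroup.quotientMulEquivOfEq hcen).trans e1).trans e).isSimpleGroup
  obtain ⟨f⟩ := psu_field (FiniteField.ringEquivOfCardEq (K := K) (K' := FieldFour)
    (hK.trans FieldFour.card_eq.symm))
  obtain ⟨s, hsz, hsa⟩ := hsw
  exact Cfsg.Agent.S1713.result a h.ord_a hqs FieldFour FieldFour.card_eq ((e1.trans e).trans f)
    ⟨s, by rw [h.swap_of_not_comm hsz hsa]; exact mem_cent_of (h.a_cent _ h.za_mem), by
      rw [h.swap_of_not_comm hsz hsa]; exact h.za_ne_a⟩

end Setting

end CfsgLib.Recognition.USixCentral
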