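import Cfsg.Agent.Lib.Recognition.USixCentral.Fixed

/-!
# The centraliser exchanges `a` and `z * a`: `z` is isolated when their centralisers split
-/

set_option autoImplicit false
set_option maxRecDepth 100000
set_option linter.unusedSectionVars false

namespace CfsgLib.Recognition.USixCentral

open CfsgLib.Recognition.USixTwo
open CfsgLib.Sporadic.LargeFischer (D4 om nzd)

variable {G : Type*} [Group G] [Finite G]

namespace Setting

variable {z a : G} {J : Subgroup G} {π : G → V4} {ψ : ↥(Subgroup.centralizer ({z} : Set G)) →* (V4 ≃ₗ[ZMod 2] V4)}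
  (h : Setting z a J π ψ)
include h

/-- Half of the vectors are orthogonal to a given one. -/
theorem half_le (u : V4) : 128 ≤ {v : V4 | bs4 u v = 0}.ncard := by
  set s := {v : V4 | bs4 u v = 0} with hs
  have hall : ∃ v₀, Set.univ ⊆ s ∪ (fun v => v₀ + v) '' s := by
    by_cases hz : ∀ v, bs4 u v = 0
    · exact ⟨0, fun v _ => Or.inl (hz v)⟩
    push Not at hz
    obtain ⟨v₀, hv₀⟩ := hz
    refine ⟨v₀, fun v _ => ?_⟩
    by_cases hv : bs4 u v = 0
    · exact Or.inl hv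
    · refine Or.inr ⟨v₀ + v, ?_, ?_⟩
      · show bs4 u (v₀ + v) = 0
        rw [bs4_eq, hm_add_right, Prod.snd_add, ← bs4_eq, ← bs4_eq, (zmod2_cases _).resolve_left hv₀,
          (zmod2_cases _).resolve_left hv]
        decide
      · show v₀ + (v₀ + v) = v
        rw [← add_assoc, add_self_V4, zero_add]
  obtain ⟨v₀, hv₀⟩ := hall
  have h1 := (Set.ncard_le_ncard hv₀ (Set.toFinite _)).trans (Set.ncard_union_le _ _)
  rw [Set.ncard_image_of_injective _ (add_right_injective v₀), Set.ncard_univ, Nat.card_eq_fintype_card] at h1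
  have h2 : Fintype.card V4 = 256 := by decide
  omega

variable (hsw : ∃ s : G, s * z = z * s ∧ s * a ≠ a * s) (hS : SplitAt z (Subgroup.centralizer ({a} : Set G)))
include hsw hS

theorem split_swap : SplitAt z (Subgroup.centralizer ({z * a} : Set G)) := by
  obtain ⟨s, hsz, hsa⟩ := hsw
  have hs := h.swap_of_not_comm hsz hsa
  obtain ⟨O, hOX, hodd, hn, hdec⟩ := hS
  have hs' : s⁻¹ * (z * a) * s = a := by rw [← hs]; group
  have hback : ∀ x, x * (z * a) = z * a * x → s⁻¹ * x * s ∈ Subgroup.centralizer ({a} : Set G) := by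
    intro x hx
    refine Subgroup.mem_centralizer_singleton_iff.2 ?_
    calc s⁻¹ * x * s * a = s⁻¹ * x * s * (s⁻¹ * (z * a) * s) := by rw [hs']
      _ = s⁻¹ * (x * (z * a)) * s := by group
      _ = s⁻¹ * (z * a) * s * (s⁻¹ * x * s) := by rw [hx]; group
      _ = _ := by rw [hs']
  refine ⟨O.map (MulAut.conj s).toMonoidHom, ?_, ?_, ?_, ?_⟩
  · rintro _ ⟨o, ho, rfl⟩
    refine Subgroup.mem_centralizer_singleton_iff.2 ?_
    show s * o * s⁻¹ * (z * a) = z * a * (s * o * s⁻¹)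
    rw [← hs, show s * o * s⁻¹ * (s * a * s⁻¹) = s * (o * a) * s⁻¹ by group,
      Subgroup.mem_centralizer_singleton_iff.1 (hOX ho)]
    group
  · rw [Subgroup.card_map_of_injective (f := (MulAut.conj s).toMonoidHom) (MulAut.conj s).injective]; exact hodd
  · rintro x hx _ ⟨o, ho, rfl⟩
    refine ⟨s⁻¹ * x * s * o * (s⁻¹ * x * s)⁻¹, hn _ (hback x (Subgroup.mem_centralizer_singleton_iff.1 hx)) o ho, ?_⟩
    show s * (s⁻¹ * x * s * o * (s⁻¹ * x * s)⁻¹) * s⁻¹ = x * (s * o * s⁻¹) * x⁻¹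
    group
  · intro x hx
    obtain ⟨c, hc, o, ho, e⟩ := hdec _ (hback x (Subgroup.mem_centralizer_singleton_iff.1 hx))
    refine ⟨s * c * s⁻¹, ?_, _, ⟨o, ho, rfl⟩, ?_⟩
    · refine Subgroup.mem_centralizer_singleton_iff.1 (show s * c * s⁻¹ ∈ Subgroup.centralizer ({z} : Set G) from ?_)
      exact mul_mem (mul_mem (Subgroup.mem_centralizer_singleton_iff.2 hsz) (Subgroup.mem_centralizer_singleton_iff.2 hc))
        (inv_mem (Subgroup.mem_centralizer_singleton_iff.2 hsz))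
    · show x = s * c * s⁻¹ * (s * o * s⁻¹)
      rw [show s * c * s⁻¹ * (s * o * s⁻¹) = s * (c * o) * s⁻¹ by group, ← e]
      group

/-- The two partners of a conjugate of `z` in the centraliser do not commute with `z`. -/
theorem no_common {g : G} (hy : g * z * g⁻¹ * z = z * (g * z * g⁻¹)) (hne : g * z * g⁻¹ ≠ z)
    (hx1 : g * a * g⁻¹ * z = z * (g * a * g⁻¹)) : False := by
  haveI := gl_finite
  set y := g * z * g⁻¹ with hydef
  set x₁ := g * a * g⁻¹ with hx1def
  set x₂ := g * (z * a) * g⁻¹ with hx2def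
  have e2 : x₂ = y * x₁ := by rw [hx2def, hydef, hx1def]; group
  have hyx : y * x₁ = x₁ * y := by
    calc y * x₁ = g * (z * a) * g⁻¹ := by rw [hydef, hx1def]; group
      _ = _ := by rw [← h.za, hydef, hx1def]; group
  have hx2 : x₂ * z = z * x₂ := by rw [e2, mul_assoc, hx1, ← mul_assoc, hy, mul_assoc]
  have y2 : y * y = 1 := by
    rw [hydef, show g * z * g⁻¹ * (g * z * g⁻¹) = g * (z * z) * g⁻¹ by group, h.zz]; group
  have x12 : x₁ * x₁ = 1 := by
    rw [hx1def, show g * a * g⁻¹ * (g * a * g⁻¹) = g * (a * a) * g⁻¹ by group, h.aa]; group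
  obtain ⟨hp1, hn1⟩ := h.pullback hS hy hx1
  obtain ⟨hp2, -⟩ := h.swap.pullback (h.split_swap hsw hS) hy hx2
  have hperm : ∀ c, c * y = y * c → c * x₁ * c⁻¹ = x₁ ∨ c * x₁ * c⁻¹ = y * x₁ := by
    intro c hc
    have h1 : g⁻¹ * c * g * z = z * (g⁻¹ * c * g) := by
      calc g⁻¹ * c * g * z = g⁻¹ * (c * y) * g := by rw [hydef]; group
        _ = _ := by rw [hc, hydef]; group
    have h2 : c * x₁ * c⁻¹ = g * (g⁻¹ * c * g * a * (g⁻¹ * c * g)⁻¹) * g⁻¹ := by rw [hx1def]; group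
    rcases h.conj_a h1 with e | e
    · exact Or.inl (by rw [h2, e])
    · exact Or.inr (by rw [h2, e, ← e2])
  by_cases hya : y * a = a * y
  swap
  · by_cases hx1a : x₁ * a = a * x₁
    · exact hya (hp1 a h.a_mem hx1a.symm).symm
    · by_cases hx2a : x₂ * a = a * x₂
      · exact hya (hp2 a h.a_mem hx2a.symm).symm
      · apply hya
        have := h.mul_comm_a hx2 hx1 hx2a hx1a
        rwa [e2, mul_assoc y, x12, mul_one] at this
  by_cases hx1a : x₁ * a = a * x₁
  swap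
  · have e3 := h.swap_of_not_comm hx1 hx1a
    rcases hperm a hya.symm with e | e
    · exact hx1a (mul_inv_eq_iff_eq_mul.1 e).symm
    · apply hne
      have ha' : a⁻¹ = a := inv_eq_of_mul_eq_one_right h.aa
      have e4 : a * x₁ * a⁻¹ = x₁ * z := by
        rw [ha', show a * x₁ * a = x₁ * (x₁⁻¹ * a * x₁) * a by group, inv_eq_of_mul_eq_one_right x12]
        rw [show x₁ * a * x₁ = x₁ * a * x₁⁻¹ by rw [inv_eq_of_mul_eq_one_right x12], e3, mul_assoc, mul_assoc z,
          h.aa, mul_one]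
      rw [e, hyx] at e4
      exact mul_left_cancel e4
  have hx2a : x₂ * a = a * x₂ := by rw [e2, mul_assoc, hx1a, ← mul_assoc, hya, mul_assoc]
  let yc : ↥(Subgroup.centralizer ({z} : Set G)) := ⟨y, Subgroup.mem_centralizer_singleton_iff.2 hy⟩
  let xc : ↥(Subgroup.centralizer ({z} : Set G)) := ⟨x₁, Subgroup.mem_centralizer_singleton_iff.2 hx1⟩
  by_cases hyJ : y ∈ J
  · have hπy : π y ≠ 0 := fun e => hne (h.conj_eq_of_centre ((h.π_ker y hyJ).1 e))
    by_cases hxJ : x₁ ∈ J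
    · have hπ : π y = π x₁ := (h.eq_of_cent hxJ hyJ fun l hl => hp1 l hl).resolve_left hπy
      have hx2J : x₂ ∈ J := by rw [e2]; exact mul_mem hyJ hxJ
      have h0 : π x₂ = 0 := by rw [e2, h.π_mul y hyJ x₁ hxJ, hπ, add_self_V4]
      rcases h.eq_of_cent hx2J hyJ (fun l hl => hp2 l hl) with e | e
      · exact hπy e
      · exact hπy (e.trans h0)
    have hout : Out z a J xc := ⟨hx1a, x12, hxJ⟩
    set L := {v | Lifted J π x₁ v} with hL
    have hsub : ∀ v, bs4 (π y) v = 0 → ¬ Lifted J π x₁ v → ∀ w, bs4 (π y) w = 0 → ¬ Lifted J π x₁ w →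
        Lifted J π x₁ (v + w) := by
      intro v hv nv w hw nw
      obtain ⟨j, hj, rfl⟩ := h.π_surj v
      obtain ⟨k, hk, rfl⟩ := h.π_surj w
      refine ⟨j * k, mul_mem hj hk, h.π_mul j hj k hk, ?_⟩
      have sj : j * x₁ * j⁻¹ = y * x₁ := (hperm j ((h.comm_iff hyJ hj).2 hv).symm).resolve_left
        fun e => nv ⟨j, hj, rfl, mul_inv_eq_iff_eq_mul.1 e⟩
      have sk : k * x₁ * k⁻¹ = y * x₁ := (hperm k ((h.comm_iff hyJ hk).2 hw).symm).resolve_left
        fun e => nw ⟨k, hk, rfl, mul_inv_eq_iff_eq_mul.1 e⟩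
      rw [← mul_inv_eq_iff_eq_mul, show j * k * x₁ * (j * k)⁻¹ = j * (k * x₁ * k⁻¹) * j⁻¹ by group, sk,
        show j * (y * x₁) * j⁻¹ = j * y * j⁻¹ * (j * x₁ * j⁻¹) by group,
        ((h.comm_iff hyJ hj).2 hv).symm, mul_inv_cancel_right, sj, ← mul_assoc, y2, one_mul]
    have hcount : 64 ≤ L.ncard := by
      have h1 := h.half_le (π y)
      by_cases hall : ∀ v, bs4 (π y) v = 0 → Lifted J π x₁ v
      · have := Set.ncard_le_ncard (s := {v : V4 | bs4 (π y) v = 0}) (t := L) (fun v hv => hall v hv) (Set.toFinite _)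
        omega
      push Not at hall
      obtain ⟨u, hu, nu⟩ := hall
      have hcov : {v : V4 | bs4 (π y) v = 0} ⊆ L ∪ (fun v => u + v) '' L := by
        intro v hv
        by_cases hvl : Lifted J π x₁ v
        · exact Or.inl hvl
        · exact Or.inr ⟨u + v, hsub u hu nu v hv hvl, by
            show u + (u + v) = v
            rw [← add_assoc, add_self_V4, zero_add]⟩
      have h2 := (Set.ncard_le_ncard hcov (Set.toFinite _)).trans (Set.ncard_union_le _ _)
      rw [Set.ncard_image_of_injective _ (add_right_injective u)] at h2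
      omega
    obtain ⟨p, hq, hp0, ht, hfull⟩ := h.full_of_card hout (by
      rw [h.card_cent hout]
      show 256 ≤ 4 * L.ncard
      omega)
    obtain ⟨cc, hcc⟩ := perp_line hq hp0 (u := π y) fun v hv => by
      obtain ⟨j, hj, rfl, hjc⟩ := hfull v hv
      exact (h.comm_iff hyJ hj).1 (hp1 j hj hjc).symm
    have hcc0 : cc ≠ 0 := fun e => hπy (by rw [hcc, e, scl_zero])
    obtain ⟨t, htT, ht3, htc, hmove⟩ := line_moved hq hp0
    obtain ⟨d, rfl, hdx⟩ := h.lift_commute hout htT ht3 (by rw [ht]; exact htc) (Or.inr ⟨p, hq, hp0, ht, hfull⟩)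
    obtain ⟨hodd, hcent⟩ := hn1 d (Subgroup.mem_centralizer_singleton_iff.1 d.2) hdx
    let nc : ↥(Subgroup.centralizer ({z} : Set G)) := d * yc * d⁻¹ * yc
    have hnfix : ∀ v, tv p v = v → ψ nc v = v := by
      intro v hv
      obtain ⟨j, hj, rfl, hjc⟩ := hfull v hv
      rw [← h.act nc j hj]
      show π ((d : G) * y * (d : G)⁻¹ * y * j * ((d : G) * y * (d : G)⁻¹ * y)⁻¹) = π j
      rw [hcent j hj hjc, mul_inv_cancel_right]
    have hn2 := h.outer.sq_of_fix ⟨nc, rfl⟩ hq hp0 hnfix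
    have hnn : nc ^ orderOf ((d : G) * y * (d : G)⁻¹ * y) = 1 := Subtype.ext (pow_orderOf_eq_one _)
    have hψn : ψ nc = 1 := eq_one_of_two_odd ⟨1, by rw [pow_one, pow_two, hn2]⟩
      (hodd.of_dvd_nat (orderOf_dvd_of_pow_eq_one (by rw [← map_pow, hnn, map_one])))
    have hn0 : (d : G) * y * (d : G)⁻¹ * y = 1 :=
      eq_one_of_two_odd (h.two_power_of_mem ((h.ker nc).1 hψn)) hodd
    have hdy : (d : G) * y * (d : G)⁻¹ = y := by
      rw [mul_eq_one_iff_eq_inv, inv_eq_of_mul_eq_one_right y2] at hn0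
      exact hn0
    refine hmove cc hcc0 ?_
    rw [← hcc, ← h.act d y hyJ, hdy]
  · have hJy : ∀ k ∈ J, k * y = y * k → k * x₁ = x₁ * k := by
      intro k hk hky
      refine mul_inv_eq_iff_eq_mul.1 ((hperm k hky).resolve_right fun e => hyJ ?_)
      have : y = k * (x₁ * k⁻¹ * x₁⁻¹) := by
        rw [show k * (x₁ * k⁻¹ * x₁⁻¹) = k * x₁ * k⁻¹ * x₁⁻¹ by group, e, mul_inv_cancel_right]
      rw [this]
      exact mul_mem hk (h.norm x₁ hx1 _ (inv_mem hk))
    have hxJ : x₁ ∉ J := fun hxJ => h.not_hyper (x := yc) ⟨hya, y2, hyJ⟩ (π x₁) fun j hj hb =>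
      hp1 j hj ((h.comm_iff hxJ hj).2 hb).symm
    have hx2J : x₂ ∉ J := fun hxJ => h.not_hyper (x := yc) ⟨hya, y2, hyJ⟩ (π x₂) fun j hj hb =>
      hp2 j hj ((h.comm_iff hxJ hj).2 hb).symm
    have hψ : ψ xc = ψ yc := by
      refine h.pair_eq (x := xc) (y := yc) ⟨hx1a, x12, hxJ⟩ ⟨hya, y2, hyJ⟩ hyx.symm
        (fun j hj => ⟨hp1 j hj, hJy j hj⟩) fun c hc => ?_
      obtain ⟨hodd, -⟩ := hn1 c (Subgroup.mem_centralizer_singleton_iff.1 c.2) hc
      refine ⟨_, hodd, ?_⟩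
      rw [← map_pow]
      convert map_one ψ using 2
      exact Subtype.ext (pow_orderOf_eq_one _)
    apply hx2J
    rw [e2]
    refine (h.ker (yc * xc)).1 ?_
    rw [map_mul, hψ, ← map_mul, show yc * yc = 1 from Subtype.ext y2, map_one]

/-- Conjugates of `z` commuting with it exchange `a` and `z * a`. -/
theorem outside {g : G} (hy : g * z * g⁻¹ * z = z * (g * z * g⁻¹)) (hne : g * z * g⁻¹ ≠ z) :
    g * z * g⁻¹ * a ≠ a * (g * z * g⁻¹) := by
  intro e
  refine h.no_common hsw hS (g := g⁻¹) ?_ (fun e0 => hne ?_) ?_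
  · calc g⁻¹ * z * g⁻¹⁻¹ * z = g⁻¹ * (z * (g * z * g⁻¹)) * g := by group
      _ = _ := by rw [← hy]; group
  · calc g * z * g⁻¹ = g * (g⁻¹ * z * g⁻¹⁻¹) * g⁻¹ := by rw [e0]
      _ = z := by group
  · calc g⁻¹ * a * g⁻¹⁻¹ * z = g⁻¹ * (a * (g * z * g⁻¹)) * g := by group
      _ = _ := by rw [← e]; group

theorem swap_isolated : Cfsg.IsIsolatedInvolution z := by
  refine ⟨h.ord_z, fun g hg => ?_⟩
  by_contra hne
  have hy : g * z * g⁻¹ * z = z * (g * z * g⁻¹) := hg.eq.symm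
  set y := g * z * g⁻¹ with hydef
  have hya := h.outside hsw hS hy hne
  have y2 : y * y = 1 := by
    rw [hydef, show g * z * g⁻¹ * (g * z * g⁻¹) = g * (z * z) * g⁻¹ by group, h.zz]; group
  let yc : ↥(Subgroup.centralizer ({z} : Set G)) := ⟨y, Subgroup.mem_centralizer_singleton_iff.2 hy⟩
  have hyJ : y ∉ J := fun e => hya (h.a_cent y e)
  obtain ⟨w, hw0, hw1⟩ := h.outer.singular_image ⟨yc, rfl⟩
    (by rw [← map_mul, show yc * yc = 1 from Subtype.ext y2, map_one]) fun e => hyJ ((h.ker yc).1 e)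
  obtain ⟨k, hk, rfl⟩ := h.π_surj w
  have hyinv : y⁻¹ = y := inv_eq_of_mul_eq_one_right y2
  have hyk : y * k * y ∈ J := by
    have := h.norm y hy k hk
    rwa [hyinv] at this
  set d := y * k * y * k⁻¹ with hd
  have hdJ : d ∈ J := mul_mem hyk (inv_mem hk)
  have hdπ : π d = ψ yc (π k) + π k := by
    rw [hd, h.π_mul _ hyk _ (inv_mem hk), h.π_inv hk, ← h.act yc k hk]
    show π (y * k * y) + π k = π (y * k * y⁻¹) + π k
    rw [hyinv]
  have hd2 : d * d = 1 := by rw [h.sq d hdJ, hdπ, if_pos hw0]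
  have hyd : y * d * y = d := by
    calc y * d * y = y * y * k * y * k⁻¹ * y := by rw [hd]; group
      _ = k * y * k⁻¹ * y := by rw [y2, one_mul]
      _ = k * y⁻¹ * k⁻¹ * y⁻¹ := by rw [hyinv]
      _ = d⁻¹ := by rw [hd]; group
      _ = d := inv_eq_of_mul_eq_one_right hd2
  have hdy : d * y = y * d := by
    calc d * y = y * d * y * y := by rw [hyd]
      _ = _ := by rw [mul_assoc, y2, mul_one]
  have hdne : π d ≠ 0 := by rw [hdπ]; exact hw1
  have key : ∀ (e g' : G), e ∈ J → e * y = y * e → π e ≠ 0 → g' * z * g'⁻¹ = y * e →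
      e * (g * a * g⁻¹) ≠ g * a * g⁻¹ * e := by
    intro e g' he hey hπe hg' hcomm
    refine h.outside hsw hS (g := g⁻¹ * g') ?_ (fun e0 => hπe ?_) ?_
    · rw [show g⁻¹ * g' * z * (g⁻¹ * g')⁻¹ = g⁻¹ * (g' * z * g'⁻¹) * g by group, hg']
      calc g⁻¹ * (y * e) * g * z = g⁻¹ * (y * (e * y)) * g := by rw [hydef]; group
        _ = g⁻¹ * (y * (y * e)) * g := by rw [hey]
        _ = _ := by rw [hydef]; group
    · rw [show g⁻¹ * g' * z * (g⁻¹ * g')⁻¹ = g⁻¹ * (g' * z * g'⁻¹) * g by group, hg'] at e0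
      have : y * e = y := by
        calc y * e = g * (g⁻¹ * (y * e) * g) * g⁻¹ := by group
          _ = y := by rw [e0]
      rw [mul_eq_left.1 this]; exact h.π_one
    · rw [show g⁻¹ * g' * z * (g⁻¹ * g')⁻¹ = g⁻¹ * (g' * z * g'⁻¹) * g by group, hg']
      calc g⁻¹ * (y * e) * g * a = g⁻¹ * (y * (e * (g * a * g⁻¹))) * g := by group
        _ = g⁻¹ * (y * (g * a * g⁻¹ * e)) * g := by rw [hcomm]
        _ = g⁻¹ * (g * (z * a) * g⁻¹ * e) * g := by rw [hydef]; group
        _ = g⁻¹ * (g * a * g⁻¹ * (y * e)) * g := by rw [← h.za, hydef]; group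
        _ = _ := by group
  have e1 : k * g * z * (k * g)⁻¹ = y * d := by
    calc k * g * z * (k * g)⁻¹ = y * y * (k * y * k⁻¹) := by rw [y2, one_mul, hydef]; group
      _ = _ := by rw [hd]; group
  have hydz : y * d * z = z * (y * d) := by rw [mul_assoc, h.z_cent d hdJ, ← mul_assoc, hy, mul_assoc]
  have hyda : y * d * a * (y * d)⁻¹ = z * a := by
    refine h.swap_of_not_comm hydz fun e => hya ?_
    calc y * a = y * d * a * d⁻¹ := by rw [mul_assoc y d a, h.a_cent d hdJ]; group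
      _ = a * (y * d) * d⁻¹ := by rw [e]
      _ = a * y := by group
  have e2 : a * (k * g) * z * (a * (k * g))⁻¹ = y * (d * z) := by
    rw [show a * (k * g) * z * (a * (k * g))⁻¹ = a * (k * g * z * (k * g)⁻¹) * a⁻¹ by group, e1,
      show a * (y * d) * a⁻¹ = a * ((y * d) * a⁻¹ * (y * d)⁻¹) * (y * d) by group,
      inv_eq_of_mul_eq_one_right h.aa, hyda, ← mul_assoc a, h.za, mul_assoc z a a, h.aa, mul_one, ← hydz, mul_assoc]
  have n1 := key d (k * g) hdJ hdy hdne e1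
  have n2 := key (d * z) (a * (k * g)) (mul_mem hdJ h.z_mem)
    (by rw [mul_assoc, ← hy, ← mul_assoc, hdy, mul_assoc]) (by rw [h.π_mul d hdJ z h.z_mem, h.π_z, add_zero]; exact hdne) e2
  have hz' : ∀ e, e * y = y * e → g⁻¹ * e * g * z = z * (g⁻¹ * e * g) := by
    intro e he
    calc g⁻¹ * e * g * z = g⁻¹ * (e * y) * g := by rw [hydef]; group
      _ = _ := by rw [he, hydef]; group
  have n' : ∀ e, e * (g * a * g⁻¹) ≠ g * a * g⁻¹ * e → g⁻¹ * e * g * a ≠ a * (g⁻¹ * e * g) := by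
    intro e hne' hc
    apply hne'
    calc e * (g * a * g⁻¹) = g * (g⁻¹ * e * g * a) * g⁻¹ := by group
      _ = _ := by rw [hc]; group
  have hfin := h.mul_comm_a (hz' d hdy) (hz' _ (by rw [mul_assoc, ← hy, ← mul_assoc, hdy, mul_assoc])) (n' d n1) (n' _ n2)
  rw [show g⁻¹ * d * g * (g⁻¹ * (d * z) * g) = g⁻¹ * (d * d * z) * g by group, hd2, one_mul] at hfin
  refine h.no_common hsw hS hy hne ?_
  calc g * a * g⁻¹ * z = g * (a * (g⁻¹ * z * g)) * g⁻¹ := by group
    _ = _ := by rw [← hfin]; group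

end Setting

end CfsgLib.Recognition.USixCentral
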