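import Cfsg.Agent.Lib.Recognition.USixCentral.Natural
import Cfsg.Agent.Lib.Recognition.USixCentral.Plane.Instance
import Cfsg.Agent.Lib.Recognition.USixCentral.BothUnitary
import Cfsg.Agent.Lib.Recognition.USixCentral.Central
import Cfsg.Agent.Lib.Recognition.USixCentral.Perfect
import Cfsg.Agent.Lib.Recognition.USixCentral.Swap
import Cfsg.Agent.Lib.Recognition.USixTwoOuter.Dichotomy

/-!
# A central involution with two-core `2 × 2¹⁺⁸`: the three outcomes
-/

set_option autoImplicit false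
set_option maxRecDepth 100000
set_option linter.unusedSectionVars false
set_option linter.style.haveILetI false

namespace CfsgLib.Recognition.USixCentral

open CfsgLib.Recognition.USixTwo (V4)
open CfsgLib.Recognition.USixTwoOuter (sup_oddCore_eq_top coreTwo)

theorem frame_eight {E : Type*} [Group E] [Finite E] (hE : Cfsg.IsExtraspecial 2 E) (hc : Nat.card E = 512) :
    Nonempty (CfsgLib.ThreeTransp.ExtraspecialOut.Frame E 8) := by
  obtain ⟨k, ⟨f⟩⟩ := CfsgLib.ThreeTransp.ExtraspecialOut.exists_frame hE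
  have hk8 : k = 8 := by
    have hk := CfsgLib.ThreeTransp.ExtraspecialOut.card_E f
    rw [hc] at hk
    have : 2 ^ k = 2 ^ 8 := by omega
    exact Nat.pow_right_injective le_rfl this
  exact ⟨hk8 ▸ f⟩

variable {G : Type*} [Group G] [Finite G] {F : Type*} [Field F] [Fintype F]
  {z a : G} {J : Subgroup G} {φ : ↥(Subgroup.centralizer ({z} : Set G)) →* MulAut (Cfsg.PSp 2 F)}

namespace Twin

variable (t : Twin z a J φ) (hF : Fintype.card F = 3) (hsq : ∀ j ∈ J, j * j = 1 ∨ j * j = z)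
include t hF hsq

/-- Natural coordinates, or the odd core supplements the centraliser. -/
theorem setting_or_supplement : (∃ π ψ, Setting z a J π ψ) ∨
    Subgroup.centralizer ({z} : Set G) ⊔ Cfsg.oddCore G = ⊤ := by
  classical
  obtain ⟨Q, _, _, q, hq⟩ := exists_onto a t.ord_a
  obtain ⟨Kq, φq, h⟩ := t.exists_innQuot hq hF hsq
  obtain ⟨f⟩ := frame_eight h.hyp.extra.ext h.hyp.card_J
  obtain ⟨k, hk, hops⟩ := CfsgLib.Recognition.USixTwoOuter.exists_ops h.hyp f
  by_cases hs : ∃ x, CfsgLib.Recognition.USixTwoOuter.Seed (CfsgLib.Recognition.USixTwoOuter.opsOf h.hyp f k) x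
  · obtain ⟨x, hx⟩ := hs
    obtain ⟨e, heq, hiso⟩ := CfsgLib.Recognition.USixTwoOuter.natural_of_seed h.hyp f k hk hops hx
    exact Or.inl (setting_of_natural hF t h f e heq hiso)
  · push Not at hs
    have splitA : SplitAt z (Subgroup.centralizer ({a} : Set G)) := t.split_of_supplement hq hF
      (CfsgLib.Recognition.USixTwoOuter.fixed_supplement h.hyp f k hk hops hs h.hKn h.hidx h.hcc)
    obtain ⟨Qb, _, _, qb, hqb⟩ := exists_onto (z * a) t.swap.ord_a
    obtain ⟨Kb, φb, hb⟩ := t.swap.exists_innQuot hqb hF hsq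
    obtain ⟨fb⟩ := frame_eight hb.hyp.extra.ext hb.hyp.card_J
    rcases CfsgLib.Recognition.USixTwoOuter.natural_or_supplement hb.hyp fb hb.hKn hb.hidx hb.hcc with
      ⟨e, heq, hiso⟩ | hsb
    · obtain ⟨π, ψ, hS⟩ := setting_of_natural hF t.swap hb fb e heq hiso
      have hS' := hS.swap
      rw [show z * (z * a) = a by rw [← mul_assoc, t.zz, one_mul]] at hS'
      exact Or.inl ⟨π, ψ, hS'⟩
    · exact Or.inr (h.data f k hk hops hs (t.no_q8 hF) splitA
        (t.swap.split_of_supplement hqb hF hsb)).supplement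

end Twin

/-- A central involution with `G / ⟨x⟩` having a subgroup `U` of index two: the preimage. -/
theorem central_quotient {x : G} (hxx : x * x = 1) (hc : ∀ g : G, g * x = x * g)
    {Q : Type*} [Group Q] {q : ↥(Subgroup.centralizer ({x} : Set G)) →* Q} (hq : Onto x q) {U : Subgroup Q}
    (hU : U.index = 2) {Y : Type*} [Group Y] (e : ↥U ≃* Y) :
    (Subgroup.zpowers x).Normal ∧ ∃ (G₀ : Subgroup G) (_ : x ∈ G₀), G₀.index = 2 ∧
      ∃ hn : ((Subgroup.zpowers x).subgroupOf G₀).Normal,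
        Nonempty ((↥G₀ ⧸ (Subgroup.zpowers x).subgroupOf G₀) ≃* Y) := by
  have hN : (Subgroup.zpowers x).Normal := ⟨fun n hn g => by
    obtain ⟨i, rfl⟩ := Subgroup.mem_zpowers_iff.1 hn
    rw [((show Commute g x from hc g).zpow_right i).eq, mul_inv_cancel_right]
    exact Subgroup.zpow_mem _ (Subgroup.mem_zpowers x) i⟩
  haveI := hN
  have htop : Subgroup.centralizer ({x} : Set G) = ⊤ := eq_top_iff.2 fun g _ => mem_cent_of (hc g)
  set G₀ := (U.comap q).map (Subgroup.centralizer ({x} : Set G)).subtype with hG₀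
  have hmem : ∀ g : G, g ∈ G₀ ↔ q ⟨g, mem_cent_of (hc g)⟩ ∈ U := fun g => by
    constructor
    · rintro ⟨y, hy, rfl⟩; exact hy
    · exact fun hg => ⟨⟨g, mem_cent_of (hc g)⟩, hg, rfl⟩
  refine ⟨hN, G₀, (hmem x).2 (by rw [(hq.ker _).2 (Or.inr rfl)]; exact one_mem _), ?_, inferInstance, ?_⟩
  · rw [hG₀, Subgroup.index_map_subtype, Subgroup.index_comap_of_surjective _ hq.surj, hU, htop,
      Subgroup.index_top, mul_one]
  · let f : ↥G₀ →* ↥U :=
      { toFun := fun g => ⟨q ⟨g, mem_cent_of (hc g)⟩, (hmem g).1 g.2⟩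
        map_one' := Subtype.ext (map_one q)
        map_mul' := fun g g' => Subtype.ext (map_mul q ⟨(g : G), mem_cent_of (hc g)⟩ ⟨(g' : G), mem_cent_of (hc g')⟩) }
    have hf : Function.Surjective f := fun v => by
      obtain ⟨y, hy⟩ := hq.surj (v : Q)
      exact ⟨⟨(y : G), (hmem y).2 (by rw [show (⟨(y : G), mem_cent_of (hc y)⟩ : ↥(Subgroup.centralizer
        ({x} : Set G))) = y from rfl, hy]; exact v.2)⟩, Subtype.ext hy⟩
    have hk : (Subgroup.zpowers x).subgroupOf G₀ = f.ker := by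
      ext g
      rw [Subgroup.mem_subgroupOf, CfsgLib.ThreeTransp.Extraspecial.mem_zpowers_involution hxx, MonoidHom.mem_ker,
        ← Subtype.coe_inj]
      exact (hq.ker ⟨(g : G), mem_cent_of (hc g)⟩).symm
    exact ⟨(QuotientGroup.quotientMulEquivOfEq hk).trans
      ((QuotientGroup.quotientKerEquivOfSurjective f hf).trans e)⟩

namespace Twin

variable (t : Twin z a J φ) (hF : Fintype.card F = 3) {K : Type*} [Field K] [Fintype K] (hK : Fintype.card K = 4)
include t hF hK

/-- With `a` fixed: split, or unitary of index two modulo `a`. -/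
theorem fix_recognise {Q : Type*} [Group Q] [Finite Q] {q : ↥(Subgroup.centralizer ({a} : Set G)) →* Q}
    (hq : Onto a q) (hfix : ∀ c : G, c * z = z * c → c * a = a * c) :
    SplitAt z (Subgroup.centralizer ({a} : Set G)) ∨
      ∃ U : Subgroup Q, U.index = 2 ∧ Nonempty (↥U ≃* Cfsg.PSU 6 K 2) := by
  obtain ⟨hord, hE, hc, hW, hiso, -⟩ := t.quot_hyps hq hF
  obtain ⟨e⟩ := hiso hfix
  rcases Cfsg.Agent.S3231.result (t.zb q) hord hF hK hE hc hW e with ⟨U, h1, h2, -⟩ | hs
  · exact Or.inr ⟨U, h1, h2⟩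
  · exact Or.inl (t.split_of_supplement hq hF hs)

/-- With `a` moved: split, or unitary modulo `a`. -/
theorem swap_recognise {Q : Type*} [Group Q] [Finite Q] {q : ↥(Subgroup.centralizer ({a} : Set G)) →* Q}
    (hq : Onto a q) (hsw : ∃ s : G, s * z = z * s ∧ s * a ≠ a * s) :
    SplitAt z (Subgroup.centralizer ({a} : Set G)) ∨ Nonempty (Q ≃* Cfsg.PSU 6 K 2) := by
  obtain ⟨hord, hE, hc, hW, -, hiso⟩ := t.quot_hyps hq hF
  obtain ⟨e⟩ := hiso hsw
  rcases Cfsg.Agent.S3230.result (t.zb q) hord hF hK hE hc hW e with h | hs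
  · exact Or.inr h
  · exact Or.inl (t.split_of_supplement hq hF hs)

variable {π : G → V4} {ψ : ↥(Subgroup.centralizer ({z} : Set G)) →* (V4 ≃ₗ[ZMod 2] V4)} (h : Setting z a J π ψ)
include h

/-- With `a` fixed, unitary modulo `a` and split at `z * a`: `a` is central. -/
theorem central_case {Q : Type*} [Group Q] [Finite Q] {q : ↥(Subgroup.centralizer ({a} : Set G)) →* Q}
    (hq : Onto a q) (hfix : ∀ c : G, c * z = z * c → c * a = a * c) {U : Subgroup Q} (hU : U.index = 2)
    (e : ↥U ≃* Cfsg.PSU 6 K 2) (hb : SplitAt z (Subgroup.centralizer ({z * a} : Set G))) :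
    (∀ g : G, g * a = a * g) ∧ (Subgroup.zpowers a).Normal ∧ ∃ (G₀ : Subgroup G) (_ : a ∈ G₀), G₀.index = 2 ∧
      ∃ hn : ((Subgroup.zpowers a).subgroupOf G₀).Normal,
        Nonempty ((↥G₀ ⧸ (Subgroup.zpowers a).subgroupOf G₀) ≃* Cfsg.PSU 6 K 2) := by
  haveI := apply_psu_simple hK
  haveI := e.isSimpleGroup
  obtain ⟨u, hua, hy, hψ, -⟩ := h.unit_member hq hU.le inferInstance
    (by rw [Nat.card_congr e.toEquiv, apply_psu_card hK])
  have hne : u * z * u⁻¹ ≠ z := fun e' => by
    have h1 := (h.ker ⟨u * z * u⁻¹, Subgroup.mem_centralizer_singleton_iff.2 hy⟩).2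
      (show u * z * u⁻¹ ∈ J by rw [e']; exact h.z_mem)
    rw [hψ] at h1
    exact CfsgLib.Recognition.USixTwo.tv_ne_one v0_facts.1 v0_facts.2 h1
  have hc := h.central_of_member hfix hb hua hy hne
  exact ⟨hc, central_quotient h.aa hc hq hU e⟩

/-- The three outcomes. -/
theorem outcome : Subgroup.centralizer ({z} : Set G) ⊔ Cfsg.oddCore G = ⊤ ∨
    (∃ x : G, (x = a ∨ x = z * a) ∧ (∀ g : G, g * x = x * g) ∧ (Subgroup.zpowers x).Normal ∧
      ∃ (G₀ : Subgroup G) (_ : x ∈ G₀), G₀.index = 2 ∧ ∃ hn : ((Subgroup.zpowers x).subgroupOf G₀).Normal,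
        Nonempty ((↥G₀ ⧸ (Subgroup.zpowers x).subgroupOf G₀) ≃* Cfsg.PSU 6 K 2)) ∨
    Cfsg.Spor.IsoFi22 G := by
  classical
  obtain ⟨Q, _, _, q, hq⟩ := exists_onto a t.ord_a
  by_cases hfix : ∀ c : G, c * z = z * c → c * a = a * c
  · have hfix' : ∀ c : G, c * z = z * c → c * (z * a) = z * a * c := fun c hc => h.fix_za hfix hc
    obtain ⟨Qb, _, _, qb, hqb⟩ := exists_onto (z * a) t.swap.ord_a
    rcases t.fix_recognise hF hK hq hfix, t.swap.fix_recognise hF hK hqb hfix' with
      ⟨hs | ⟨U, hU, ⟨e⟩⟩, hs' | ⟨U', hU', ⟨e'⟩⟩⟩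
    · exact Or.inl (h.sup_of_isolated (h.isolated_a hfix hs') hs)
    · obtain ⟨hc, hN, hG⟩ := t.swap.central_case hF hK h.swap hqb hfix' hU' e' (by rw [h.z_za]; exact hs)
      exact Or.inr (Or.inl ⟨z * a, Or.inr rfl, hc, hN, hG⟩)
    · obtain ⟨hc, hN, hG⟩ := t.central_case hF hK h hq hfix hU e hs'
      exact Or.inr (Or.inl ⟨a, Or.inl rfl, hc, hN, hG⟩)
    · exfalso
      haveI := apply_psu_simple hK
      haveI := e.isSimpleGroup
      haveI := e'.isSimpleGroup
      exact h.both_unitary hfix hq hqb hU.le inferInstance (by rw [Nat.card_congr e.toEquiv, apply_psu_card hK])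
        hU'.le inferInstance (by rw [Nat.card_congr e'.toEquiv, apply_psu_card hK])
  · push Not at hfix
    rcases t.swap_recognise hF hK hq hfix with hs | ⟨⟨e⟩⟩
    · exact Or.inl (sup_oddCore_eq_top (h.swap_isolated hfix hs))
    · by_cases ha : a ∈ h.L0
      · exact Or.inr (Or.inr (h.fi22_of_perfect hq hK e hfix ha))
      · exfalso
        haveI := apply_psu_simple hK
        haveI := e.isSimpleGroup
        obtain ⟨G1, hn, hl, haG, -⟩ := h.exists_avoiding hq inferInstance hfix ha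
        have hcov : ∀ x : G, x * a = a * x → x ∈ G1 ∨ x * a ∈ G1 := fun x hx =>
          (h.L0_cover hq inferInstance hx).imp (fun m => hl m) (fun m => hl m)
        have hbig : ∃ c ∈ G1, c * z = z * c ∧ c ∉ J := by
          obtain ⟨s, hs⟩ : ∃ s : Cfsg.PSp 2 F, s ≠ 1 := by
            by_contra hcon
            push Not at hcon
            haveI : Subsingleton (Cfsg.PSp 2 F) := ⟨fun x y => by rw [hcon x, hcon y]⟩
            have h1 := (CfsgLib.Recognition.USixTwoOuter.card_aut_psp_three hF).1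
            rw [Nat.card_unique] at h1
            omega
          obtain ⟨c, hc⟩ := t.surj (MulAut.conj s)
          have hcJ : (c : G) ∉ J := fun m => hs (CfsgLib.KnownC.AutPSp.conj_injective_psp (F := F) (m := 2)
            (by norm_num) (by rw [← hc, (t.ker c).2 m, map_one]))
          have hcK : (c : G) ∈ t.innK := (t.mem_innK c).2 ⟨s, hc.symm⟩
          rcases hcov _ (t.innK_a hF hcK) with m | m
          · exact ⟨c, m, t.innK_z hcK, hcJ⟩
          · refine ⟨c * a, m, ?_, fun m' => hcJ ?_⟩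
            · rw [mul_assoc, t.za, ← mul_assoc, t.innK_z hcK, mul_assoc]
            · have := mul_mem m' t.a_mem
              rwa [mul_assoc, t.aa, mul_one] at this
        exact h.avoiding_absurd hq inferInstance (by rw [Nat.card_congr e.toEquiv, apply_psu_card hK]) hfix ha hn hl
          (t.avoiding_recognise hF hn (hl h.z_mem_L0) haG (fun j hj => hcov j (t.a_cent j hj)) hbig hK)

end Twin

end CfsgLib.Recognition.USixCentral
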