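import Cfsg.Agent.Lib.Recognition.USixCentral.Involution

/-!
# An involution whose centraliser has two-core of centre a four-group: coordinates and first facts

`J` has order `2¹⁰`, centre `{1, z, a, z * a}` and coordinates `π`; the centraliser of `z` acts on them as the
extended isometry group. The involution `z` is not conjugate to `a` or `z * a`, and its centraliser contains a Sylow
subgroup of every subgroup containing `J`.
-/

set_option autoImplicit false
set_option linter.unusedSectionVars false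

namespace CfsgLib.Recognition.USixCentral

open CfsgLib.Recognition.USixTwo
open CfsgLib.Sporadic.LargeFischer (D4 om nzd)

/-- The configuration. -/
structure Setting {G : Type*} [Group G] [Finite G] (z a : G) (J : Subgroup G) (π : G → V4)
    (ψ : ↥(Subgroup.centralizer ({z} : Set G)) →* (V4 ≃ₗ[ZMod 2] V4)) : Prop where
  ord_z : orderOf z = 2
  ord_a : orderOf a = 2
  ne : a ≠ z
  card_J : Nat.card J = 1024
  z_mem : z ∈ J
  a_mem : a ∈ J
  z_cent : ∀ j ∈ J, j * z = z * j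
  a_cent : ∀ j ∈ J, j * a = a * j
  π_mul : ∀ j ∈ J, ∀ k ∈ J, π (j * k) = π j + π k
  π_surj : ∀ v, ∃ j ∈ J, π j = v
  π_ker : ∀ j ∈ J, π j = 0 ↔ j = 1 ∨ j = z ∨ j = a ∨ j = z * a
  sq : ∀ j ∈ J, j * j = if q4 (π j) = 0 then 1 else z
  norm : ∀ c, c * z = z * c → ∀ j ∈ J, c * j * c⁻¹ ∈ J
  act : ∀ c : ↥(Subgroup.centralizer ({z} : Set G)), ∀ j ∈ J, π (c * j * (c : G)⁻¹) = ψ c (π j)
  ker : ∀ c : ↥(Subgroup.centralizer ({z} : Set G)), ψ c = 1 ↔ (c : G) ∈ J
  outer : Outer4 ψ.range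

theorem zmod2_cases : ∀ c : ZMod 2, c = 0 ∨ c = 1 := by decide

theorem bs4_nondeg {u : V4} (h : ∀ v, bs4 u v = 0) : u = 0 := by
  by_contra hu
  obtain ⟨i, hi⟩ := hm_nondeg hu
  have key : ∀ x : D4, x ≠ 0 → ∃ c : D4, (fm (cj c) x).2 ≠ 0 := by decide
  obtain ⟨c, hc⟩ := key (hm u (ev i)) (hm_ne_symm hi)
  apply hc
  rw [← hm_scl_right, ← bs4_eq]
  exact h _

variable {G : Type*} [Group G] [Finite G]

theorem mul_self_of_order_two {x : G} (h : orderOf x = 2) : x * x = 1 := by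
  rw [← pow_two, ← h, pow_orderOf_eq_one]

theorem ne_one_of_order_two {x : G} (h : orderOf x = 2) : x ≠ 1 := fun e => by
  rw [e, orderOf_one] at h; norm_num at h

theorem order_two {x : G} (h : x * x = 1) (h1 : x ≠ 1) : orderOf x = 2 :=
  orderOf_eq_prime (by rw [pow_two, h]) h1

namespace Setting

variable {z a : G} {J : Subgroup G} {π : G → V4} {ψ : ↥(Subgroup.centralizer ({z} : Set G)) →* (V4 ≃ₗ[ZMod 2] V4)}
  (h : Setting z a J π ψ)
include h

theorem zz : z * z = 1 := mul_self_of_order_two h.ord_z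

theorem aa : a * a = 1 := mul_self_of_order_two h.ord_a

theorem za : a * z = z * a := h.z_cent a h.a_mem

theorem za_mem : z * a ∈ J := mul_mem h.z_mem h.a_mem

theorem za_sq : z * a * (z * a) = 1 := by
  rw [mul_assoc, ← mul_assoc a z, h.za, mul_assoc z a a, h.aa, mul_one, h.zz]

theorem z_za : z * (z * a) = a := by rw [← mul_assoc, h.zz, one_mul]

theorem za_ne_one : z * a ≠ 1 := fun e => h.ne (by
  rw [← h.z_za, e, mul_one])

theorem za_ne_z : z * a ≠ z := fun e => ne_one_of_order_two h.ord_a (mul_eq_left.1 e)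

theorem za_ne_a : z * a ≠ a := fun e => ne_one_of_order_two h.ord_z (mul_eq_right.1 e)

/-- The roles of `a` and `z * a` may be exchanged. -/
theorem swap : Setting z (z * a) J π ψ where
  ord_z := h.ord_z
  ord_a := order_two h.za_sq h.za_ne_one
  ne := h.za_ne_z
  card_J := h.card_J
  z_mem := h.z_mem
  a_mem := h.za_mem
  z_cent := h.z_cent
  a_cent j hj := by rw [← mul_assoc, h.z_cent j hj, mul_assoc, h.a_cent j hj, ← mul_assoc]
  π_mul := h.π_mul
  π_surj := h.π_surj
  π_ker j hj := by rw [h.π_ker j hj, h.z_za]; tauto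
  sq := h.sq
  norm := h.norm
  act := h.act
  ker := h.ker
  outer := h.outer

theorem le_cent : J ≤ Subgroup.centralizer ({z} : Set G) := fun j hj =>
  Subgroup.mem_centralizer_singleton_iff.2 (h.z_cent j hj)

theorem π_one : π 1 = 0 := (h.π_ker 1 (one_mem _)).2 (Or.inl rfl)

theorem π_z : π z = 0 := (h.π_ker z h.z_mem).2 (Or.inr (Or.inl rfl))

theorem π_a : π a = 0 := (h.π_ker a h.a_mem).2 (Or.inr (Or.inr (Or.inl rfl)))

theorem π_inv {j : G} (hj : j ∈ J) : π j⁻¹ = π j := by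
  have := h.π_mul j hj j⁻¹ (inv_mem hj)
  rw [mul_inv_cancel, h.π_one] at this
  calc π j⁻¹ = π j + π j + π j⁻¹ := by rw [add_self_V4, zero_add]
    _ = π j := by rw [add_assoc, ← this, add_zero]

theorem π_eq {j k : G} (hj : j ∈ J) (hk : k ∈ J) (e : π j = π k) :
    j⁻¹ * k = 1 ∨ j⁻¹ * k = z ∨ j⁻¹ * k = a ∨ j⁻¹ * k = z * a := by
  refine (h.π_ker _ (mul_mem (inv_mem hj) hk)).1 ?_
  rw [h.π_mul _ (inv_mem hj) _ hk, h.π_inv hj, e, add_self_V4]

/-- An element commuting with `z` and `a` commutes with the centre. -/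
theorem centre_comm {x c : G} (xz : x * z = z * x) (xa : x * a = a * x)
    (hc : c = 1 ∨ c = z ∨ c = a ∨ c = z * a) : x * c = c * x := by
  rcases hc with rfl | rfl | rfl | rfl
  · rw [mul_one, one_mul]
  · exact xz
  · exact xa
  · rw [← mul_assoc, xz, mul_assoc, xa, ← mul_assoc]

theorem comm_iff {j k : G} (hj : j ∈ J) (hk : k ∈ J) : j * k = k * j ↔ bs4 (π j) (π k) = 0 := by
  have key : j * k * (j * k) = j * j * (k * k) ↔ j * k = k * j := by
    constructor
    · intro e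
      have : k * j * k = j * k * k := mul_left_cancel (a := j) (by simpa [mul_assoc] using e)
      exact (mul_right_cancel this).symm
    · intro e
      calc j * k * (j * k) = j * (k * j) * k := by group
        _ = j * j * (k * k) := by rw [← e]; group
  rw [← key, h.sq _ (mul_mem hj hk), h.sq j hj, h.sq k hk, h.π_mul j hj k hk, bs4]
  generalize q4 (π j + π k) = i
  generalize q4 (π j) = m
  generalize q4 (π k) = n
  have hz := ne_one_of_order_two h.ord_z
  rcases zmod2_cases i with rfl | rfl <;> rcases zmod2_cases m with rfl | rfl <;>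
    rcases zmod2_cases n with rfl | rfl <;> simp [hz, Ne.symm hz, h.zz, (by decide : (1 : ZMod 2) + 1 = 0)]

theorem comm_cases {j k : G} (hj : j ∈ J) (hk : k ∈ J) : j * k = k * j ∨ j * k = z * (k * j) := by
  by_cases hc : j * k = k * j
  · exact Or.inl hc
  · refine Or.inr ?_
    have hb := (zmod2_cases _).resolve_left fun e => hc ((h.comm_iff hj hk).2 e)
    have hsq := h.sq _ (mul_mem hj hk)
    have e1 : j * k = (j * k)⁻¹ * (j * k * (j * k)) := by group
    have ej : j⁻¹ = j * (j * j)⁻¹ := by group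
    have ek : k⁻¹ = k * (k * k)⁻¹ := by group
    rw [bs4] at hb
    rw [hsq, h.π_mul j hj k hk, mul_inv_rev, ej, ek, h.sq j hj, h.sq k hk] at e1
    revert hb e1
    generalize q4 (π j + π k) = i
    generalize q4 (π j) = m
    generalize q4 (π k) = n
    intro hb e1
    have hzi : z⁻¹ = z := inv_eq_of_mul_eq_one_right h.zz
    have kz : k * z = z * k := h.z_cent k hk
    have jz : j * z = z * j := h.z_cent j hj
    rcases zmod2_cases i with rfl | rfl <;> rcases zmod2_cases m with rfl | rfl <;>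
      rcases zmod2_cases n with rfl | rfl <;>
      first
        | exact absurd hb (by decide)
        | (rw [e1]; simp [hzi, kz, jz, mul_assoc, h.zz, ← mul_assoc k z, ← mul_assoc j z, ← mul_assoc z z])

theorem centre {j : G} (hj : j ∈ J) (hc : ∀ k ∈ J, j * k = k * j) : j = 1 ∨ j = z ∨ j = a ∨ j = z * a := by
  refine (h.π_ker j hj).1 (bs4_nondeg fun v => ?_)
  obtain ⟨k, hk, rfl⟩ := h.π_surj v
  exact (h.comm_iff hj hk).1 (hc k hk)

theorem cent_le {c : G} (hc : ∀ j ∈ J, c * j = j * c) : c ∈ J := by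
  let cc : ↥(Subgroup.centralizer ({z} : Set G)) := ⟨c, Subgroup.mem_centralizer_singleton_iff.2 (hc z h.z_mem)⟩
  refine (h.ker cc).1 (LinearEquiv.ext fun v => ?_)
  obtain ⟨j, hj, rfl⟩ := h.π_surj v
  rw [← h.act cc j hj]
  show π (c * j * c⁻¹) = π j
  rw [hc j hj, mul_inv_cancel_right]

theorem conj_centre (c : ↥(Subgroup.centralizer ({z} : Set G))) {j : G} (hj : j ∈ J) (h0 : π j = 0) :
    π ((c : G) * j * (c : G)⁻¹) = 0 := by rw [h.act c j hj, h0, map_zero]

/-- The centraliser of `z` permutes `a` and `z * a`. -/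
theorem conj_a {c : G} (hc : c * z = z * c) : c * a * c⁻¹ = a ∨ c * a * c⁻¹ = z * a := by
  have h0 := h.conj_centre ⟨c, Subgroup.mem_centralizer_singleton_iff.2 hc⟩ h.a_mem h.π_a
  rcases (h.π_ker _ (h.norm c hc a h.a_mem)).1 h0 with e | e | e | e
  · exact absurd (conj_eq_one_iff.1 e) (ne_one_of_order_two h.ord_a)
  · refine absurd ?_ h.ne
    calc a = c⁻¹ * (c * a * c⁻¹) * c := by group
      _ = c⁻¹ * (z * c) := by rw [e, mul_assoc]
      _ = z := by rw [← hc, inv_mul_cancel_left]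
  · exact Or.inl e
  · exact Or.inr e

theorem swap_of_not_comm {c : G} (hc : c * z = z * c) (hn : c * a ≠ a * c) : c * a * c⁻¹ = z * a :=
  (h.conj_a hc).resolve_left fun e => hn (mul_inv_eq_iff_eq_mul.1 e)

theorem mul_comm_a {c d : G} (hc : c * z = z * c) (hd : d * z = z * d) (nc : c * a ≠ a * c) (nd : d * a ≠ a * d) :
    c * d * a = a * (c * d) := by
  have e1 := h.swap_of_not_comm hd nd
  have e2 := h.swap_of_not_comm hc nc
  rw [← mul_inv_eq_iff_eq_mul, show c * d * a * (c * d)⁻¹ = c * (d * a * d⁻¹) * c⁻¹ by group, e1,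
    show c * (z * a) * c⁻¹ = (c * z) * c⁻¹ * (c * a * c⁻¹) by group, hc, mul_inv_cancel_right, e2, h.z_za]

/-- The elements over the transvection group fix `a`. -/
theorem fix_a {c : ↥(Subgroup.centralizer ({z} : Set G))} (hc : ψ c ∈ TG) : (c : G) * a = a * c := by
  let M : Subgroup (V4 ≃ₗ[ZMod 2] V4) :=
    ((Subgroup.centralizer ({a} : Set G)).subgroupOf (Subgroup.centralizer ({z} : Set G))).map ψ
  have hM : TG ≤ M := by
    refine TG_le_of_parity h.outer.tg ?_
    rintro _ ⟨x, rfl⟩ _ ⟨y, rfl⟩ hx hy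
    refine ⟨x * y, Subgroup.mem_centralizer_singleton_iff.2 ?_, map_mul ψ x y⟩
    exact h.mul_comm_a (Subgroup.mem_centralizer_singleton_iff.1 x.2) (Subgroup.mem_centralizer_singleton_iff.1 y.2)
      (fun e => hx ⟨x, Subgroup.mem_centralizer_singleton_iff.2 e, rfl⟩)
      (fun e => hy ⟨y, Subgroup.mem_centralizer_singleton_iff.2 e, rfl⟩)
  obtain ⟨d, hd, e⟩ := hM hc
  have hj := (h.ker (d⁻¹ * c)).1 (by rw [map_mul, map_inv, e, inv_mul_cancel])
  have hd' := Subgroup.mem_centralizer_singleton_iff.1 (show (d : G) ∈ Subgroup.centralizer ({a} : Set G) from hd)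
  calc (c : G) * a = d * (((d⁻¹ * c : ↥(Subgroup.centralizer ({z} : Set G))) : G) * a) := by simp [mul_assoc]
    _ = (d : G) * a * ((d⁻¹ * c : ↥(Subgroup.centralizer ({z} : Set G))) : G) := by rw [h.a_cent _ hj, mul_assoc]
    _ = a * c := by rw [hd']; simp [mul_assoc]

theorem ker_eq : ψ.ker = J.subgroupOf (Subgroup.centralizer ({z} : Set G)) :=
  Subgroup.ext fun c => by rw [MonoidHom.mem_ker, h.ker c, Subgroup.mem_subgroupOf]

theorem card_ker : Nat.card ψ.ker = 1024 := by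
  rw [h.ker_eq, Nat.card_congr (Subgroup.subgroupOfEquivOfLe h.le_cent).toEquiv, h.card_J]

theorem card_preimage {M : Subgroup (V4 ≃ₗ[ZMod 2] V4)} (hM : M ≤ ψ.range) :
    Nat.card (M.comap ψ) = 1024 * Nat.card M := by
  set f := ψ.comp (M.comap ψ).subtype with hf
  have h1 := f.ker.card_mul_index
  have hr : f.range = M := by
    refine le_antisymm ?_ fun x hx => ?_
    · rintro _ ⟨c, rfl⟩; exact c.2
    · obtain ⟨c, rfl⟩ := hM hx
      exact ⟨⟨c, hx⟩, rfl⟩
  have hk : Nat.card f.ker = 1024 := by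
    rw [← h.card_ker]
    refine Nat.card_congr ⟨fun c => ⟨c.1.1, c.2⟩,
      fun c => ⟨⟨c.1, Subgroup.mem_comap.2 (by rw [MonoidHom.mem_ker.1 c.2]; exact one_mem _)⟩, c.2⟩,
      fun c => rfl, fun c => rfl⟩
  rw [Subgroup.index_ker, hr, hk] at h1
  exact h1.symm

/-- A 2-subgroup normalised by the elements over the transvection group lies in `J`. -/
theorem le_J {P : Subgroup G} (hP : P ≤ Subgroup.centralizer ({z} : Set G)) (h2 : IsPGroup 2 P)
    (hn : ∀ c : ↥(Subgroup.centralizer ({z} : Set G)), ψ c ∈ TG → ∀ p ∈ P, (c : G) * p * (c : G)⁻¹ ∈ P) :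
    P ≤ J := by
  set Q := (P.subgroupOf (Subgroup.centralizer ({z} : Set G))).map ψ with hQ
  have hQ2 : IsPGroup 2 Q := (h2.comap_of_injective _ Subtype.val_injective).map _
  have := h.outer.eq_bot_of_normalised hQ2 (by
    rintro g hg _ ⟨p, hp, rfl⟩
    obtain ⟨c, rfl⟩ := h.outer.tg hg
    exact ⟨c * p * c⁻¹, hn c hg p hp, by rw [map_mul, map_mul, map_inv]⟩)
  intro p hp
  refine (h.ker ⟨p, hP hp⟩).1 ?_
  rw [← Subgroup.mem_bot, ← this]
  exact ⟨⟨p, hP hp⟩, hp, rfl⟩

/-- `z` is not conjugate to `a`. -/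
theorem not_conj_a (g : G) : g * z * g⁻¹ ≠ a := by
  intro e
  set w := g⁻¹ * z * g with hw
  have hwz : w * z = z * w := by
    have h1 : a * z = z * a := h.za
    rw [← e] at h1
    calc w * z = g⁻¹ * (z * (g * z * g⁻¹)) * g := by rw [hw]; group
      _ = z * w := by rw [← h1, hw]; group
  let wc : ↥(Subgroup.centralizer ({z} : Set G)) := ⟨w, Subgroup.mem_centralizer_singleton_iff.2 hwz⟩
  have hw2 : w * w = 1 := by
    rw [hw, show g⁻¹ * z * g * (g⁻¹ * z * g) = g⁻¹ * (z * z) * g by group, h.zz]; group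
  set C := (Subgroup.centralizer ({wc} : Set ↥(Subgroup.centralizer ({z} : Set G)))) with hC
  have hcard : Nat.card (TG.comap ψ) ≤ Nat.card C := by
    refine Nat.card_le_card_of_injective (fun c => (⟨⟨g⁻¹ * ((c.1 : G)) * g,
      Subgroup.mem_centralizer_singleton_iff.2 ?_⟩, Subgroup.mem_centralizer_singleton_iff.2 (Subtype.ext ?_)⟩ : C))
      fun c d e0 => ?_
    · have h1 := h.fix_a (c := c.1) c.2
      rw [← e] at h1
      calc g⁻¹ * (c.1 : G) * g * z = g⁻¹ * ((c.1 : G) * (g * z * g⁻¹)) * g := by group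
        _ = z * (g⁻¹ * (c.1 : G) * g) := by rw [h1]; group
    · show g⁻¹ * (c.1 : G) * g * w = w * (g⁻¹ * (c.1 : G) * g)
      rw [hw, show g⁻¹ * (c.1 : G) * g * (g⁻¹ * z * g) = g⁻¹ * ((c.1 : G) * z) * g by group,
        Subgroup.mem_centralizer_singleton_iff.1 c.1.2]
      group
    · simp only [Subtype.mk.injEq, mul_left_inj, mul_right_inj] at e0
      exact Subtype.ext (Subtype.ext e0)
  rw [h.card_preimage h.outer.tg, h.outer.model.card] at hcard
  set M := C.map ψ with hM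
  have hM25 : 25920 ≤ Nat.card M := by
    have := h.card_preimage (M := M) (Subgroup.map_le_range _ _)
    have h2 : Nat.card C ≤ Nat.card (M.comap ψ) :=
      Nat.card_le_card_of_injective _ (Subgroup.inclusion_injective (Subgroup.le_comap_map ψ C))
    omega
  haveI := h.outer.finite
  have hTG : TG ≤ M := by
    refine TG_le_of_parity h.outer.tg fun x hx y hy hxM hyM => ?_
    have hidx : (M.subgroupOf ψ.range).index ≤ 2 := by
      have h1 := (M.subgroupOf ψ.range).card_mul_index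
      rw [Nat.card_congr (Subgroup.subgroupOfEquivOfLe (Subgroup.map_le_range ψ C)).toEquiv, h.outer.card] at h1
      nlinarith
    rcases Nat.lt_or_ge (M.subgroupOf ψ.range).index 2 with hlt | hge
    · exfalso
      have h1 : (M.subgroupOf ψ.range).index = 1 := by
        have := Subgroup.index_ne_zero_of_finite (H := M.subgroupOf ψ.range)
        omega
      rw [Subgroup.index_eq_one, Subgroup.subgroupOf_eq_top] at h1
      exact hxM (h1 hx)
    · have := Subgroup.mul_mem_iff_of_index_two (le_antisymm hidx hge) (a := (⟨x, hx⟩ : ↥ψ.range)) (b := ⟨y, hy⟩)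
      rw [Subgroup.mem_subgroupOf, Subgroup.mem_subgroupOf, Subgroup.mem_subgroupOf] at this
      exact this.2 (iff_of_false hxM hyM)
  have hcomm : ∀ k ∈ TG, k * ψ wc = ψ wc * k := by
    intro k hk
    obtain ⟨c, hc, rfl⟩ := hTG hk
    rw [← map_mul, ← map_mul, Subgroup.mem_centralizer_singleton_iff.1 hc]
  have hwJ : w ∈ J := by
    refine (h.ker wc).1 ?_
    by_contra hne
    haveI : Fact (Nat.Prime 2) := ⟨Nat.prime_two⟩
    have hps : IsPGroup 2 (Subgroup.zpowers (ψ wc)) := IsPGroup.of_card (n := 1) (by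
      rw [Nat.card_zpowers, orderOf_eq_prime (by
        rw [pow_two, ← map_mul, show wc * wc = 1 from Subtype.ext hw2, map_one]) hne]; rfl)
    have := h.outer.eq_bot_of_normalised hps (by
      intro k hk p hp
      obtain ⟨n, rfl⟩ := Subgroup.mem_zpowers_iff.1 hp
      rw [← conj_zpow, hcomm k hk, mul_inv_cancel_right]
      exact Subgroup.zpow_mem _ (Subgroup.mem_zpowers _) n)
    exact hne (Subgroup.zpowers_eq_bot.1 this)
  have hπ : π w = 0 := by
    refine eq_zero_of_fixed fun k hk => ?_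
    obtain ⟨c, hc, rfl⟩ := hTG hk
    rw [← h.act c w hwJ]
    have hc' := congrArg Subtype.val (Subgroup.mem_centralizer_singleton_iff.1 hc)
    simp only [Subgroup.coe_mul] at hc'
    rw [show (c : G) * w = w * c from hc', mul_inv_cancel_right]
  have hcen := (h.π_ker w hwJ).1 hπ
  have hwz' : w ≠ z := by
    intro e0
    apply h.ne
    rw [hw] at e0
    rw [← e]
    calc g * z * g⁻¹ = g * (g⁻¹ * z * g) * g⁻¹ := by rw [e0]
      _ = z := by group
  have hP : J.map (MulAut.conj g⁻¹).toMonoidHom ≤ J := by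
    haveI : Fact (Nat.Prime 2) := ⟨Nat.prime_two⟩
    refine h.le_J ?_ (IsPGroup.of_card (n := 10) (by
      rw [Subgroup.card_map_of_injective (MulAut.conj g⁻¹).injective, h.card_J]; rfl)) fun c hc p hp => ?_
    · rintro _ ⟨j, hj, rfl⟩
      refine Subgroup.mem_centralizer_singleton_iff.2 ?_
      show g⁻¹ * j * g⁻¹⁻¹ * z = z * (g⁻¹ * j * g⁻¹⁻¹)
      have h1 := h.a_cent j hj
      rw [← e] at h1
      calc g⁻¹ * j * g⁻¹⁻¹ * z = g⁻¹ * (j * (g * z * g⁻¹)) * g := by group
        _ = _ := by rw [h1]; group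
    · obtain ⟨j, hj, rfl⟩ := hp
      have hcw : (c : G) * w = w * c :=
        h.centre_comm (Subgroup.mem_centralizer_singleton_iff.1 c.2) (h.fix_a hc) hcen
      refine ⟨g * c * g⁻¹ * j * (g * c * g⁻¹)⁻¹, h.norm _ ?_ j hj, ?_⟩
      · calc g * (c : G) * g⁻¹ * z = g * ((c : G) * w) * g⁻¹ := by rw [hw]; group
          _ = _ := by rw [hcw, hw]; group
      · show g⁻¹ * (g * (c : G) * g⁻¹ * j * (g * (c : G) * g⁻¹)⁻¹) * g⁻¹⁻¹ = _
        show _ = (c : G) * (g⁻¹ * j * g⁻¹⁻¹) * (c : G)⁻¹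
        group
  obtain ⟨i, hi⟩ := hm_nondeg (show ev 0 ≠ 0 by decide)
  obtain ⟨v, hv⟩ : ∃ v, bs4 (ev 0) v ≠ 0 := by
    by_contra hc
    push Not at hc
    exact (show ev 0 ≠ 0 by decide) (bs4_nondeg hc)
  obtain ⟨j, hj, ej⟩ := h.π_surj (ev 0)
  obtain ⟨k, hk, ek⟩ := h.π_surj v
  have hjk : j * k = z * (k * j) := (h.comm_cases hj hk).resolve_left fun e0 => hv (by
    rw [← ej, ← ek]; exact (h.comm_iff hj hk).1 e0)
  have m1 : g⁻¹ * j * g ∈ J := hP ⟨j, hj, by simp⟩
  have m2 : g⁻¹ * k * g ∈ J := hP ⟨k, hk, by simp⟩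
  have e3 : g⁻¹ * j * g * (g⁻¹ * k * g) = w * (g⁻¹ * k * g * (g⁻¹ * j * g)) := by
    rw [show g⁻¹ * j * g * (g⁻¹ * k * g) = g⁻¹ * (j * k) * g by group, hjk, hw]; group
  rcases h.comm_cases m1 m2 with e4 | e4
  · rw [e4] at e3
    have : w = 1 := mul_eq_right.1 e3.symm
    rw [hw] at this
    exact ne_one_of_order_two h.ord_z (by
      calc z = g * (g⁻¹ * z * g) * g⁻¹ := by group
        _ = 1 := by rw [this]; group)
  · rw [e4] at e3
    exact hwz' (mul_right_cancel e3).symm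

theorem not_conj_za (g : G) : g * z * g⁻¹ ≠ z * a := h.swap.not_conj_a g

/-- A conjugate of `z` in the centre of `J` is `z`. -/
theorem conj_eq_of_centre {g : G} (hc : g * z * g⁻¹ = 1 ∨ g * z * g⁻¹ = z ∨ g * z * g⁻¹ = a ∨ g * z * g⁻¹ = z * a) :
    g * z * g⁻¹ = z := by
  rcases hc with e | e | e | e
  · exact absurd (conj_eq_one_iff.1 e) (ne_one_of_order_two h.ord_z)
  · exact e
  · exact absurd e (h.not_conj_a g)
  · exact absurd e (h.not_conj_za g)

/-- The normaliser of a 2-subgroup between `J` and the centraliser centralises `z`. -/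
theorem normalizer_le {P : Subgroup G} (hJ : J ≤ P) (hP : P ≤ Subgroup.centralizer ({z} : Set G)) {g : G}
    (hg : ∀ p ∈ P, g * p * g⁻¹ ∈ P) : g * z = z * g := by
  refine mul_inv_eq_iff_eq_mul.1 (h.conj_eq_of_centre ?_)
  have hsurj : ∀ q ∈ P, ∃ p ∈ P, g * p * g⁻¹ = q := by
    intro q hq
    have e : P.map (MulAut.conj g).toMonoidHom = P := Subgroup.eq_of_le_of_card_ge
      (by rintro _ ⟨p, hp, rfl⟩; exact hg p hp)
      (by rw [Subgroup.card_map_of_injective (MulAut.conj g).injective])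
    rw [← e] at hq
    obtain ⟨p, hp, rfl⟩ := hq
    exact ⟨p, hp, rfl⟩
  have hm : g * z * g⁻¹ ∈ P := hg z (hJ h.z_mem)
  have hc : ∀ q ∈ P, g * z * g⁻¹ * q = q * (g * z * g⁻¹) := by
    intro q hq
    obtain ⟨p, hp, rfl⟩ := hsurj q hq
    calc g * z * g⁻¹ * (g * p * g⁻¹) = g * (z * p) * g⁻¹ := by group
      _ = _ := by rw [← Subgroup.mem_centralizer_singleton_iff.1 (hP hp)]; group
  exact h.centre (h.cent_le fun j hj => hc j (hJ hj)) fun j hj => hc j (hJ hj)

/-- A Sylow 2-subgroup of a subgroup containing `J`, inside the centraliser of `z`. -/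
theorem exists_sylow {X : Subgroup G} (hX : J ≤ X) :
    ∃ P : Sylow 2 X, J ≤ (P : Subgroup X).map X.subtype ∧
      (P : Subgroup X).map X.subtype ≤ Subgroup.centralizer ({z} : Set G) := by
  haveI : Fact (Nat.Prime 2) := ⟨Nat.prime_two⟩
  obtain ⟨Q, hQ⟩ := IsPGroup.exists_le_sylow (G := ↥(X ⊓ Subgroup.centralizer ({z} : Set G)))
    (P := J.subgroupOf _) (IsPGroup.of_card (p := 2) (n := 10) (by
      rw [Nat.card_congr (Subgroup.subgroupOfEquivOfLe (le_inf hX h.le_cent)).toEquiv, h.card_J]; rfl))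
  set R := (Q : Subgroup _).map (X ⊓ Subgroup.centralizer ({z} : Set G)).subtype with hR
  have hRX : R ≤ X := fun r ⟨q, _, e⟩ => e ▸ q.2.1
  have hRC : R ≤ Subgroup.centralizer ({z} : Set G) := fun r ⟨q, _, e⟩ => e ▸ q.2.2
  have hJR : J ≤ R := fun j hj => ⟨⟨j, hX hj, h.le_cent hj⟩, hQ (Subgroup.mem_subgroupOf.2 hj), rfl⟩
  obtain ⟨P, hP⟩ := IsPGroup.exists_le_sylow (G := X) (P := R.subgroupOf X)
    ((Q.isPGroup'.map _).comap_of_injective X.subtype Subtype.val_injective)
  refine ⟨P, fun j hj => ⟨⟨j, hX hj⟩, hP (Subgroup.mem_subgroupOf.2 (hJR hj)), rfl⟩, ?_⟩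
  set S := (P : Subgroup X).map X.subtype with hS
  have hS2 : IsPGroup 2 S := P.isPGroup'.map _
  have hRS : R ≤ S := fun r hr => ⟨⟨r, hRX hr⟩, hP (Subgroup.mem_subgroupOf.2 hr), rfl⟩
  suffices hSR : S ≤ R from hSR.trans hRC
  by_contra hnot
  haveI := hS2.isNilpotent
  have hlt : R.subgroupOf S < ⊤ := lt_top_iff_ne_top.2 fun e => hnot (Subgroup.subgroupOf_eq_top.1 e)
  obtain ⟨g, hg, hgR⟩ := SetLike.exists_of_lt (Group.normalizerCondition_of_isNilpotent _ hlt)
  have hgz : (g : G) * z = z * g := h.normalizer_le hJR hRC fun p hp =>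
    Subgroup.mem_subgroupOf.1 ((Subgroup.mem_normalizer_iff.1 hg ⟨p, hRS hp⟩).1 (Subgroup.mem_subgroupOf.2 hp))
  apply hgR
  have hgX : (g : G) ∈ X := Subgroup.map_subtype_le _ g.2
  have hT : IsPGroup 2 ↥(S.subgroupOf (X ⊓ Subgroup.centralizer ({z} : Set G))) :=
    hS2.comap_of_injective _ Subtype.val_injective
  have hQT : (Q : Subgroup _) ≤ S.subgroupOf (X ⊓ Subgroup.centralizer ({z} : Set G)) := fun q hq =>
    Subgroup.mem_subgroupOf.2 (hRS ⟨q, hq, rfl⟩)
  have : (⟨g, hgX, Subgroup.mem_centralizer_singleton_iff.2 hgz⟩ : ↥(X ⊓ Subgroup.centralizer ({z} : Set G))) ∈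
      (Q : Subgroup _) := by
    rw [← Q.is_maximal' hT hQT]
    exact Subgroup.mem_subgroupOf.2 g.2
  exact ⟨_, this, rfl⟩

/-- A 2-subgroup of a group containing `J` moves into the centraliser of `z`. -/
theorem conj_into {X : Subgroup G} (hX : J ≤ X) {R : Subgroup G} (hR : R ≤ X) (h2 : IsPGroup 2 R) :
    ∃ x ∈ X, ∀ r ∈ R, x * r * x⁻¹ * z = z * (x * r * x⁻¹) := by
  haveI : Fact (Nat.Prime 2) := ⟨Nat.prime_two⟩
  obtain ⟨P, -, hP⟩ := h.exists_sylow hX
  obtain ⟨P', hP'⟩ := IsPGroup.exists_le_sylow (G := X) (h2.comap_of_injective X.subtype Subtype.val_injective)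
  obtain ⟨x, hx⟩ := MulAction.exists_smul_eq X P' P
  refine ⟨x, x.2, fun r hr => Subgroup.mem_centralizer_singleton_iff.1 (hP ⟨x * ⟨r, hR hr⟩ * x⁻¹, ?_, rfl⟩)⟩
  rw [← hx]
  exact ⟨⟨r, hR hr⟩, hP' (show (⟨r, hR hr⟩ : X) ∈ R.comap X.subtype from hr), rfl⟩

theorem isPGroup_zpowers {x : G} (hx : x * x = 1) : IsPGroup 2 (Subgroup.zpowers x) := by
  intro ⟨y, hy⟩
  obtain ⟨n, rfl⟩ := Subgroup.mem_zpowers_iff.1 hy
  refine ⟨1, Subtype.ext ?_⟩
  show (x ^ n) ^ (2 ^ 1) = 1
  rw [pow_one, pow_two, ← (Commute.refl x).mul_zpow n, hx, one_zpow]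

/-- An involution of a group containing `J` moves into the centraliser of `z`. -/
theorem conj_inv_into {X : Subgroup G} (hX : J ≤ X) {x : G} (hx : x ∈ X) (h2 : x * x = 1) :
    ∃ c ∈ X, c * x * c⁻¹ * z = z * (c * x * c⁻¹) := by
  obtain ⟨c, hc, e⟩ := h.conj_into hX (Subgroup.zpowers_le.2 hx) (h.isPGroup_zpowers h2)
  exact ⟨c, hc, e x (Subgroup.mem_zpowers x)⟩

end Setting

end CfsgLib.Recognition.USixCentral
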