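import Cfsg.Agent.Lib.Recognition.USixCentral.Wiring
import Cfsg.Agent.Lib.Recognition.USixCentral.Normalise
import Cfsg.Agent.Lib.Recognition.USixCentral.Plane.Root
import Cfsg.Agent.Lib.Recognition.USixCentral.Setting
import Cfsg.Agent.Lib.Recognition.USixTwoOuter.OuterCoords

/-!
# Natural coordinates modulo `a` give the setting

A semilinear extension of the transvection group becomes the standard one after a change by a scalar.
-/

set_option autoImplicit false
set_option maxRecDepth 100000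
set_option linter.unusedSectionVars false
set_option linter.style.haveILetI false

namespace CfsgLib.Recognition.USixCentral

open CfsgLib.Recognition.USixTwo
open CfsgLib.Sporadic.LargeFischer (D4 om nzd)
open CfsgLib.Recognition.USixTwoOuter (P40 Anti Model42 omV_exists omV_cube)

local notation "GL8" => V4 ≃ₗ[ZMod 2] V4

variable {G : Type*} [Group G] [Finite G] {F : Type*} [Field F] [Fintype F]

open CfsgLib.ThreeTransp in
/-- Natural coordinates modulo `a` give the setting. -/
theorem setting_of_natural {z a : G} {J K : Subgroup G}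
    {φ : ↥(Subgroup.centralizer ({z} : Set G)) →* MulAut (Cfsg.PSp 2 F)} (hF : Fintype.card F = 3)
    (t : Twin z a J φ) {Q : Type*} [Group Q] [Finite Q] {q : ↥(Subgroup.centralizer ({a} : Set G)) →* Q}
    {Jq Kq : Subgroup Q} {zb : Q} {φq : ↥Kq →* P40} (h : Plane.Quot z a J K q Jq Kq zb φq)
    (f : ExtraspecialOut.Frame ↥Jq 8) (e : CfsgLib.Recognition.USixTwoOuter.V ≃ₗ[ZMod 2] V4)
    (heq : ∀ v, q4 (e v) = ExtraspecialOut.Q f v)
    (hiso : ∀ k : ↥Kq, IsIso ((e.symm.trans (CfsgLib.Recognition.USixTwoOuter.lin f h.hyp Kq h.hyp.K_le k)).trans e)) :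
    ∃ π ψ, Setting z a J π ψ := by
  classical
  haveI := gl_finite
  have hcz : ∀ c : ↥(Subgroup.centralizer ({z} : Set G)), (c : G) * z = z * c := fun c => Subgroup.mem_centralizer_singleton_iff.1 c.2
  let π : G → V4 := fun x => if hx : x ∈ J then e (h.co f hx) else 0
  have hπ : ∀ x (hx : x ∈ J), π x = e (h.co f hx) := fun x hx => dif_pos hx
  have hmul : ∀ i ∈ J, ∀ j ∈ J, π (i * j) = π i + π j := fun i hi j hj => by
    rw [hπ _ (mul_mem hi hj), hπ _ hi, hπ _ hj, h.co_mul f hi hj, map_add]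
  have hsurj : ∀ v, ∃ j ∈ J, π j = v := fun v => by
    obtain ⟨j, hj, ej⟩ := h.co_surj f (e.symm v)
    exact ⟨j, hj, by rw [hπ j hj, ej, e.apply_symm_apply]⟩
  have hkerπ : ∀ j ∈ J, π j = 0 ↔ j = 1 ∨ j = z ∨ j = a ∨ j = z * a := fun j hj => by
    rw [hπ j hj, LinearEquiv.map_eq_zero_iff]
    exact h.co_eq_zero f hj
  have hq4 : ∀ j ∈ J, q4 (π j) = 0 ↔ j * j = 1 := fun j hj => by
    rw [hπ j hj, heq]; exact h.co_sq f hj
  have hconj0 : ∀ c : ↥(Subgroup.centralizer ({z} : Set G)), ∀ i ∈ J, π i = 0 → π (c * i * (c : G)⁻¹) = 0 := fun c i hi h0 => by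
    refine (hkerπ _ (t.norm (hcz c) hi)).2 (t.centre _ (t.norm (hcz c) hi) fun k hk => ?_)
    have hk' := t.norm' (hcz c) hk
    have h1 : i * ((c : G)⁻¹ * k * c) = ((c : G)⁻¹ * k * c) * i := by
      rcases (hkerπ i hi).1 h0 with r | r | r | r <;> rw [r]
      · rw [one_mul, mul_one]
      · exact (t.z_cent _ hk').symm
      · exact (t.a_cent _ hk').symm
      · exact ((t.swap).a_cent _ hk').symm
    calc (c : G) * i * (c : G)⁻¹ * k = c * (i * ((c : G)⁻¹ * k * c)) * (c : G)⁻¹ := by group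
      _ = _ := by rw [h1]; group
  choose r hrJ hrπ using hsurj
  let act : ↥(Subgroup.centralizer ({z} : Set G)) → V4 → V4 := fun c v => π (c * r v * (c : G)⁻¹)
  have hact : ∀ (c : ↥(Subgroup.centralizer ({z} : Set G))), ∀ j ∈ J, π (c * j * (c : G)⁻¹) = act c (π j) := fun c j hj => by
    show _ = π (c * r (π j) * (c : G)⁻¹)
    have hd : π ((r (π j))⁻¹ * j) = 0 := by
      have h1 := hmul _ (inv_mem (hrJ (π j))) _ (hrJ (π j))
      rw [inv_mul_cancel, (hkerπ 1 (one_mem _)).2 (Or.inl rfl), hrπ] at h1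
      rw [hmul _ (inv_mem (hrJ _)) _ hj]; exact h1.symm
    rw [show (c : G) * j * (c : G)⁻¹ = (c * r (π j) * (c : G)⁻¹) * (c * ((r (π j))⁻¹ * j) * (c : G)⁻¹) by group,
      hmul _ (t.norm (hcz c) (hrJ _)) _ (t.norm (hcz c) (mul_mem (inv_mem (hrJ _)) hj)),
      hconj0 c _ (mul_mem (inv_mem (hrJ _)) hj) hd, add_zero]
  have hadd : ∀ c u v, act c (u + v) = act c u + act c v := fun c u v => by
    rw [← hrπ u, ← hrπ v, ← hmul _ (hrJ u) _ (hrJ v), ← hact c _ (mul_mem (hrJ u) (hrJ v)), ← hact c _ (hrJ u),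
      ← hact c _ (hrJ v), ← hmul _ (t.norm (hcz c) (hrJ u)) _ (t.norm (hcz c) (hrJ v))]
    congr 1
    group
  have hone : ∀ v, act 1 v = v := fun v => by
    show π ((1 : G) * r v * (1 : G)⁻¹) = v
    rw [one_mul, inv_one, mul_one, hrπ]
  have hcomp : ∀ c d v, act (c * d) v = act c (act d v) := fun c d v => by
    show π (((c * d : ↥(Subgroup.centralizer ({z} : Set G))) : G) * r v * ((c * d : ↥(Subgroup.centralizer ({z} : Set G))) : G)⁻¹) = act c (π (d * r v * (d : G)⁻¹))
    rw [← hact c _ (t.norm (hcz d) (hrJ v))]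
    congr 1
    rw [Subgroup.coe_mul]; group
  let lm : ↥(Subgroup.centralizer ({z} : Set G)) → GL8 := fun c =>
    { toFun := act c
      invFun := act c⁻¹
      map_add' := hadd c
      map_smul' := fun s v => by
        rcases zmod2_cases s with rfl | rfl
        · rw [zero_smul, RingHom.id_apply, zero_smul]
          have := hadd c 0 0
          rw [add_zero] at this
          exact left_eq_add.1 this
        · rw [one_smul, RingHom.id_apply, one_smul]
      left_inv := fun v => by rw [← hcomp, inv_mul_cancel, hone]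
      right_inv := fun v => by rw [← hcomp, mul_inv_cancel, hone] }
  let ψ : ↥(Subgroup.centralizer ({z} : Set G)) →* GL8 :=
    { toFun := lm
      map_one' := LinearEquiv.ext hone
      map_mul' := fun c d => LinearEquiv.ext fun v => hcomp c d v }
  have hquad : ∀ c v, q4 (ψ c v) = q4 v := fun c v => by
    have h1 := hact c _ (hrJ v)
    rw [hrπ] at h1
    show q4 (act c v) = q4 v
    rw [← h1]
    have h2 : q4 (π (c * r v * (c : G)⁻¹)) = 0 ↔ q4 v = 0 := by
      conv_rhs => rw [← hrπ v]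
      rw [hq4 _ (t.norm (hcz c) (hrJ v)), hq4 _ (hrJ v),
        show (c : G) * r v * (c : G)⁻¹ * (c * r v * (c : G)⁻¹) = c * (r v * r v) * (c : G)⁻¹ by group,
        conj_eq_one_iff]
    rcases zmod2_cases (q4 v) with e' | e'
    · rw [e', h2.2 e']
    · rw [e']
      exact (zmod2_cases _).resolve_left fun e'' => by rw [h2.1 e''] at e'; exact zero_ne_one e'
  have hKC : K ≤ (Subgroup.centralizer ({z} : Set G)) := fun k hk => mem_cent_of (h.K_z k hk)
  have hψK : ∀ {k} (hk : k ∈ K), ψ ⟨k, hKC hk⟩ =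
      (e.symm.trans (CfsgLib.Recognition.USixTwoOuter.lin f h.hyp Kq h.hyp.K_le (h.kq hk))).trans e := by
    intro k hk
    refine LinearEquiv.ext fun v => ?_
    show π (k * r v * k⁻¹) = e (CfsgLib.Recognition.USixTwoOuter.lin f h.hyp Kq h.hyp.K_le (h.kq hk) (e.symm v))
    have h1 : e.symm v = h.co f (hrJ v) := by
      conv_lhs => rw [← hrπ v, hπ _ (hrJ v), e.symm_apply_apply]
    rw [h1, h.co_act f hk (hrJ v), hπ _ (h.norm k (h.K_z k hk) _ (hrJ v))]
  have hKker : ∀ {k} (hk : k ∈ K), ψ ⟨k, hKC hk⟩ = 1 ↔ k ∈ J := by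
    intro k hk
    rw [hψK hk, ← h.L_eq_one f hk]
    constructor
    · intro h1
      refine LinearEquiv.ext fun v => e.injective ?_
      have h2 : e (h.L f hk (e.symm (e v))) = e v := LinearEquiv.congr_fun h1 (e v)
      rwa [e.symm_apply_apply] at h2
    · intro h1
      refine LinearEquiv.ext fun v => ?_
      show e (h.L f hk (e.symm v)) = v
      rw [h1]
      exact e.apply_symm_apply v
  have hJC : J ≤ (Subgroup.centralizer ({z} : Set G)) := t.le_cent
  have hker : ∀ c : ↥(Subgroup.centralizer ({z} : Set G)), ψ c = 1 ↔ (c : G) ∈ J := fun c => by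
    refine ⟨fun h1 => h.K_faith c (hcz c) fun k hk => ?_, fun hc => (hKker (h.J_K hc)).2 hc⟩
    have hm := mul_mem (h.K_norm c (hcz c) k hk) (inv_mem hk)
    refine (hKker hm).1 ?_
    rw [show (⟨(c : G) * k * (c : G)⁻¹ * k⁻¹, hKC hm⟩ : ↥(Subgroup.centralizer ({z} : Set G))) = c * ⟨k, hKC hk⟩ * c⁻¹ * (⟨k, hKC hk⟩)⁻¹ from rfl,
      map_mul, map_mul, map_mul, map_inv, map_inv, h1, one_mul, inv_one, mul_one, mul_inv_cancel]
  set L := (K.subgroupOf (Subgroup.centralizer ({z} : Set G))).map ψ with hL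
  have hL25 : Model4 L := by
    refine ⟨?_, ?_⟩
    · rintro _ ⟨c, hc, rfl⟩
      rw [show ψ c = _ from hψK hc]
      exact hiso _
    · let ζ : ↥Kq →* GL8 :=
        { toFun := fun k => (e.symm.trans (CfsgLib.Recognition.USixTwoOuter.lin f h.hyp Kq h.hyp.K_le k)).trans e
          map_one' := LinearEquiv.ext fun v => by
            show e (CfsgLib.Recognition.USixTwoOuter.lin f h.hyp Kq h.hyp.K_le 1 (e.symm v)) = v
            rw [map_one]
            exact e.apply_symm_apply v
          map_mul' := fun k l => LinearEquiv.ext fun v => by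
            show e (CfsgLib.Recognition.USixTwoOuter.lin f h.hyp Kq h.hyp.K_le (k * l) (e.symm v)) =
              e (CfsgLib.Recognition.USixTwoOuter.lin f h.hyp Kq h.hyp.K_le k (e.symm (e
                (CfsgLib.Recognition.USixTwoOuter.lin f h.hyp Kq h.hyp.K_le l (e.symm v)))))
            rw [e.symm_apply_apply, map_mul]
            rfl }
      have hr : L = ζ.range := by
        refine le_antisymm ?_ ?_
        · rintro _ ⟨c, hc, rfl⟩
          exact ⟨h.kq hc, (hψK hc).symm⟩
        · rintro _ ⟨k, rfl⟩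
          obtain ⟨x, hx, rfl⟩ := h.exists_L k
          exact ⟨⟨x, hKC hx⟩, hx, hψK hx⟩
      have hk : Nat.card ζ.ker = 512 := by
        rw [← h.hyp.card_J]
        have hmem : ∀ k : ↥Kq, ζ k = 1 ↔ (k : Q) ∈ Jq := fun k => by
          obtain ⟨x, hx, rfl⟩ := h.exists_L k
          rw [show ζ (h.kq hx) = ψ ⟨x, hKC hx⟩ from (hψK hx).symm, hKker hx]
          exact (h.mem_Jq (x := ⟨x, h.K_ca hx⟩)).symm
        refine Nat.card_congr ⟨fun k => ⟨(k.1 : Q), (hmem k.1).1 k.2⟩,
          fun j => ⟨⟨j.1, h.hyp.J_le j.2⟩, (hmem _).2 j.2⟩, fun k => rfl, fun j => rfl⟩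
      have h1 := ζ.ker.card_mul_index
      rw [Subgroup.index_ker, hk, ← hr, CfsgLib.Recognition.USixTwoOuter.card_eq_of_hyp h.hyp] at h1
      omega
  have hcard : Nat.card ψ.range = 51840 := by
    have h1 : ψ.ker = φ.ker := Subgroup.ext fun c => by
      rw [MonoidHom.mem_ker, MonoidHom.mem_ker, hker, t.ker]
    rw [← Subgroup.index_ker, h1, Subgroup.index_ker, MonoidHom.range_eq_top.2 t.surj, Subgroup.card_top]
    exact (CfsgLib.Recognition.USixTwoOuter.card_aut_psp_three hF).2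
  have hLn : ∀ g ∈ ψ.range, ∀ u ∈ L, g * u * g⁻¹ ∈ L := by
    rintro _ ⟨c, rfl⟩ _ ⟨k, hk, rfl⟩
    exact ⟨c * k * c⁻¹, h.K_norm c (hcz c) k hk, by rw [map_mul, map_mul, map_inv]⟩
  have hcl : ∀ g ∈ ψ.range, (∀ u ∈ L, g * u = u * g) → g = 1 := by
    rintro _ ⟨c, rfl⟩ hall
    refine (hker c).2 (h.K_faith c (hcz c) fun k hk => ?_)
    refine (hker (c * ⟨k, hKC hk⟩ * c⁻¹ * (⟨k, hKC hk⟩)⁻¹)).1 ?_
    rw [map_mul, map_mul, map_mul, map_inv, map_inv, hall _ ⟨⟨k, hKC hk⟩, hk, rfl⟩, mul_inv_cancel_right,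
      mul_inv_cancel]
  have hR : Model42 ψ.range := CfsgLib.Recognition.USixTwoOuter.model42_of_ext (Subgroup.map_le_range ψ _) hL25 hLn
    (by rintro _ ⟨c, rfl⟩ v; exact hquad c v) hcard hcl
  obtain ⟨s, hs, hout⟩ := exists_scalar hR fun g hg hall => hcl g hg fun u hu =>
    hall u (Subgroup.map_le_range ψ _ hu) (hL25.le hu)
  refine ⟨fun x => s (π x), (MulAut.conj s).toMonoidHom.comp ψ,
    { ord_z := t.ord_z, ord_a := t.ord_a, ne := t.ne, card_J := t.card_J, z_mem := t.z_mem, a_mem := t.a_mem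
      z_cent := t.z_cent, a_cent := t.a_cent
      π_mul := fun i hi j hj => by rw [hmul i hi j hj, map_add]
      π_surj := fun v => ⟨r (s.symm v), hrJ _, by rw [hrπ, s.apply_symm_apply]⟩
      π_ker := fun j hj => by rw [LinearEquiv.map_eq_zero_iff]; exact hkerπ j hj
      sq := fun j hj => ?_
      norm := fun c hc j hj => t.norm hc hj
      act := fun c j hj => ?_
      ker := fun c => ?_
      outer := ?_ }⟩
  · rw [hs]
    split
    · next h0 => exact (hq4 j hj).1 h0
    · next h0 => exact (h.sq j hj).resolve_left fun e' => h0 ((hq4 j hj).2 e')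
  · rw [hact c j hj]
    show s (ψ c (π j)) = s (ψ c (s.symm (s (π j))))
    rw [s.symm_apply_apply]
  · rw [← hker c, MonoidHom.comp_apply]
    exact (MulAut.conj s).map_eq_one_iff
  · rw [MonoidHom.range_comp]
    exact hout

end CfsgLib.Recognition.USixCentral
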