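import Cfsg.Agent.Lib.Recognition.USixCentral.Sigma

/-!
# The group of semilinear isometries and its involutions

The group `Γ` of order 51840 containing the group of the transvections with index two and the coordinatewise field
automorphism; a Sylow subgroup and the facts about involutions transported from the tables.
-/

set_option autoImplicit false
set_option maxRecDepth 100000

namespace CfsgLib.Recognition.USixCentral

open CfsgLib.Recognition.USixTwo
open CfsgLib.Sporadic.LargeFischer (D4 om nzd)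

local notation "GL8" => V4 ≃ₗ[ZMod 2] V4

theorem gl_finite : Finite GL8 := Finite.of_injective _ DFunLike.coe_injective

/-- The extended group. -/
structure Outer4 (K : Subgroup GL8) : Prop where
  quad : ∀ g ∈ K, ∀ v, q4 (g v) = q4 v
  card : Nat.card K = 51840
  sig : sigma ∈ K
  model : Model4 TG
  tg : TG ≤ K

theorem sigma_not_mem_iso : sigma ∉ isoGroup := by
  intro h
  have e := congrArg (fun v : V4 => v 0) (h.lin (ev 0))
  exact absurd e (by decide +kernel)

theorem sigma_not_mem : sigma ∉ TG := fun h => sigma_not_mem_iso (TG_le h)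

theorem tv_mem_TG (hm4 : Model4 TG) {v : V4} (hq : q4 v = 0) (hv : v ≠ 0) : tv v ∈ TG := tv_mem_of_model hm4 hq hv

/-- A subgroup containing the commutators of the transvection group contains it. -/
theorem TG_le_of_comm {M : Subgroup GL8} (h : ∀ a ∈ TG, ∀ b ∈ TG, a * b * a⁻¹ * b⁻¹ ∈ M) : TG ≤ M := by
  refine (Subgroup.closure_le _).2 ?_
  rintro _ ⟨i, rfl⟩
  obtain ⟨g, hg, hgv⟩ := exists_moving (ptV_q _ i.2).1 (ptV_q _ i.2).2
  obtain ⟨a, ha, b, hb, e⟩ := tv0_comm
  have h1 := h _ (mul_mem (mul_mem hg ha) (inv_mem hg)) _ (mul_mem (mul_mem hg hb) (inv_mem hg))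
  have h2 : g * (a * b * a⁻¹ * b⁻¹) * g⁻¹ ∈ M := by
    convert h1 using 1
    group
  rw [e, tv_conj (TG_le hg) v0_hm, hgv] at h2
  exact h2

/-- A subgroup of index at most two of a group containing the transvection group contains it. -/
theorem TG_le_of_parity {K M : Subgroup GL8} (hK : TG ≤ K)
    (h : ∀ a ∈ K, ∀ b ∈ K, a ∉ M → b ∉ M → a * b ∈ M) : TG ≤ M := by
  refine TG_le_of_comm fun a ha b hb => ?_
  have hmul : ∀ x ∈ K, ∀ y ∈ K, (x * y ∈ M ↔ (x ∈ M ↔ y ∈ M)) := by
    intro x hx y hy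
    by_cases h1 : x ∈ M
    · simp [h1, Subgroup.mul_mem_cancel_left M h1]
    · by_cases h2 : y ∈ M
      · simp [h1, h2, Subgroup.mul_mem_cancel_right M h2]
      · simp [h1, h2, h x hx y hy h1 h2]
  have ha' := hK ha
  have hb' := hK hb
  rw [hmul _ (mul_mem (mul_mem ha' hb') (inv_mem ha')) _ (inv_mem hb'),
    hmul _ (mul_mem ha' hb') _ (inv_mem ha'), hmul _ ha' _ hb', inv_mem_iff, inv_mem_iff]
  tauto

/-- An invariant subgroup which is not trivial is everything. -/
theorem mem_of_invariant {W : AddSubgroup V4} (hW : ∀ g ∈ TG, ∀ x ∈ W, g x ∈ W) {x : V4} (hx : x ∈ W) (hx0 : x ≠ 0)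
    (v : V4) : v ∈ W := by
  obtain ⟨a, b, ha, hb, rfl⟩ := exists_singular_sum v
  exact add_mem (singular_mem_of_invariant hW hx hx0 ha) (singular_mem_of_invariant hW hx hx0 hb)

theorem v0_facts : q4 v0 = 0 ∧ v0 ≠ 0 := by decide

theorem eq_one_of_fixed {g : GL8} (h : ∀ v, g v = v) : g = 1 := LinearEquiv.ext h

/-- Only the zero vector is fixed by the transvection group. -/
theorem eq_zero_of_fixed {v : V4} (h : ∀ g ∈ TG, g v = v) : v = 0 := by
  by_contra hv
  let W : AddSubgroup V4 :=
    { carrier := {x | ∀ g ∈ TG, g x = x}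
      zero_mem' := fun g _ => map_zero g
      add_mem' := fun {x y} hx hy g hg => by rw [map_add, hx g hg, hy g hg]
      neg_mem' := fun {x} hx g hg => by rw [map_neg, hx g hg] }
  have hinv : ∀ g ∈ TG, ∀ x ∈ W, g x ∈ W := fun g hg x hx => by
    show ∀ k ∈ TG, k (g x) = g x
    intro k hk
    rw [show g x = x from hx g hg]; exact hx k hk
  have hall := mem_of_invariant hinv (x := v) h hv
  obtain ⟨a, ha, b, hb, e⟩ := tv0_comm
  have ha1 : a = 1 := eq_one_of_fixed fun x => hall x a ha
  rw [ha1, one_mul, inv_one, mul_one, mul_inv_cancel] at e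
  exact tv_ne_one v0_facts.1 v0_facts.2 e.symm

namespace Outer4

variable {K : Subgroup GL8} (h : Outer4 K)
include h

theorem bs {g : GL8} (hg : g ∈ K) (u v : V4) : bs4 (g u) (g v) = bs4 u v := by
  rw [bs4, bs4, ← map_add, h.quad g hg, h.quad g hg, h.quad g hg]

theorem index_two : (TG.subgroupOf K).index = 2 := by
  have h1 := (TG.subgroupOf K).card_mul_index
  rw [Nat.card_congr (Subgroup.subgroupOfEquivOfLe h.tg).toEquiv, h.model.card, h.card] at h1
  omega

theorem normal {g k : GL8} (hg : g ∈ K) (hk : k ∈ TG) : g * k * g⁻¹ ∈ TG := by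
  haveI : (TG.subgroupOf K).Normal := Subgroup.normal_of_index_eq_two h.index_two
  exact Subgroup.mem_subgroupOf.1 (this.conj_mem ⟨k, h.tg hk⟩ (Subgroup.mem_subgroupOf.2 hk) ⟨g, hg⟩)

theorem mul_outer {g k : GL8} (hg : g ∈ K) (hk : k ∈ K) (hg' : g ∉ TG) (hk' : k ∉ TG) : g * k ∈ TG := by
  have := Subgroup.mul_mem_iff_of_index_two h.index_two (a := (⟨g, hg⟩ : ↥K)) (b := ⟨k, hk⟩)
  rw [Subgroup.mem_subgroupOf, Subgroup.mem_subgroupOf, Subgroup.mem_subgroupOf] at this
  exact this.2 (iff_of_false hg' hk')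

/-- An element is linear or composed with the automorphism. -/
theorem cases {g : GL8} (hg : g ∈ K) : g ∈ TG ∨ ∃ k ∈ TG, g = k * sigma := by
  by_cases hg' : g ∈ TG
  · exact Or.inl hg'
  · exact Or.inr ⟨g * sigma, h.mul_outer hg h.sig hg' sigma_not_mem,
      by rw [mul_assoc, sigma_mul_self, mul_one]⟩

/-- Transvections go to transvections. -/
theorem tv_map {g : GL8} (hg : g ∈ K) {v : V4} (hq : q4 v = 0) : g * tv v * g⁻¹ = tv (g v) := by
  rcases h.cases hg with hg' | ⟨k, hk, rfl⟩
  · exact USixTwo.tv_map (TG_le hg') hq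
  · rw [mul_inv_rev, sigma_inv, show k * sigma * tv v * (sigma * k⁻¹) = k * (sigma * tv v * sigma) * k⁻¹ by group,
      sigma_tv (hm_self_zero hq), USixTwo.tv_map (TG_le hk) (by rw [sigma_q4, hq])]
    rfl

theorem finite : Finite K := by
  haveI := gl_finite
  infer_instance

/-- A 2-subgroup normalised by the transvection group is trivial. -/
theorem eq_bot_of_normalised {P : Subgroup GL8} (hP : IsPGroup 2 P)
    (hn : ∀ g ∈ TG, ∀ p ∈ P, g * p * g⁻¹ ∈ P) : P = ⊥ := by
  haveI := gl_finite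
  haveI : Fact (Nat.Prime 2) := ⟨Nat.prime_two⟩
  classical
  let W : AddSubgroup V4 :=
    { carrier := {x | ∀ p ∈ P, p x = x}
      zero_mem' := fun g _ => map_zero g
      add_mem' := fun {x y} hx hy g hg => by rw [map_add, hx g hg, hy g hg]
      neg_mem' := fun {x} hx g hg => by rw [map_neg, hx g hg] }
  letI : MulAction ↥P V4 :=
    { smul := fun p v => (p : GL8) v
      one_smul := fun _ => rfl
      mul_smul := fun _ _ _ => rfl }
  have hdvd : 2 ∣ Nat.card V4 := by rw [Nat.card_eq_fintype_card]; decide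
  obtain ⟨x, hx, hx0⟩ := hP.exists_fixed_point_of_prime_dvd_card_of_fixed_point (α := V4) hdvd
    (a := 0) (fun p => map_zero (p : GL8))
  have hinv : ∀ g ∈ TG, ∀ y ∈ W, g y ∈ W := by
    intro g hg y hy p hp
    have := hy _ (hn g⁻¹ (inv_mem hg) p hp)
    calc p (g y) = g ((g⁻¹ * p * g⁻¹⁻¹) y) := by
          show _ = g (g.symm (p (g y)))
          rw [g.apply_symm_apply]
      _ = g y := by rw [this]
  have hall := mem_of_invariant hinv (x := x) (fun p hp => hx ⟨p, hp⟩) (Ne.symm hx0)
  exact (Subgroup.eq_bot_iff_forall _).2 fun p hp => eq_one_of_fixed fun v => hall v p hp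

end Outer4

/-! ### The Sylow subgroup -/

theorem cols_sigma_mul (g : GL8) : cols (sigma * g) = mulCols sigCols (cols g) := by rw [cols_mul, cols_sigma]

theorem sigma_norm {g : GL8} (hg : g ∈ TS) : sigma * g * sigma ∈ TS := by
  rw [mem_TS, mul_assoc, cols_sigma_mul, cols_mul, cols_sigma]
  exact List.contains_iff_mem.1 (List.all_eq_true.1 ps_ok.2.2 _ (mem_TS.1 hg))

/-- The Sylow subgroup of the extended group. -/
noncomputable def PS : Subgroup GL8 where
  carrier := {g | g ∈ TS ∨ sigma * g ∈ TS}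
  one_mem' := Or.inl (one_mem _)
  mul_mem' := by
    intro a b ha hb
    have n : ∀ x ∈ TS, sigma * x * sigma ∈ TS := fun x hx => sigma_norm hx
    rcases ha with ha | ha <;> rcases hb with hb | hb
    · exact Or.inl (mul_mem ha hb)
    · refine Or.inr ?_
      rw [show sigma * (a * b) = sigma * a * sigma * (sigma⁻¹ * b) by group, sigma_inv]
      exact mul_mem (n _ ha) hb
    · exact Or.inr (by rw [← mul_assoc]; exact mul_mem ha hb)
    · refine Or.inl ?_
      rw [show a * b = sigma⁻¹ * (sigma * a) * sigma⁻¹ * (sigma * b) by group, sigma_inv]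
      exact mul_mem (n _ ha) hb
  inv_mem' := by
    intro a ha
    rcases ha with ha | ha
    · exact Or.inl (inv_mem ha)
    · refine Or.inr ?_
      rw [show sigma * a⁻¹ = sigma * (sigma * a)⁻¹ * sigma by group]
      exact sigma_norm (inv_mem ha)

theorem mem_PS {g : GL8} : g ∈ PS ↔ cols g ∈ psCols := by
  rw [psCols, List.mem_append, List.mem_map]
  constructor
  · rintro (hg | hg)
    · exact Or.inl hg
    · refine Or.inr ⟨_, mem_TS.1 hg, ?_⟩
      rw [← cols_sigma, ← cols_mul, ← mul_assoc, sigma_mul_self, one_mul]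
  · rintro (hg | ⟨l, hl, e⟩)
    · exact Or.inl hg
    · obtain ⟨w, -, -, hw⟩ := syl_word hl
      refine Or.inr ?_
      rw [← hw, ← cols_sigma, ← cols_mul] at e
      rw [← cols_injective e, ← mul_assoc, sigma_mul_self, one_mul, mem_TS, hw]
      exact hl

theorem TS_code5 {g : GL8} (hg : g ∈ TS) : g v0 = v0 := code_injective (by
  rw [code_apply, code_v0]
  exact beq_iff_eq.1 (List.all_eq_true.1 ps_ok.1 _ (mem_TS.1 hg)))

theorem sigma_v0 : sigma v0 = v0 := code_injective (by rw [code_apply, cols_sigma, code_v0, ps_ok.2.1])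

theorem PS_code5 {g : GL8} (hg : g ∈ PS) : g v0 = v0 := by
  rcases hg with hg | hg
  · exact TS_code5 hg
  · apply sigma.injective
    rw [sigma_v0]
    exact TS_code5 hg

theorem PS_card : Nat.card PS = 128 := by
  haveI := gl_finite
  have hle : TS ≤ PS := fun g hg => Or.inl hg
  have hidx : (TS.subgroupOf PS).index = 2 := by
    refine Subgroup.index_eq_two_iff.2 ⟨⟨sigma, Or.inr (by rw [sigma_mul_self]; exact one_mem _)⟩, fun b => ?_⟩
    simp only [Subgroup.mem_subgroupOf, Subgroup.coe_mul]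
    have hs : sigma ∉ TS := fun hs => sigma_not_mem (TS_le hs)
    rcases b.2 with hb | hb
    · exact Or.inr ⟨hb, fun e => hs (by simpa using (Subgroup.mul_mem_cancel_left _ hb).1 e)⟩
    · refine Or.inl ⟨?_, fun e => hs (by simpa using (Subgroup.mul_mem_cancel_right _ e).1 hb)⟩
      have := sigma_norm hb
      rwa [show sigma * (sigma * (b : GL8)) * sigma = (b : GL8) * sigma by
        rw [← mul_assoc, sigma_mul_self, one_mul]] at this
  have := (TS.subgroupOf PS).card_mul_index
  rw [hidx, Nat.card_congr (Subgroup.subgroupOfEquivOfLe hle).toEquiv, TS_card] at this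
  exact this.symm

theorem PS_isPGroup : IsPGroup 2 PS := IsPGroup.of_card (n := 7) (by rw [PS_card]; rfl)

namespace Outer4

variable {K : Subgroup GL8} (h : Outer4 K)
include h

theorem PS_le : PS ≤ K := by
  rintro g (hg | hg)
  · exact h.tg (TS_le hg)
  · simpa using mul_mem (inv_mem h.sig) (h.tg (TS_le hg))

/-- Every 2-subgroup is conjugate into the Sylow subgroup. -/
theorem conj_into_PS {P : Subgroup GL8} (hP : P ≤ K) (h2 : IsPGroup 2 P) :
    ∃ c ∈ K, ∀ g ∈ P, c * g * c⁻¹ ∈ PS := by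
  haveI := gl_finite
  haveI : Fact (Nat.Prime 2) := ⟨Nat.prime_two⟩
  have hSp : IsPGroup 2 (PS.subgroupOf K) :=
    IsPGroup.of_card (n := 7) (by rw [Nat.card_congr (Subgroup.subgroupOfEquivOfLe h.PS_le).toEquiv, PS_card]; rfl)
  have hidx : ¬ 2 ∣ (PS.subgroupOf K).index := by
    have h1 := (PS.subgroupOf K).card_mul_index
    rw [Nat.card_congr (Subgroup.subgroupOfEquivOfLe h.PS_le).toEquiv, PS_card, h.card] at h1
    omega
  let S : Sylow 2 K := hSp.toSylow hidx
  obtain ⟨R, hR⟩ := IsPGroup.exists_le_sylow (G := K) (h2.comap_of_injective K.subtype Subtype.val_injective)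
  obtain ⟨c, hc⟩ := MulAction.exists_smul_eq K R S
  refine ⟨c, c.2, fun g hg => ?_⟩
  have hgR : (⟨g, hP hg⟩ : K) ∈ R := hR hg
  have : MulAut.conj c ⟨g, hP hg⟩ ∈ (S : Subgroup K) := by
    rw [← hc]
    exact ⟨_, hgR, rfl⟩
  exact Subgroup.mem_subgroupOf.1 this

end Outer4

theorem mem_invCols {g : GL8} (hg : g ∈ PS) (h2 : g * g = 1) (h1 : g ≠ 1) : cols g ∈ invCols := by
  refine List.mem_filter.2 ⟨mem_PS.1 hg, ?_⟩
  rw [← cols_mul, h2, cols_one, beq_self_eq_true, Bool.and_true, bne_iff_ne]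
  exact fun e => h1 (cols_injective (e.trans cols_one.symm))

theorem Outer4.conj_inv {K : Subgroup GL8} (h : Outer4 K) {t : GL8} (ht : t ∈ K) (h2 : t * t = 1) (h1 : t ≠ 1) :
    ∃ c ∈ K, cols (c * t * c⁻¹) ∈ invCols := by
  haveI : Fact (Nat.Prime 2) := ⟨Nat.prime_two⟩
  obtain ⟨c, hc, hmem⟩ := h.conj_into_PS (Subgroup.zpowers_le.2 ht)
    (IsPGroup.of_card (n := 1) (by rw [Nat.card_zpowers, orderOf_eq_prime (by rw [pow_two, h2]) h1]; rfl))
  exact ⟨c, hc, mem_invCols (hmem t (Subgroup.mem_zpowers t))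
    (by rw [show c * t * c⁻¹ * (c * t * c⁻¹) = c * (t * t) * c⁻¹ by group, h2, mul_one, mul_inv_cancel])
    (fun e => h1 (by rw [mul_inv_eq_one] at e; exact mul_eq_left.1 e))⟩

theorem of_tvCols {g : GL8} (h : cols g ∈ tvCols) : ∃ i : Fin 45, g = tvP i := by
  obtain ⟨i, hi, e⟩ := List.getElem_of_mem h
  have hi' : i < 45 := by
    have : tvCols.length = 45 := by decide +kernel
    omega
  refine ⟨⟨i, hi'⟩, cols_injective ?_⟩
  rw [cols_tvP hi', List.getD_eq_getElem _ _ hi, e]

theorem tvCols_tvP (i : Fin 45) : cols (tvP i) ∈ tvCols := by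
  rw [cols_tvP i.2]
  have : tvCols.length = 45 := by decide +kernel
  rw [List.getD_eq_getElem _ _ (by omega)]
  exact List.getElem_mem _

theorem mem_fixN {g : GL8} {v : V4} : code v ∈ fixN (cols g) ↔ g v = v := by
  simp only [fixN, List.mem_filter, List.mem_range, code_lt, true_and, beq_iff_eq, ← code_apply]
  exact ⟨fun e => code_injective e, fun e => by rw [e]⟩

theorem fixN_lt {a : List ℕ} {n : ℕ} (h : n ∈ fixN a) : n < 256 := List.mem_range.1 (List.mem_filter.1 h).1

/-- The vectors whose codes lie in a list. -/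
theorem card_le_of_codes {s : Set V4} {l : List ℕ} (h : ∀ v ∈ s, code v ∈ l) : s.ncard ≤ l.length := by
  classical
  refine (Set.ncard_le_ncard_of_injOn (s := s) (t := (l.toFinset : Set ℕ)) code (fun v hv => by
    simpa using h v hv) code_injective.injOn (Finset.finite_toSet _)).trans ?_
  rw [Set.ncard_coe_finset]; exact List.toFinset_card_le l

end CfsgLib.Recognition.USixCentral
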