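import Cfsg.Agent.Lib.Recognition.USixCentral.Pullback

/-!
# Two involutions with the same centraliser in `J`, and some sizes
-/

set_option autoImplicit false
set_option maxRecDepth 100000
set_option linter.unusedSectionVars false

namespace CfsgLib.Recognition.USixCentral

open CfsgLib.Recognition.USixTwo
open CfsgLib.Sporadic.LargeFischer (D4 om nzd)

variable {G : Type*} [Group G] [Finite G]

namespace Setting

variable {z a : G} {J : Subgroup G} {π : G → V4} {ψ : ↥(Subgroup.centralizer ({z} : Set G)) →* (V4 ≃ₗ[ZMod 2] V4)}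
  (h : Setting z a J π ψ)
include h

/-- An outside involution does not centralise half of `J`. -/
theorem not_hyper {x : ↥(Subgroup.centralizer ({z} : Set G))} (hx : Out z a J x) (u : V4)
    (hu : ∀ j ∈ J, bs4 u (π j) = 0 → j * (x : G) = x * j) : False := by
  set s := {v : V4 | ψ x v = v} with hs
  have hsub : ∀ v, bs4 u v = 0 → v ∈ s := by
    intro v hv
    obtain ⟨j, hj, rfl⟩ := h.π_surj v
    exact h.lifted_fixed hx ⟨j, hj, rfl, hu j hj hv⟩
  have hbound : s.ncard ≤ 64 := by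
    rcases h.out_cases hx with ⟨p, hq, hp, ht, -⟩ | ⟨hS, -⟩
    · rw [hs, ht, tv_fixed_card hq hp]
    · rw [hs, hS.1]; norm_num
  have hall : ∃ v₀, Set.univ ⊆ s ∪ (fun v => v₀ + v) '' s := by
    by_cases hz : ∀ v, bs4 u v = 0
    · exact ⟨0, fun v _ => Or.inl (hsub v (hz v))⟩
    push Not at hz
    obtain ⟨v₀, hv₀⟩ := hz
    refine ⟨v₀, fun v _ => ?_⟩
    by_cases hv : bs4 u v = 0
    · exact Or.inl (hsub v hv)
    · refine Or.inr ⟨v₀ + v, hsub _ ?_, ?_⟩
      · rw [bs4_eq, hm_add_right, Prod.snd_add, ← bs4_eq, ← bs4_eq, (zmod2_cases _).resolve_left hv₀,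
          (zmod2_cases _).resolve_left hv]
        decide
      · show v₀ + (v₀ + v) = v
        rw [← add_assoc, add_self_V4, zero_add]
  obtain ⟨v₀, hv₀⟩ := hall
  have h1 := (Set.ncard_le_ncard hv₀ (Set.toFinite _)).trans (Set.ncard_union_le _ _)
  rw [Set.ncard_image_of_injective _ (add_right_injective v₀), Set.ncard_univ, Nat.card_eq_fintype_card] at h1
  have h2 : Fintype.card V4 = 256 := by decide
  omega

/-- Elements of `J` whose centralisers in `J` are nested. -/
theorem eq_of_cent {j k : G} (hj : j ∈ J) (hk : k ∈ J) (hsub : ∀ l ∈ J, l * j = j * l → l * k = k * l) :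
    π k = 0 ∨ π k = π j := by
  have hsub' : ∀ v, bs4 v (π j) = 0 → bs4 v (π k) = 0 := by
    intro v hv
    obtain ⟨l, hl, rfl⟩ := h.π_surj v
    exact (h.comm_iff hl hk).1 (hsub l hl ((h.comm_iff hl hj).2 hv))
  by_cases hk0 : π k = 0
  · exact Or.inl hk0
  refine Or.inr ?_
  have hsym : ∀ u v, bs4 u v = bs4 v u := fun u v => by rw [bs4, bs4, add_comm u v]; abel
  obtain ⟨v, hv⟩ : ∃ v, bs4 (π k) v ≠ 0 := by
    by_contra hc
    push Not at hc
    exact hk0 (bs4_nondeg hc)
  rw [hsym] at hv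
  have hvj : bs4 v (π j) = 1 := (zmod2_cases _).resolve_left fun e => hv (hsub' v e)
  have hvk : bs4 v (π k) = 1 := (zmod2_cases _).resolve_left hv
  have hsum : ∀ w, bs4 (π k + π j) w = 0 := by
    intro w
    have hl : ∀ x, bs4 (π k + π j) x = bs4 x (π k) + bs4 x (π j) := fun x => by
      rw [hsym x, hsym x, bs4_eq, bs4_eq, bs4_eq, hm_add_left, Prod.snd_add]
    have hr : ∀ x y c, bs4 (x + y) c = bs4 x c + bs4 y c := fun x y c => by
      rw [bs4_eq, bs4_eq, bs4_eq, hm_add_left, Prod.snd_add]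
    rw [hl]
    rcases zmod2_cases (bs4 w (π j)) with e | e
    · rw [hsub' w e, e, add_zero]
    · have := hsub' (v + w) (by rw [hr, hvj, e]; decide)
      rw [hr, hvk] at this
      rw [e]
      rcases zmod2_cases (bs4 w (π k)) with e' | e' <;> rw [e'] at this ⊢
      · exact absurd this (by decide)
      · decide
  have := bs4_nondeg hsum
  calc π k = π k + π j + π j := by rw [add_assoc, add_self_V4, add_zero]
    _ = π j := by rw [this, zero_add]

/-- Two commuting outside involutions with the same centraliser in `J` have the same image. -/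
theorem pair_eq {x y : ↥(Subgroup.centralizer ({z} : Set G))} (hx : Out z a J x) (hy : Out z a J y)
    (hcomm : (x : G) * y = y * x) (heq : ∀ j ∈ J, j * (x : G) = x * j ↔ j * (y : G) = y * j)
    (hn : ∀ c : ↥(Subgroup.centralizer ({z} : Set G)), (c : G) * x = x * c →
      ∃ m, Odd m ∧ ψ (c * y * c⁻¹ * y) ^ m = 1) : ψ x = ψ y := by
  by_contra hne
  have hc' : ψ x * ψ y = ψ y * ψ x := by rw [← map_mul, ← map_mul]; exact congrArg ψ (Subtype.ext hcomm)
  have hL : ∀ v, Lifted J π (x : G) v ↔ Lifted J π (y : G) v := fun v =>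
    ⟨fun ⟨j, hj, e, hc⟩ => ⟨j, hj, e, (heq j hj).1 hc⟩, fun ⟨j, hj, e, hc⟩ => ⟨j, hj, e, (heq j hj).2 hc⟩⟩
  have hset : {v | Lifted J π (x : G) v} = {v | Lifted J π (y : G) v} := Set.ext hL
  rcases h.out_cases hx with ⟨p, hq, hp, ht, hxc⟩ | ⟨hxS, hxc⟩ <;>
    rcases h.out_cases hy with ⟨q, hq', hq0, ht', hyc⟩ | ⟨hyS, hyc⟩
  · have hsub : {v | Lifted J π (x : G) v} ⊆ {v | tv p v = v ∧ tv q v = v} := fun v hv =>
      ⟨ht ▸ h.lifted_fixed hx hv, ht' ▸ h.lifted_fixed hy ((hL v).1 hv)⟩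
    rw [ht, ht'] at hc' hne
    have := (Set.ncard_le_ncard hsub (Set.toFinite _)).trans (h.outer.tv_tv hq hq' hp hq0 hc' hne)
    omega
  · rw [hset] at hxc; omega
  · rw [hset] at hxc; omega
  · obtain ⟨g, hg, h3, hgc, hodd⟩ := h.outer.pair ⟨x, rfl⟩ ⟨y, rfl⟩ (h.psi_sq hx) (h.psi_sq hy) (h.psi_ne hx)
      (h.psi_ne hy) hc' hne hxS hyS fun v hv => ⟨fun e => h.lifted_fixed hy ((hL v).1
        ((h.small_lifted hx hxS v).2 ⟨e, hv⟩)), fun e => h.lifted_fixed hx ((hL v).2
        ((h.small_lifted hy hyS v).2 ⟨e, hv⟩))⟩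
    obtain ⟨c, rfl, hcx⟩ := h.lift_commute hx hg h3 hgc (Or.inl hxS)
    obtain ⟨m, hm, e⟩ := hn c hcx
    refine hodd m hm ?_
    rw [← e, map_mul, map_mul, map_mul, map_inv]

/-- A 2-group of the centraliser has at most 128 images. -/
theorem card_two_sub {Q : Subgroup G} (hQ : Q ≤ Subgroup.centralizer ({z} : Set G)) (h2 : IsPGroup 2 Q) :
    Nat.card Q ≤ 128 * Nat.card ↥(J ⊓ Q) := by
  haveI := gl_finite
  set Q' := Q.subgroupOf (Subgroup.centralizer ({z} : Set G)) with hQ'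
  set f := ψ.comp Q'.subtype with hf
  have h1 := f.ker.card_mul_index
  rw [Subgroup.index_ker, Nat.card_congr (Subgroup.subgroupOfEquivOfLe hQ).toEquiv] at h1
  have hr : Nat.card f.range ≤ 128 := by
    have hr2 : IsPGroup 2 f.range := by
      rw [MonoidHom.range_eq_map]
      exact ((h2.comap_of_injective _ Subtype.val_injective).to_subgroup ⊤).map _
    obtain ⟨c, -, hc⟩ := h.outer.conj_into_PS (P := f.range) (by
      rintro _ ⟨q, rfl⟩; exact ⟨_, rfl⟩) hr2
    rw [← PS_card, ← Subgroup.card_map_of_injective (K := f.range) (f := (MulAut.conj c).toMonoidHom) (MulAut.conj c).injective]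
    exact Nat.card_le_card_of_injective _ (Subgroup.inclusion_injective (by
      rintro _ ⟨g, hg, rfl⟩; exact hc g hg))
  have hk : Nat.card f.ker ≤ Nat.card ↥(J ⊓ Q) :=
    Nat.card_le_card_of_injective (fun q => (⟨((q.1.1 : ↥(Subgroup.centralizer ({z} : Set G))) : G),
      (h.ker _).1 q.2, q.1.2⟩ : ↥(J ⊓ Q)))
      fun q q' e => Subtype.ext (Subtype.ext (Subtype.ext (congrArg Subtype.val e :)))
  calc Nat.card Q = Nat.card f.ker * Nat.card f.range := h1.symm
    _ ≤ Nat.card ↥(J ⊓ Q) * 128 := Nat.mul_le_mul hk hr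
    _ = _ := Nat.mul_comm _ _

/-- A 2-subgroup containing `J` which the centraliser's Sylow subgroups do not leave. -/
theorem exists_std : ∃ P : Subgroup G, J ≤ P ∧ P ≤ Subgroup.centralizer ({z} : Set G) ∧ IsPGroup 2 P ∧
    ∀ g : G, (∀ p ∈ P, g * p * g⁻¹ * z = z * (g * p * g⁻¹)) → g * z = z * g := by
  haveI : Fact (Nat.Prime 2) := ⟨Nat.prime_two⟩
  obtain ⟨S, hS⟩ := IsPGroup.exists_le_sylow (G := ↥(Subgroup.centralizer ({z} : Set G)))
    (P := J.subgroupOf _) (IsPGroup.of_card (p := 2) (n := 10) (by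
      rw [Nat.card_congr (Subgroup.subgroupOfEquivOfLe h.le_cent).toEquiv, h.card_J]; rfl))
  set P := (S : Subgroup _).map (Subgroup.centralizer ({z} : Set G)).subtype with hP
  have hPC : P ≤ Subgroup.centralizer ({z} : Set G) := Subgroup.map_subtype_le _
  have hJP : J ≤ P := fun j hj => ⟨⟨j, h.le_cent hj⟩, hS (Subgroup.mem_subgroupOf.2 hj), rfl⟩
  refine ⟨P, hJP, hPC, S.isPGroup'.map _, fun g hg => ?_⟩
  set R := P.map (MulAut.conj g).toMonoidHom with hR
  have hRC : R ≤ Subgroup.centralizer ({z} : Set G) := by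
    rintro _ ⟨p, hp, rfl⟩
    exact Subgroup.mem_centralizer_singleton_iff.2 (hg p hp)
  obtain ⟨R', hR'⟩ := IsPGroup.exists_le_sylow (G := ↥(Subgroup.centralizer ({z} : Set G)))
    (P := R.subgroupOf _) (((S.isPGroup'.map _).map _).comap_of_injective _ Subtype.val_injective)
  obtain ⟨c, hc⟩ := MulAction.exists_smul_eq ↥(Subgroup.centralizer ({z} : Set G)) R' S
  have hz : (c : G) * g * z = z * ((c : G) * g) := by
    refine h.normalizer_le hJP hPC fun p hp => ?_
    have hm : (⟨g * p * g⁻¹, hRC ⟨p, hp, rfl⟩⟩ : ↥(Subgroup.centralizer ({z} : Set G))) ∈ (R' : Subgroup _) :=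
      hR' (Subgroup.mem_subgroupOf.2 ⟨p, hp, rfl⟩)
    refine ⟨c * ⟨g * p * g⁻¹, hRC ⟨p, hp, rfl⟩⟩ * c⁻¹, ?_, ?_⟩
    · rw [← hc]; exact ⟨_, hm, rfl⟩
    · show (c : G) * (g * p * g⁻¹) * (c : G)⁻¹ = _
      group
  have h1 := Subgroup.mem_centralizer_singleton_iff.1 (mul_mem (inv_mem c.2)
    (Subgroup.mem_centralizer_singleton_iff.2 hz))
  rwa [inv_mul_cancel_left] at h1

end Setting

end CfsgLib.Recognition.USixCentral
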