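import Cfsg.Agent.Lib.LocalEven.Yoshida

/-!
# The transfer of an involution into a Sylow 2-subgroup

If the target gives one value at all conjugates whose centraliser has full 2-part in the Sylow subgroup, that is the
value of the transfer.
-/

set_option autoImplicit false
set_option linter.unusedSectionVars false

namespace CfsgLib.Recognition.USixCentral

variable {G : Type*} [Group G] [Finite G]

theorem transfer_extremal_of_odd {H : Subgroup G} (hHodd : H.index % 2 = 1) {A : Type*} [CommGroup A] (φ : ↥H →* A)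
    {t : G} (ht : t * t = 1) {α : A} (hα : α ^ 2 = 1) {R : Subgroup G} (hR : IsPGroup 2 R) (htR : t ∈ R)
    (hRt : ∀ r ∈ R, r * t = t * r)
    (hext : ∀ g : G, (∀ r ∈ R, g⁻¹ * r * g ∈ H) → ∀ h : g⁻¹ * t * g ∈ H, φ ⟨_, h⟩ = α) :
    MonoidHom.transfer φ t = α := by
  classical
  haveI : Fact (Nat.Prime 2) := ⟨Nat.prime_two⟩
  haveI : Fintype (G ⧸ H) := Fintype.ofFinite _
  have hdvd : orderOf t ∣ 2 := orderOf_dvd_of_pow_eq_one (by rw [pow_two, ht])
  rw [CfsgLib.LocalEven.Yoshida.transfer_eq_fixed φ t 1 (fun g l hl hl1 h => by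
    have hl2 := hl.trans hdvd
    rcases (Nat.dvd_prime Nat.prime_two).1 hl2 with rfl | rfl
    · omega
    · rw [one_pow, ← map_one φ]
      exact congrArg φ (Subtype.ext (by
        show g⁻¹ * t ^ 2 * g = 1
        rw [pow_two, ht]; group))), one_pow, one_mul]
  set E : G ⧸ H → A := fun c => if h : c.out⁻¹ * t * c.out ∈ H then φ ⟨_, h⟩ / 1 else 1 with hE
  show ∏ c, E c = α
  have hE2 : ∀ c, E c ^ 2 = 1 := fun c => by
    simp only [hE]
    split
    · rename_i h
      rw [div_one, ← map_pow, show (⟨_, h⟩ : ↥H) ^ 2 = 1 from Subtype.ext (by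
        show (c.out⁻¹ * t * c.out) ^ 2 = 1
        rw [pow_two, show c.out⁻¹ * t * c.out * (c.out⁻¹ * t * c.out) = c.out⁻¹ * (t * t) * c.out by group, ht]
        group), map_one]
    · exact one_pow 2
  have hEinv : ∀ (r : ↥R) (c : G ⧸ H), E ((r : G) • c) = E c := by
    intro r c
    obtain ⟨s, hs⟩ := QuotientGroup.mk_out_eq_mul H ((r : G) * c.out)
    have hrc : ((r : G) • c) = (((r : G) * c.out : G) : G ⧸ H) := by
      conv_lhs => rw [← QuotientGroup.out_eq' c]
      rfl
    have e : ((r : G) • c).out⁻¹ * t * ((r : G) • c).out = (s : G)⁻¹ * (c.out⁻¹ * t * c.out) * s := by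
      rw [hrc, hs]
      calc ((r : G) * c.out * (s : G))⁻¹ * t * ((r : G) * c.out * (s : G)) =
          (s : G)⁻¹ * c.out⁻¹ * ((r : G)⁻¹ * (t * (r : G))) * c.out * (s : G) := by group
        _ = _ := by rw [← hRt r r.2]; group
    simp only [hE]
    by_cases h : c.out⁻¹ * t * c.out ∈ H
    · have h' : ((r : G) • c).out⁻¹ * t * ((r : G) • c).out ∈ H := by
        rw [e]; exact mul_mem (mul_mem (inv_mem s.2) h) s.2
      rw [dif_pos h, dif_pos h', div_one, div_one,
        show (⟨_, h'⟩ : ↥H) = s⁻¹ * ⟨_, h⟩ * s from Subtype.ext e, map_mul, map_mul, map_inv, mul_comm (φ s)⁻¹,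
        inv_mul_cancel_right]
    · have h' : ((r : G) • c).out⁻¹ * t * ((r : G) • c).out ∉ H := fun h' => h (by
        rw [e] at h'
        have := mul_mem (mul_mem s.2 h') (inv_mem s.2)
        simpa [mul_assoc] using this)
      rw [dif_neg h, dif_neg h']
  have hcount : ∀ v : A, Nat.card {c : G ⧸ H // E c = v} % 2 = if v = α then Nat.card {c : G ⧸ H // E c = v} % 2 else 0 := by
    intro v
    split
    · rfl
    · rename_i hv
      letI : MulAction ↥R {c : G ⧸ H // E c = v} :=
        { smul := fun r c => ⟨(r : G) • c.1, (hEinv r c.1).trans c.2⟩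
          one_smul := fun c => Subtype.ext (one_smul G c.1)
          mul_smul := fun r r' c => Subtype.ext (mul_smul (r : G) (r' : G) c.1) }
      have := hR.card_modEq_card_fixedPoints {c : G ⧸ H // E c = v}
      rw [show MulAction.fixedPoints ↥R {c : G ⧸ H // E c = v} = ∅ from Set.eq_empty_of_forall_notMem fun c hc => hv ?_,
        Nat.card_coe_set_eq, Set.ncard_empty] at this
      · exact this
      have hfix : ∀ r ∈ R, c.1.out⁻¹ * r * c.1.out ∈ H := by
        intro r hr
        have h1 : (r : G) • c.1 = c.1 := congrArg Subtype.val (hc ⟨r, hr⟩)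
        conv_lhs at h1 => rw [← QuotientGroup.out_eq' c.1]
        conv_rhs at h1 => rw [← QuotientGroup.out_eq' c.1]
        change ((r * c.1.out : G) : G ⧸ H) = _ at h1
        rw [eq_comm, QuotientGroup.eq] at h1
        rwa [← mul_assoc] at h1
      rw [← c.2]
      simp only [hE]
      rw [dif_pos (hfix t htR), div_one]
      exact hext _ hfix _
  have hprod : ∏ c, E c = α ^ (Nat.card (G ⧸ H)) := by
    rw [← Finset.prod_fiberwise_of_maps_to (s := Finset.univ) (t := Finset.univ.image E)
      (fun c hc => Finset.mem_image_of_mem E hc) E]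
    have hterm : ∀ v : A, (∏ c ∈ Finset.univ.filter (fun c => E c = v), E c) =
        α ^ (Finset.univ.filter fun c => E c = v).card := by
      intro v
      rw [Finset.prod_congr rfl (fun c hc => (Finset.mem_filter.1 hc).2), Finset.prod_const]
      by_cases hne : (Finset.univ.filter fun c => E c = v) = ∅
      · rw [hne, Finset.card_empty, pow_zero, pow_zero]
      obtain ⟨c, hc⟩ := Finset.nonempty_iff_ne_empty.2 hne
      have hv2 : v ^ 2 = 1 := (Finset.mem_filter.1 hc).2 ▸ hE2 c
      by_cases hva : v = α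
      · rw [hva]
      have := hcount v
      rw [if_neg hva, Nat.card_eq_fintype_card, Fintype.card_subtype] at this
      obtain ⟨m, hm⟩ := Nat.dvd_of_mod_eq_zero this
      rw [hm, pow_mul, pow_mul, hv2, hα]
    rw [Finset.prod_congr rfl (fun v _ => hterm v), Finset.prod_pow_eq_pow_sum,
      ← Finset.card_eq_sum_card_fiberwise (fun c hc => Finset.mem_image_of_mem E hc), Finset.card_univ, Nat.card_eq_fintype_card]
  rw [hprod]
  have hodd : Nat.card (G ⧸ H) % 2 = 1 := by
    exact hHodd
  conv_lhs => rw [← Nat.div_add_mod (Nat.card (G ⧸ H)) 2, hodd, pow_add, pow_mul, hα, one_pow, one_mul, pow_one]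

theorem transfer_extremal (S : Sylow 2 G) {A : Type*} [CommGroup A] (φ : ↥(S : Subgroup G) →* A) {t : G}
    (ht : t * t = 1) {α : A} (hα : α ^ 2 = 1) {R : Subgroup G} (hR : IsPGroup 2 R) (htR : t ∈ R)
    (hRt : ∀ r ∈ R, r * t = t * r)
    (hext : ∀ g : G, (∀ r ∈ R, g⁻¹ * r * g ∈ (S : Subgroup G)) → ∀ h : g⁻¹ * t * g ∈ (S : Subgroup G), φ ⟨_, h⟩ = α) :
    MonoidHom.transfer φ t = α :=
  haveI : Fact (Nat.Prime 2) := ⟨Nat.prime_two⟩
  transfer_extremal_of_odd (Nat.two_dvd_ne_zero.1 S.not_dvd_index) φ ht hα hR htR hRt hext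

end CfsgLib.Recognition.USixCentral
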