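import Cfsg.Agent.Lib.Recognition.USixTwo.Generated

/-!
# The semilinear isometries of order 51840 of the hermitian space of dimension four

The group generated by the transvections and the coordinatewise field automorphism, a Sylow subgroup of it and
tables about its involutions.
-/

set_option autoImplicit false
set_option maxRecDepth 100000

namespace CfsgLib.Recognition.USixCentral

open CfsgLib.Recognition.USixTwo
open CfsgLib.Sporadic.LargeFischer (D4 om nzd)

/-- The coordinatewise field automorphism, as a function. -/
def sigFun (v : V4) : V4 := fun i => cj (v i)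

theorem cj_cj : ∀ a : D4, cj (cj a) = a := by decide

theorem cj_add : ∀ a b : D4, cj (a + b) = cj a + cj b := by decide

/-- The coordinatewise field automorphism. -/
def sigma : V4 ≃ₗ[ZMod 2] V4 where
  toFun := sigFun
  invFun := sigFun
  map_add' u v := funext fun i => cj_add (u i) (v i)
  map_smul' c v := funext fun i => (by decide : ∀ (c : ZMod 2) (a : D4), cj (c • a) = c • cj a) c (v i)
  left_inv v := funext fun i => cj_cj (v i)
  right_inv v := funext fun i => cj_cj (v i)

theorem sigma_apply (v : V4) (i : Fin 4) : sigma v i = cj (v i) := rfl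

theorem sigma_mul_self : sigma * sigma = 1 := LinearEquiv.ext fun v => funext fun i => cj_cj (v i)

theorem sigma_inv : sigma⁻¹ = sigma := inv_eq_of_mul_eq_one_right sigma_mul_self

theorem sigma_scl (c : D4) (v : V4) : sigma (scl c v) = scl (cj c) (sigma v) :=
  funext fun i => (by decide : ∀ c a : D4, cj (fm c a) = fm (cj c) (cj a)) c (v i)

theorem sigma_q4 (v : V4) : q4 (sigma v) = q4 v := by
  have h : ∀ a : D4, nzd (cj a) = nzd a := by decide
  simp only [q4, sigma_apply, h]

theorem sigma_hm (u v : V4) : hm (sigma u) (sigma v) = cj (hm u v) := by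
  have h : ∀ x y : D4, fm (cj x) (cj (cj y)) = cj (fm x (cj y)) := by decide
  simp only [hm, sigma_apply, h, cj_add]

theorem sigma_tv {t : V4} (ht : hm t t = 0) : sigma * tv t * sigma = tv (sigma t) := LinearEquiv.ext fun v => by
  show sigma (tv t (sigma v)) = tv (sigma t) v
  have hh : hm v (sigma t) = cj (hm (sigma v) t) := by
    rw [← sigma_hm, show sigma (sigma v) = v from funext fun i => cj_cj (v i)]
  rw [tv_apply ht, tv_apply (by rw [sigma_hm, ht]; rfl), map_add, sigma_scl, hh,
    show sigma (sigma v) = v from funext fun i => cj_cj (v i)]

/-- Its columns. -/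
def sigCols : List ℕ := [1, 3, 4, 12, 16, 48, 64, 192]

theorem cols_sigma : cols sigma = sigCols := by decide +kernel

/-- The columns of a Sylow subgroup. -/
def psCols : List (List ℕ) := sylCols ++ sylCols.map (mulCols sigCols)

/-- The involutions among them. -/
def invCols : List (List ℕ) := psCols.filter fun a => a != idCols && mulCols a a == idCols

/-- The words of order three telling two involutions apart. -/
def pairWords : List (List ℕ) := [
  [27, 22, 3, 1],
  [31, 17, 4, 1],
  [32, 21, 5, 1],
  [30, 25, 17, 1],
  [34, 25, 21, 1],
  [26, 25, 22, 1],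
  [13, 12, 4, 3],
  [33, 27, 10, 3],
  [41, 38, 11, 3],
  [34, 28, 11, 4],
  [27, 16, 15, 1],
  [42, 16, 15, 1],
  [31, 18, 15, 1],
  [37, 18, 15, 1],
  [32, 19, 15, 1],
  [41, 19, 15, 1],
  [19, 16, 9, 3],
  [22, 16, 9, 3],
  [30, 27, 10, 3],
  [44, 38, 11, 3],
  [42, 36, 9, 4],
  [23, 17, 10, 4]]

/-- The word of order three moving the line of the standard vector. -/
def lineWord : List ℕ := [27, 22, 3, 1]

/-- The codes of the fixed vectors. -/
def fixN (a : List ℕ) : List ℕ := (List.range 256).filter fun n => apN a n == n

/-- The power with exponent 405, on columns. -/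
def pow405 (c : List ℕ) : List ℕ :=
  let c4 := mulCols (mulCols c c) (mulCols c c)
  let c16 := mulCols (mulCols c4 c4) (mulCols c4 c4)
  let c64 := mulCols (mulCols c16 c16) (mulCols c16 c16)
  let c256 := mulCols (mulCols c64 c64) (mulCols c64 c64)
  mulCols c256 (mulCols (mulCols c64 c64) (mulCols c16 (mulCols c4 c)))

/-- All sums of sublists. -/
def spanL : List ℕ → List ℕ
  | [] => [0]
  | g :: l => spanL l ++ (spanL l).map fun n => g ^^^ n

theorem ps_ok : sylCols.all (fun a => apN a 5 == 5) = true ∧ apN sigCols 5 = 5 ∧
    sylCols.all (fun a => sylCols.contains (mulCols sigCols (mulCols a sigCols))) = true := by decide +kernel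

theorem ps_nodup : sylCols.all (fun a => !sylCols.contains (mulCols sigCols a)) = true ∧
    mulCols sigCols sigCols = idCols ∧
    sylCols.all (fun a => mulCols sigCols (mulCols sigCols a) == a) = true := by decide +kernel

theorem case_ok : invCols.all (fun a => tvCols.contains a ||
    ((fixN a).length == 16 && (fixN a).all fun n => (List.range 256).any fun m => (apN a m ^^^ m) == n)) = true := by
  decide +kernel

theorem sing_ok : invCols.all (fun a => (List.range 256).any fun m =>
    (apN a m ^^^ m) != 0 && !qN (apN a m ^^^ m)) = true := by decide +kernel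

theorem central_ok : invCols.all (fun a => (a == tvCols.getD 0 []) ||
    psCols.any fun b => mulCols a b != mulCols b a) = true := by decide +kernel

theorem tv_tv_ok : invCols.all (fun a => invCols.all fun b => !(tvCols.contains a && tvCols.contains b) || a == b ||
    decide (((fixN a).filter fun n => apN b n == n).length ≤ 16)) = true := by decide +kernel

theorem pair_ok : invCols.all (fun a => invCols.all fun b => a == b || tvCols.contains a || tvCols.contains b ||
    mulCols a b != mulCols b a || (fixN a).filter (fun n => !qN n) != (fixN b).filter (fun n => !qN n) ||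
    pairWords.any fun w => mulCols (wordCols w) a == mulCols a (wordCols w) &&
      pow405 (mulCols (mulCols (mulCols (wordCols w) b) (mulCols (wordCols w) (wordCols w))) b) != idCols) = true := by
  decide +kernel

theorem words_ok : pairWords.all (fun w => validW w &&
    mulCols (wordCols w) (mulCols (wordCols w) (wordCols w)) == idCols) = true ∧ validW lineWord = true ∧
    mulCols (wordCols lineWord) (mulCols (wordCols lineWord) (wordCols lineWord)) = idCols ∧
    mulCols (wordCols lineWord) (tvCols.getD 0 []) = mulCols (tvCols.getD 0 []) (wordCols lineWord) ∧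
    apN (wordCols lineWord) 5 = 10 ∧ apN (wordCols lineWord) 10 = 15 ∧ apN (wordCols lineWord) 15 = 5 := by
  decide +kernel

theorem perp_ok : perpCodes.length = 64 ∧ (perpCodes.all fun n => (spanL [5, 10, apN (wordCols lineWord) 16 ^^^ 16,
    apN (wordCols lineWord) 32 ^^^ 32, apN (wordCols lineWord) 64 ^^^ 64,
    apN (wordCols lineWord) 128 ^^^ 128]).contains n) = true ∧
    [16, 32, 64, 128].all (fun n => perpCodes.contains n) = true := by decide +kernel

theorem perp_perp_ok : (List.range 256).all (fun n => lineN 5 n ||
    perpCodes.any fun m => hN n m == 2 || hN n m == 3) = true := by decide +kernel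

end CfsgLib.Recognition.USixCentral
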