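import Cfsg.Agent.Lib.Recognition.USixCentral.Modulo
import Cfsg.Agent.Lib.Recognition.USixCentral.Transfer
import Mathlib.GroupTheory.SpecificGroups.Cyclic

/-!
# A centraliser `⟨a⟩ × U₆(2)` gives a normal subgroup avoiding `a`
-/

set_option autoImplicit false
set_option linter.unusedSectionVars false
set_option linter.style.haveILetI false

namespace CfsgLib.Recognition.USixCentral

open CfsgLib.Recognition.USixTwo
open scoped commutatorElement

variable {G : Type*} [Group G] [Finite G]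

namespace Setting

variable {z a : G} {J : Subgroup G} {π : G → V4} {ψ : ↥(Subgroup.centralizer ({z} : Set G)) →* (V4 ≃ₗ[ZMod 2] V4)}
  (h : Setting z a J π ψ)
include h


theorem z_commutator : ∃ j ∈ J, ∃ k ∈ J, ⁅j, k⁆ = z := by
  obtain ⟨v, hv⟩ : ∃ v, bs4 (ev 0) v ≠ 0 := by
    by_contra hc
    push Not at hc
    exact ev0_ne (bs4_nondeg hc)
  obtain ⟨j, hj, ej⟩ := h.π_surj (ev 0)
  obtain ⟨k, hk, ek⟩ := h.π_surj v
  refine ⟨j, hj, k, hk, ?_⟩
  rcases h.comm_cases hj hk with c | c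
  · exact absurd ((h.comm_iff hj hk).1 c) (by rw [ej, ek]; exact hv)
  · rw [commutatorElement_def, c]; group

/-- The derived subgroup of the centraliser of `a`. -/
def L0 (_h : Setting z a J π ψ) : Subgroup G := ⁅(Subgroup.centralizer ({a} : Set G)), (Subgroup.centralizer ({a} : Set G))⁆

theorem L0_le : h.L0 ≤ (Subgroup.centralizer ({a} : Set G)) := Subgroup.commutator_le_self _

theorem z_mem_L0 : z ∈ h.L0 := by
  have h0 : ∀ j ∈ J, ∀ k ∈ J, ⁅j, k⁆ ∈ h.L0 := fun j hj k hk =>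
    Subgroup.commutator_mem_commutator (h.J_le_cent_a hj) (h.J_le_cent_a hk)
  obtain ⟨j, hj, k, hk, e⟩ := h.z_commutator
  have := h0 j hj k hk
  rwa [e] at this

theorem TG_index : (TG.subgroupOf ψ.range).index = 2 := by
  have h1 := (TG.subgroupOf ψ.range).card_mul_index
  rw [Nat.card_congr (Subgroup.subgroupOfEquivOfLe h.outer.tg).toEquiv, h.outer.card, h.outer.model.card] at h1
  omega

/-- If the roles of `a` and `z * a` are exchanged, the centraliser of both lies over the transvection group. -/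
theorem TG_of_fix (hsw : ∃ s : G, s * z = z * s ∧ s * a ≠ a * s) {c : ↥(Subgroup.centralizer ({z} : Set G))} (hc : (c : G) * a = a * c) :
    ψ c ∈ TG := by
  obtain ⟨s, hsz, hsa⟩ := hsw
  let s' : ↥(Subgroup.centralizer ({z} : Set G)) := ⟨s, mem_cent_of hsz⟩
  by_contra hn
  have hs : ψ s' ∉ TG := fun hm => hsa (h.fix_a hm)
  have h2 : ψ (c * s') ∈ TG := by
    have h3 := (Subgroup.mul_mem_iff_of_index_two h.TG_index (a := (⟨ψ c, ⟨c, rfl⟩⟩ : ↥ψ.range))
      (b := ⟨ψ s', ⟨s', rfl⟩⟩)).2 (iff_of_false hn hs)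
    rw [map_mul]
    exact h3
  refine hsa (mul_left_cancel (a := (c : G)) ?_)
  calc (c : G) * (s * a) = (c : G) * s * a := (mul_assoc _ _ _).symm
    _ = a * ((c : G) * s) := h.fix_a h2
    _ = (c : G) * (a * s) := by rw [← mul_assoc, ← hc, mul_assoc]


/-- The part of the derived subgroup centralising `z` is the derived subgroup of the centraliser of both. -/
theorem cent_inf_le (hsw : ∃ s : G, s * z = z * s ∧ s * a ≠ a * s) (ha : a ∉ h.L0) {x : G}
    (hx : x ∈ h.L0) (hxz : x * z = z * x) : x ∈ ⁅((Subgroup.centralizer ({a} : Set G)) ⊓ (Subgroup.centralizer ({z} : Set G))), ((Subgroup.centralizer ({a} : Set G)) ⊓ (Subgroup.centralizer ({z} : Set G)))⁆ := by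
  have hJHa : J ≤ ((Subgroup.centralizer ({a} : Set G)) ⊓ (Subgroup.centralizer ({z} : Set G))) := le_inf h.J_le_cent_a h.le_cent
  have hDl : ⁅((Subgroup.centralizer ({a} : Set G)) ⊓ (Subgroup.centralizer ({z} : Set G))), ((Subgroup.centralizer ({a} : Set G)) ⊓ (Subgroup.centralizer ({z} : Set G)))⁆ ≤ h.L0 := Subgroup.commutator_mono inf_le_left inf_le_left
  have hzD : z ∈ ⁅((Subgroup.centralizer ({a} : Set G)) ⊓ (Subgroup.centralizer ({z} : Set G))), ((Subgroup.centralizer ({a} : Set G)) ⊓ (Subgroup.centralizer ({z} : Set G)))⁆ := by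
    have h0 : ∀ j ∈ J, ∀ k ∈ J, ⁅j, k⁆ ∈ ⁅((Subgroup.centralizer ({a} : Set G)) ⊓ (Subgroup.centralizer ({z} : Set G))), ((Subgroup.centralizer ({a} : Set G)) ⊓ (Subgroup.centralizer ({z} : Set G)))⁆ := fun j hj k hk =>
      Subgroup.commutator_mem_commutator (hJHa hj) (hJHa hk)
    obtain ⟨j, hj, k, hk, e⟩ := h.z_commutator
    have := h0 j hj k hk
    rwa [e] at this
  have hlift : ∀ g ∈ TG, ∃ c : ↥(Subgroup.centralizer ({z} : Set G)), (c : G) ∈ ((Subgroup.centralizer ({a} : Set G)) ⊓ (Subgroup.centralizer ({z} : Set G))) ∧ ψ c = g := by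
    intro g hg
    obtain ⟨c, rfl⟩ := h.outer.tg hg
    exact ⟨c, ⟨mem_cent_of (h.fix_a hg), c.2⟩, rfl⟩
  have hT : TG ≤ ((⁅((Subgroup.centralizer ({a} : Set G)) ⊓ (Subgroup.centralizer ({z} : Set G))), ((Subgroup.centralizer ({a} : Set G)) ⊓ (Subgroup.centralizer ({z} : Set G)))⁆ : Subgroup G).subgroupOf (Subgroup.centralizer ({z} : Set G))).map ψ := by
    refine TG_le_of_comm fun u hu w hw => ?_
    obtain ⟨c, hc, rfl⟩ := hlift u hu
    obtain ⟨d, hd, rfl⟩ := hlift w hw
    exact ⟨⁅c, d⁆, Subgroup.commutator_mem_commutator hc hd, by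
      rw [map_commutatorElement, commutatorElement_def]⟩
  let W : AddSubgroup V4 :=
    { carrier := {v | ∃ j ∈ J, π j = v ∧ j ∈ ⁅((Subgroup.centralizer ({a} : Set G)) ⊓ (Subgroup.centralizer ({z} : Set G))), ((Subgroup.centralizer ({a} : Set G)) ⊓ (Subgroup.centralizer ({z} : Set G)))⁆}
      add_mem' := by
        rintro u w ⟨j, hj, rfl, hjD⟩ ⟨k, hk, rfl, hkD⟩
        exact ⟨j * k, mul_mem hj hk, h.π_mul j hj k hk, mul_mem hjD hkD⟩
      zero_mem' := ⟨1, one_mem _, h.π_one, one_mem _⟩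
      neg_mem' := by
        rintro u ⟨j, hj, rfl, hjD⟩
        exact ⟨j⁻¹, inv_mem hj, by rw [h.π_inv hj, ZModModule.neg_eq_self], inv_mem hjD⟩ }
  have hmove : ∀ g ∈ TG, ∀ v, g v + v ∈ W := by
    intro g hg v
    obtain ⟨c, hc, rfl⟩ := hlift g hg
    obtain ⟨j, hj, rfl⟩ := h.π_surj v
    have hcz := Subgroup.mem_centralizer_singleton_iff.1 c.2
    refine ⟨(c : G) * j * (c : G)⁻¹ * j⁻¹, mul_mem (h.norm _ hcz j hj) (inv_mem hj), ?_,
      Subgroup.commutator_mem_commutator hc (hJHa hj)⟩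
    rw [h.π_mul _ (h.norm _ hcz j hj) _ (inv_mem hj), h.act c j hj, h.π_inv hj]
  have hWinv : ∀ g ∈ TG, ∀ v ∈ W, g v ∈ W := fun g hg v hv => by
    have := add_mem (hmove g hg v) hv
    rwa [add_assoc, add_self_V4, add_zero] at this
  have hWall : ∀ v, v ∈ W := by
    obtain ⟨g, hg, v, hv⟩ : ∃ g ∈ TG, ∃ v, g v ≠ v := by
      by_contra hcon
      push Not at hcon
      exact ev0_ne (eq_zero_of_fixed fun g hg => hcon g hg (ev 0))
    exact fun w => mem_of_invariant hWinv (hmove g hg v) (fun e => hv (by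
      rw [← sub_eq_zero, ZModModule.sub_eq_add, e])) w
  obtain ⟨c, hc, ec⟩ := hT (h.TG_of_fix hsw (c := (⟨x, mem_cent_of hxz⟩ : ↥(Subgroup.centralizer ({z} : Set G))))
    (Subgroup.mem_centralizer_singleton_iff.1 (h.L0_le hx)))
  change (c : G) ∈ ⁅((Subgroup.centralizer ({a} : Set G)) ⊓ (Subgroup.centralizer ({z} : Set G))), ((Subgroup.centralizer ({a} : Set G)) ⊓ (Subgroup.centralizer ({z} : Set G)))⁆ at hc
  have hrJ : (c : G)⁻¹ * x ∈ J := (h.ker (c⁻¹ * ⟨x, mem_cent_of hxz⟩)).1 (by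
    rw [map_mul, map_inv, ec, inv_mul_cancel])
  obtain ⟨d, hd, ed, hdD⟩ := hWall (π ((c : G)⁻¹ * x))
  have hrest : d⁻¹ * ((c : G)⁻¹ * x) ∈ ⁅((Subgroup.centralizer ({a} : Set G)) ⊓ (Subgroup.centralizer ({z} : Set G))), ((Subgroup.centralizer ({a} : Set G)) ⊓ (Subgroup.centralizer ({z} : Set G)))⁆ := by
    have hl : d⁻¹ * ((c : G)⁻¹ * x) ∈ h.L0 := mul_mem (inv_mem (hDl hdD)) (mul_mem (inv_mem (hDl hc)) hx)
    rcases h.π_eq hd hrJ ed with e | e | e | e <;> rw [e] at hl ⊢
    · exact one_mem _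
    · exact hzD
    · exact absurd hl ha
    · refine absurd ?_ ha
      have := mul_mem h.z_mem_L0 hl
      rwa [h.z_za] at this
  have e : x = (c : G) * (d * (d⁻¹ * ((c : G)⁻¹ * x))) := by group
  rw [e]
  exact mul_mem hc (mul_mem hdD hrest)

variable {Q : Type*} [Group Q] {q : ↥(Subgroup.centralizer ({a} : Set G)) →* Q} (hq : Onto a q)
include hq

theorem commutator_top (hsimple : IsSimpleGroup Q) : ⁅(⊤ : Subgroup Q), (⊤ : Subgroup Q)⁆ = ⊤ := by
  haveI := hsimple
  refine (Subgroup.Normal.eq_bot_or_eq_top (Subgroup.commutator_normal ⊤ ⊤)).resolve_left fun e => ?_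
  have h0 : ∀ j : ↥(Subgroup.centralizer ({a} : Set G)), ∀ k : ↥(Subgroup.centralizer ({a} : Set G)), ⁅(j : G), (k : G)⁆ = 1 ∨ ⁅(j : G), (k : G)⁆ = a := fun j k => by
    have h1 := Subgroup.commutator_mem_commutator (Subgroup.mem_top (q j)) (Subgroup.mem_top (q k))
    rw [e, Subgroup.mem_bot, ← map_commutatorElement] at h1
    exact (hq.ker _).1 h1
  obtain ⟨j, hj, k, hk, ejk⟩ := h.z_commutator
  rcases h0 ⟨j, h.J_le_cent_a hj⟩ ⟨k, h.J_le_cent_a hk⟩ with e1 | e1 <;> rw [ejk] at e1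
  · exact ne_one_of_order_two h.ord_z e1
  · exact h.ne e1.symm

/-- The derived subgroup covers the centraliser up to `a`. -/
theorem L0_cover (hsimple : IsSimpleGroup Q) {x : G} (hx : x * a = a * x) : x ∈ h.L0 ∨ x * a ∈ h.L0 := by
  have h1 : q ⟨x, mem_cent_of hx⟩ ∈ (h.L0.subgroupOf (Subgroup.centralizer ({a} : Set G))).map q := by
    have e : h.L0.subgroupOf (Subgroup.centralizer ({a} : Set G)) = ⁅(⊤ : Subgroup ↥(Subgroup.centralizer ({a} : Set G))), (⊤ : Subgroup ↥(Subgroup.centralizer ({a} : Set G)))⁆ := by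
      refine Subgroup.map_injective (Subgroup.subtype_injective (Subgroup.centralizer ({a} : Set G))) ?_
      rw [Subgroup.map_commutator, ← MonoidHom.range_eq_map, Subgroup.range_subtype,
        Subgroup.map_subgroupOf_eq_of_le h.L0_le]
      rfl
    rw [e, Subgroup.map_commutator, Subgroup.map_top_of_surjective q hq.surj, h.commutator_top hq hsimple]
    exact Subgroup.mem_top _
  obtain ⟨y, hy, e⟩ := h1
  rcases hq.eq_iff.1 e with e' | e' <;> change x = _ at e'
  · exact Or.inl (e' ▸ hy)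
  · refine Or.inr ?_
    rw [e', mul_assoc, h.aa, mul_one]
    exact hy

/-- It is perfect, if it avoids `a`. -/
theorem L0_perfect (hsimple : IsSimpleGroup Q) (ha : a ∉ h.L0) : ⁅h.L0, h.L0⁆ = h.L0 := by
  refine le_antisymm (Subgroup.commutator_le_self _) fun x hx => ?_
  have htop : (h.L0.subgroupOf (Subgroup.centralizer ({a} : Set G))).map q = ⊤ := eq_top_iff.2 fun v _ => by
    obtain ⟨⟨w, hw⟩, rfl⟩ := hq.surj v
    rcases h.L0_cover hq hsimple (Subgroup.mem_centralizer_singleton_iff.1 hw) with h1 | h1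
    · exact ⟨⟨w, hw⟩, h1, rfl⟩
    · exact ⟨⟨w * a, h.L0_le h1⟩, h1, hq.eq_iff.2 (Or.inr (show w = w * a * a by rw [mul_assoc, h.aa, mul_one]))⟩
  have h2 : (⁅h.L0.subgroupOf (Subgroup.centralizer ({a} : Set G)), h.L0.subgroupOf (Subgroup.centralizer ({a} : Set G))⁆).map q = ⊤ := by
    rw [Subgroup.map_commutator, htop, h.commutator_top hq hsimple]
  obtain ⟨y, hy, e⟩ : q ⟨x, h.L0_le hx⟩ ∈ (⁅h.L0.subgroupOf (Subgroup.centralizer ({a} : Set G)), h.L0.subgroupOf (Subgroup.centralizer ({a} : Set G))⁆).map q :=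
    h2 ▸ Subgroup.mem_top _
  have hy' : (y : G) ∈ ⁅h.L0, h.L0⁆ := by
    have h3 : (y : G) ∈ (⁅h.L0.subgroupOf (Subgroup.centralizer ({a} : Set G)), h.L0.subgroupOf (Subgroup.centralizer ({a} : Set G))⁆).map (Subgroup.subtype (Subgroup.centralizer ({a} : Set G))) := ⟨y, hy, rfl⟩
    rwa [Subgroup.map_commutator, Subgroup.map_subgroupOf_eq_of_le h.L0_le] at h3
  rcases hq.eq_iff.1 e with e' | e' <;> change x = _ at e'
  · exact e' ▸ hy'
  · refine absurd ?_ ha
    have h3 := mul_mem (inv_mem (Subgroup.commutator_le_self _ hy')) hx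
    rwa [e', inv_mul_cancel_left] at h3

theorem card_L0 (hsimple : IsSimpleGroup Q) (ha : a ∉ h.L0) : Nat.card h.L0 = Nat.card Q := by
  refine Nat.card_eq_of_bijective (fun l => q ⟨l.1, h.L0_le l.2⟩) ⟨fun l m e => ?_, fun v => ?_⟩
  · rcases hq.eq_iff.1 e with e' | e' <;> change (m : G) = _ at e'
    · exact Subtype.ext e'.symm
    · refine absurd ?_ ha
      have := mul_mem (inv_mem l.2) m.2
      rwa [e', inv_mul_cancel_left] at this
  · obtain ⟨⟨w, hw⟩, rfl⟩ := hq.surj v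
    rcases h.L0_cover hq hsimple (Subgroup.mem_centralizer_singleton_iff.1 hw) with h1 | h1
    · exact ⟨⟨w, h1⟩, rfl⟩
    · exact ⟨⟨w * a, h1⟩, hq.eq_iff.2 (Or.inr (show w = w * a * a by rw [mul_assoc, h.aa, mul_one]))⟩

/-- `z` is not central in the derived subgroup. -/
theorem L0_moves_z (hsimple : IsSimpleGroup Q) : ¬ ∀ l ∈ h.L0, l * z = z * l := by
  intro hc
  haveI := hsimple
  have hz : h.zq q ∈ Subgroup.center Q := Subgroup.mem_center_iff.2 fun v => by
    obtain ⟨⟨w, hw⟩, rfl⟩ := hq.surj v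
    have hwa := Subgroup.mem_centralizer_singleton_iff.1 hw
    rw [zq, ← map_mul, ← map_mul]
    refine congrArg q (Subtype.ext ?_)
    show w * z = z * w
    rcases h.L0_cover hq hsimple hwa with h1 | h1
    · exact hc w h1
    · have h2 := hc _ h1
      calc w * z = w * a * z * a := by rw [mul_assoc w a z, h.za, mul_assoc w _ a, mul_assoc z a a, h.aa, mul_one]
        _ = z * w := by rw [h2, mul_assoc z, mul_assoc w a a, h.aa, mul_one]
  have htop : Subgroup.center Q = ⊤ := (Subgroup.Normal.eq_bot_or_eq_top inferInstance).resolve_left fun e =>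
    h.zq_ne_one hq (Subgroup.mem_bot.1 (e ▸ hz))
  have h3 := h.commutator_top hq hsimple
  rw [Subgroup.commutator_eq_bot_iff_le_centralizer.2 (by
    rw [Subgroup.coe_top, Subgroup.centralizer_univ, htop])] at h3
  exact h.zq_ne_one hq (Subgroup.mem_bot.1 (h3 ▸ Subgroup.mem_top _))

/-- The transfer gives a normal subgroup avoiding `a` and meeting its centraliser in the derived subgroup. -/
theorem exists_avoiding (hsimple : IsSimpleGroup Q) (hsw : ∃ s : G, s * z = z * s ∧ s * a ≠ a * s)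
    (ha : a ∉ h.L0) : ∃ G1 : Subgroup G, G1.Normal ∧ h.L0 ≤ G1 ∧ a ∉ G1 ∧
      ∀ x, x * a = a * x → x ∈ G1 → x ∈ h.L0 := by
  classical
  obtain ⟨s, hsz, hsa⟩ := hsw
  haveI : Fact (Nat.Prime 2) := ⟨Nat.prime_two⟩
  set C0 : Subgroup G := ⁅Subgroup.centralizer ({a} : Set G) ⊓ Subgroup.centralizer ({z} : Set G),
    Subgroup.centralizer ({a} : Set G) ⊓ Subgroup.centralizer ({z} : Set G)⁆ with hC0
  have hC0l : C0 ≤ h.L0 := Subgroup.commutator_mono inf_le_left inf_le_left
  have hmemC0 : ∀ {x : G}, x ∈ h.L0 → x * z = z * x → x ∈ C0 := fun hx hxz =>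
    h.cent_inf_le ⟨s, hsz, hsa⟩ ha hx hxz
  have hconj : ∀ c : G, c * z = z * c → ∀ x ∈ Subgroup.centralizer ({a} : Set G) ⊓ Subgroup.centralizer ({z} : Set G),
      c * x * c⁻¹ ∈ Subgroup.centralizer ({a} : Set G) ⊓ Subgroup.centralizer ({z} : Set G) := by
    intro c hc x hx
    have hxa := Subgroup.mem_centralizer_singleton_iff.1 hx.1
    have hxz := Subgroup.mem_centralizer_singleton_iff.1 hx.2
    have h1 : c⁻¹ * z * c = z := by rw [mul_assoc, ← hc, inv_mul_cancel_left]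
    refine ⟨mem_cent_of ?_, mem_cent_of ?_⟩
    · have h2 : x * (c⁻¹ * a * c) = c⁻¹ * a * c * x := by
        have h3 : c⁻¹ * z = z * c⁻¹ := by rw [inv_mul_eq_iff_eq_mul, ← mul_assoc, hc, mul_inv_cancel_right]
        rcases h.conj_a h3 with e | e <;> rw [inv_inv] at e <;> rw [e]
        · exact hxa
        · exact h.centre_comm hxz hxa (Or.inr (Or.inr (Or.inr rfl)))
      calc c * x * c⁻¹ * a = c * (x * (c⁻¹ * a * c)) * c⁻¹ := by group
        _ = a * (c * x * c⁻¹) := by rw [h2]; group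
    · calc c * x * c⁻¹ * z = c * (x * (c⁻¹ * z * c)) * c⁻¹ := by group
        _ = c * (c⁻¹ * z * c * x) * c⁻¹ := by rw [h1, hxz]
        _ = z * (c * x * c⁻¹) := by group
  have hC0conj : ∀ c : G, c * z = z * c → ∀ x ∈ C0, c * x * c⁻¹ ∈ C0 := by
    intro c hc x hx
    have h1 : C0.map (MulAut.conj c).toMonoidHom ≤ C0 := by
      rw [hC0, Subgroup.map_commutator]
      refine Subgroup.commutator_mono ?_ ?_ <;> rintro _ ⟨y, hy, rfl⟩ <;> exact hconj c hc y hy
    exact h1 ⟨x, hx, rfl⟩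
  haveI hN : (C0.subgroupOf (Subgroup.centralizer ({z} : Set G))).Normal :=
    ⟨fun x hx c => hC0conj _ (Subgroup.mem_centralizer_singleton_iff.1 c.2) _ hx⟩
  let mk := QuotientGroup.mk' (C0.subgroupOf (Subgroup.centralizer ({z} : Set G)))
  let A : ↥(Subgroup.centralizer ({z} : Set G)) := ⟨a, mem_cent_of h.za⟩
  let S' : ↥(Subgroup.centralizer ({z} : Set G)) := ⟨s, mem_cent_of hsz⟩
  have hAc : ∀ c, Commute (mk A) (mk c) := fun c => by
    rw [commute_iff_eq, ← map_mul, ← map_mul]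
    refine QuotientGroup.eq.2 (Subgroup.mem_subgroupOf.2 ?_)
    show (a * (c : G))⁻¹ * ((c : G) * a) ∈ C0
    rcases h.conj_a (Subgroup.mem_centralizer_singleton_iff.1 c.2) with e | e
    · rw [show a * (c : G) = c * a from (mul_inv_eq_iff_eq_mul.1 e).symm, inv_mul_cancel]
      exact one_mem _
    · rw [show (c : G) * a = z * a * c from mul_inv_eq_iff_eq_mul.1 e,
        show (a * (c : G))⁻¹ * (z * a * c) = (c : G)⁻¹ * (a⁻¹ * (z * a)) * c by group,
        show a⁻¹ * (z * a) = z by rw [← h.za, inv_mul_cancel_left],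
        mul_assoc, ← Subgroup.mem_centralizer_singleton_iff.1 c.2, inv_mul_cancel_left]
      exact hmemC0 h.z_mem_L0 rfl
  have hfix : ∀ c : ↥(Subgroup.centralizer ({z} : Set G)), (c : G) * a = a * c → mk c = 1 ∨ mk c = mk A := by
    intro c hc
    have hcz := Subgroup.mem_centralizer_singleton_iff.1 c.2
    rcases h.L0_cover hq hsimple hc with h1 | h1
    · exact Or.inl ((QuotientGroup.eq_one_iff _).2 (hmemC0 h1 hcz))
    · refine Or.inr (QuotientGroup.eq.2 (Subgroup.mem_subgroupOf.2 ?_))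
      show (c : G)⁻¹ * a ∈ C0
      have h2 : (c : G) * a * z = z * ((c : G) * a) := by rw [mul_assoc, h.za, ← mul_assoc, hcz, mul_assoc]
      have h3 := inv_mem (hmemC0 h1 h2)
      rwa [mul_inv_rev, inv_eq_of_mul_eq_one_right h.aa,
        show a * (c : G)⁻¹ = (c : G)⁻¹ * a by rw [eq_inv_mul_iff_mul_eq, ← mul_assoc, hc, mul_inv_cancel_right]] at h3
  have hgen : ∀ c, ∃ u v, (u = 1 ∨ u = mk A) ∧ (v = 1 ∨ v = mk S') ∧ mk c = u * v := by
    intro c
    by_cases hc : (c : G) * a = a * c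
    · exact ⟨mk c, 1, hfix c hc, Or.inl rfl, (mul_one _).symm⟩
    · refine ⟨mk (c * S'⁻¹), mk S', hfix _ ?_, Or.inr rfl, by rw [← map_mul, inv_mul_cancel_right]⟩
      refine h.mul_comm_a (Subgroup.mem_centralizer_singleton_iff.1 c.2)
        (Subgroup.mem_centralizer_singleton_iff.1 (S'⁻¹).2) hc fun e => hsa ?_
      have e' : s⁻¹ * a = a * s⁻¹ := e
      rw [inv_mul_eq_iff_eq_mul, ← mul_assoc, eq_mul_inv_iff_mul_eq] at e'
      exact e'.symm
  letI instA : CommGroup (↥(Subgroup.centralizer ({z} : Set G)) ⧸ C0.subgroupOf (Subgroup.centralizer ({z} : Set G))) :=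
    { QuotientGroup.Quotient.group _ with
      mul_comm := fun x y => by
        obtain ⟨c, rfl⟩ := QuotientGroup.mk'_surjective _ x
        obtain ⟨d, rfl⟩ := QuotientGroup.mk'_surjective _ y
        obtain ⟨u, v, hu, hv, e⟩ := hgen c
        obtain ⟨u', v', hu', hv', e'⟩ := hgen d
        change mk c * mk d = mk d * mk c
        rw [e, e']
        have huc : ∀ u, (u = 1 ∨ u = mk A) → ∀ c, Commute u (mk c) := fun u hu c => by
          rcases hu with rfl | rfl
          · exact Commute.one_left _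
          · exact hAc c
        have hvv : Commute v v' := by
          rcases hv with rfl | rfl
          · exact Commute.one_left _
          · rcases hv' with rfl | rfl
            · exact Commute.one_right _
            · exact Commute.refl _
        have h1 : Commute u v' := by
          rcases hv' with rfl | rfl
          · exact Commute.one_right _
          · exact huc u hu _
        have h2 : Commute u' v := by
          rcases hv with rfl | rfl
          · exact Commute.one_right _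
          · exact huc u' hu' _
        have h3 : Commute u u' := by
          rcases hu' with rfl | rfl
          · exact Commute.one_right _
          · exact huc u hu _
        exact ((h3.mul_right h1).mul_left (h2.symm.mul_right hvv)).eq }
  obtain ⟨P, hJP, hPz⟩ := h.exists_sylow (X := ⊤) le_top
  let S : Sylow 2 G := Sylow.ofCard ((P : Subgroup ↥(⊤ : Subgroup G)).map (⊤ : Subgroup G).subtype) (by
    rw [Subgroup.card_map_of_injective (Subgroup.subtype_injective _), P.card_eq_multiplicity, Subgroup.card_top])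
  have hSz : (S : Subgroup G) ≤ Subgroup.centralizer ({z} : Set G) := hPz
  let φ := (QuotientGroup.mk' (C0.subgroupOf (Subgroup.centralizer ({z} : Set G)))).comp (Subgroup.inclusion hSz)
  have hzφ : mk ⟨z, mem_cent_of rfl⟩ = 1 := (QuotientGroup.eq_one_iff _).2 (hmemC0 h.z_mem_L0 rfl)
  have hV : MonoidHom.transfer φ a = mk A := by
    refine transfer_extremal S φ h.aa (by
      rw [pow_two, ← map_mul, show A * A = 1 from Subtype.ext h.aa, map_one])
      (IsPGroup.of_card (p := 2) (n := 10) (by rw [h.card_J]; rfl)) h.a_mem h.a_cent ?_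
    intro g hg hm
    have hgz : g * z = z * g := by
      have hc : ∀ j ∈ J, g * z * g⁻¹ * j = j * (g * z * g⁻¹) := fun j hj => by
        have h1 := Subgroup.mem_centralizer_singleton_iff.1 (hSz (hg j hj))
        calc g * z * g⁻¹ * j = g * (z * (g⁻¹ * j * g)) * g⁻¹ := by group
          _ = j * (g * z * g⁻¹) := by rw [← h1]; group
      exact mul_inv_eq_iff_eq_mul.1 (h.conj_eq_of_centre (h.centre (h.cent_le hc) hc))
    have hgz' : g⁻¹ * z = z * g⁻¹ := by rw [inv_mul_eq_iff_eq_mul, ← mul_assoc, hgz, mul_inv_cancel_right]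
    rcases h.conj_a hgz' with e | e <;> rw [inv_inv] at e
    · show mk ⟨g⁻¹ * a * g, _⟩ = mk A
      exact congrArg mk (Subtype.ext e)
    · show mk ⟨g⁻¹ * a * g, _⟩ = mk A
      rw [show (⟨g⁻¹ * a * g, hSz hm⟩ : ↥(Subgroup.centralizer ({z} : Set G))) = ⟨z, mem_cent_of rfl⟩ * A from
        Subtype.ext e, map_mul, hzφ, one_mul]
  have hA : mk A ≠ 1 := fun e => ha (hC0l ((QuotientGroup.eq_one_iff A).1 e))
  have hperf : h.L0 ≤ (MonoidHom.transfer φ).ker := by
    rw [← h.L0_perfect hq hsimple ha]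
    exact Subgroup.commutator_le.2 fun x _ y _ => MonoidHom.mem_ker.2 (by
      rw [map_commutatorElement, commutatorElement_eq_one_iff_mul_comm]
      exact mul_comm _ _)
  refine ⟨(MonoidHom.transfer φ).ker, inferInstance, hperf, fun e => hA (hV.symm.trans e), fun x hxa hx => ?_⟩
  rcases h.L0_cover hq hsimple hxa with h1 | h1
  · exact h1
  · exfalso
    refine hA (hV.symm.trans ?_)
    have h2 : MonoidHom.transfer φ (x * a) = 1 := hperf h1
    rwa [map_mul, MonoidHom.mem_ker.1 hx, one_mul] at h2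

/-- No such subgroup exists, given the recognition of its centraliser of `z`. -/
theorem avoiding_absurd (hsimple : IsSimpleGroup Q) (hcard : Nat.card Q = 9196830720)
    (hsw : ∃ s : G, s * z = z * s ∧ s * a ≠ a * s) (ha : a ∉ h.L0) {G1 : Subgroup G} (hn : G1.Normal)
    (hl : h.L0 ≤ G1)
    (hrec : SplitAt z G1 ∨ ∃ U : Subgroup G, U ≤ G1 ∧ (∀ x ∈ G1, ∀ y ∈ G1, x ∉ U → y ∉ U → x * y ∈ U) ∧
      Nat.card U = 9196830720) : False := by
  classical
  haveI := hsimple
  rcases hrec with ⟨O, hOG, hodd, hOn, hdec⟩ | ⟨U, hUG, hpar, hUc⟩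
  · refine h.L0_moves_z hq hsimple fun l hlm => ?_
    set N := ((h.L0 ⊓ O).subgroupOf (Subgroup.centralizer ({a} : Set G))).map q with hNdef
    haveI hN : N.Normal := ⟨fun v hv w => by
      obtain ⟨y, hy, rfl⟩ := hv
      obtain ⟨⟨w, hw⟩, rfl⟩ := hq.surj w
      have hyL : (y : G) ∈ h.L0 ∧ (y : G) ∈ O := hy
      have key : ∀ c ∈ h.L0, c * (y : G) * c⁻¹ ∈ h.L0 ⊓ O := fun c hc =>
        Subgroup.mem_inf.2 ⟨h.L0.mul_mem (h.L0.mul_mem hc hyL.1) (h.L0.inv_mem hc), hOn c (hl hc) _ hyL.2⟩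
      have hwa := Subgroup.mem_centralizer_singleton_iff.1 hw
      rcases h.L0_cover hq hsimple hwa with h1 | h1
      · exact ⟨⟨w, hw⟩ * y * ⟨w, hw⟩⁻¹, key w h1, by rw [map_mul, map_mul, map_inv]⟩
      · refine ⟨⟨w, hw⟩ * y * ⟨w, hw⟩⁻¹, ?_, by rw [map_mul, map_mul, map_inv]⟩
        show w * (y : G) * w⁻¹ ∈ h.L0 ⊓ O
        convert key _ h1 using 1
        have hya := Subgroup.mem_centralizer_singleton_iff.1 y.2
        calc w * (y : G) * w⁻¹ = w * ((y : G) * a) * a⁻¹ * w⁻¹ := by group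
          _ = w * a * (y : G) * (w * a)⁻¹ := by rw [hya]; group⟩
    have hbot : N = ⊥ := hN.eq_bot_or_eq_top.resolve_right fun e => by
      have h1 : Nat.card N ∣ Nat.card ↥(h.L0 ⊓ O) := by
        rw [← Nat.card_congr (Subgroup.subgroupOfEquivOfLe
          ((inf_le_left : h.L0 ⊓ O ≤ h.L0).trans h.L0_le)).toEquiv]
        exact Subgroup.card_dvd_of_surjective _ (MonoidHom.subgroupMap_surjective q _)
      rw [e, Subgroup.card_top, hcard] at h1
      have h3 : Odd 9196830720 :=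
        hodd.of_dvd_nat (h1.trans (Subgroup.card_dvd_of_le (inf_le_right : h.L0 ⊓ O ≤ O)))
      exact absurd h3 (by norm_num [Nat.odd_iff])
    have htriv : ∀ o ∈ h.L0, o ∈ O → o = 1 := fun o ho hoO => by
      have h1 : q ⟨o, h.L0_le ho⟩ ∈ N := ⟨_, (⟨ho, hoO⟩ : o ∈ h.L0 ⊓ O), rfl⟩
      rw [hbot, Subgroup.mem_bot] at h1
      rcases (hq.ker _).1 h1 with e | e <;> change o = _ at e
      · exact e
      · exact absurd (e ▸ ho) ha
    obtain ⟨c, hcz, o, ho, e⟩ := hdec l (hl hlm)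
    have hzl := h.z_mem_L0
    have hmemO : l * z * l⁻¹ * z⁻¹ ∈ O := by
      have hco : c ∈ G1 := by
        have := mul_mem (hl hlm) (inv_mem (hOG ho))
        rwa [e, mul_inv_cancel_right] at this
      have h1 : c * (o * (z * o⁻¹ * z⁻¹)) * c⁻¹ ∈ O := hOn c hco _ (mul_mem ho (hOn z (hl hzl) _ (inv_mem ho)))
      convert h1 using 1
      have hcz' : c⁻¹ * z⁻¹ = z⁻¹ * c⁻¹ := by rw [← mul_inv_rev, ← mul_inv_rev, hcz]
      calc l * z * l⁻¹ * z⁻¹ = c * o * z * o⁻¹ * (c⁻¹ * z⁻¹) := by rw [e]; group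
        _ = _ := by rw [hcz']; group
    have h2 := htriv _ (mul_mem (mul_mem (mul_mem hlm hzl) (inv_mem hlm)) (inv_mem hzl)) hmemO
    rw [mul_inv_eq_one, mul_inv_eq_iff_eq_mul] at h2
    exact h2
  · have hnU : ∀ x ∈ G1, ∀ y ∈ G1, ⁅x, y⁆ ∈ U := by
      have hmul : ∀ x ∈ G1, ∀ y ∈ G1, (x * y ∈ U ↔ (x ∈ U ↔ y ∈ U)) := by
        intro x hx y hy
        by_cases h1 : x ∈ U
        · simp [h1, Subgroup.mul_mem_cancel_left U h1]
        · by_cases h2 : y ∈ U
          · simp [h1, h2, Subgroup.mul_mem_cancel_right U h2]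
          · simp [h1, h2, hpar x hx y hy h1 h2]
      intro x hx y hy
      rw [commutatorElement_def, hmul _ (mul_mem (mul_mem hx hy) (inv_mem hx)) _ (inv_mem hy),
        hmul _ (mul_mem hx hy) _ (inv_mem hx), hmul _ hx _ hy, inv_mem_iff, inv_mem_iff]
      tauto
    have hperf := h.L0_perfect hq hsimple ha
    have heq : h.L0 = U := Subgroup.eq_of_le_of_card_ge (by
      rw [← hperf]; exact Subgroup.commutator_le.2 fun x hx y hy => hnU x (hl hx) y (hl hy))
      (by rw [h.card_L0 hq hsimple ha, hcard, hUc])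
    have hconj : ∀ g : G, ∀ l ∈ h.L0, g * l * g⁻¹ ∈ h.L0 := by
      intro g
      have h1 : h.L0.map (MulAut.conj g).toMonoidHom ≤ h.L0 := by
        have hG1 : h.L0.map (MulAut.conj g).toMonoidHom ≤ G1 := by
          rintro _ ⟨l, hlm, rfl⟩; exact hn.conj_mem _ (hl hlm) g
        conv_lhs => rw [← hperf, Subgroup.map_commutator]
        conv_rhs => rw [heq]
        exact Subgroup.commutator_le.2 fun x hx y hy => hnU x (hG1 hx) y (hG1 hy)
      exact fun l hlm => h1 ⟨l, hlm, rfl⟩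
    obtain ⟨s, hsz, hsa⟩ := hsw
    have hs := h.swap_of_not_comm hsz hsa
    have hza : ∀ l ∈ h.L0, l * (z * a) = z * a * l := by
      intro l hlm
      have h2 := Subgroup.mem_centralizer_singleton_iff.1 (h.L0_le (hconj s⁻¹ l hlm))
      rw [inv_inv] at h2
      rw [← hs]
      calc l * (s * a * s⁻¹) = s * (s⁻¹ * l * s * a) * s⁻¹ := by group
        _ = s * a * s⁻¹ * l := by rw [h2]; group
    refine h.L0_moves_z hq hsimple fun l hlm => ?_
    have hla := Subgroup.mem_centralizer_singleton_iff.1 (h.L0_le hlm)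
    have h2 := hza l hlm
    rw [← mul_assoc, mul_assoc z a l, ← hla, ← mul_assoc] at h2
    exact mul_right_cancel h2

end Setting

end CfsgLib.Recognition.USixCentral
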