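import Cfsg.Agent.Lib.Recognition.USixCentral.Modulo
import Cfsg.Agent.Lib.Recognition.USixTwo.Component
import Cfsg.Agent.Lib.Recognition.USixTwoOuter.Isolated
import Cfsg.Agent.Lib.ThreeTransp.Simplicity

/-!
# A conjugate of `z` over a point when the centraliser of `a` modulo `a` contains `U₆(2)`
-/

set_option autoImplicit false
set_option linter.unusedSectionVars false

namespace CfsgLib.Recognition.USixCentral

open CfsgLib.Recognition.USixTwo
open CfsgLib.Sporadic.LargeFischer (D4 om nzd)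

variable {G : Type*} [Group G] [Finite G]

namespace Setting

variable {z a : G} {J : Subgroup G} {π : G → V4} {ψ : ↥(Subgroup.centralizer ({z} : Set G)) →* (V4 ≃ₗ[ZMod 2] V4)}
  (h : Setting z a J π ψ)
include h

theorem mem_parity {Q : Type*} [Group Q] [Finite Q] {U : Subgroup Q} (hidx : U.index ≤ 2) {x y : Q} (hx : x ∉ U)
    (hy : y ∉ U) : x * y ∈ U := by
  rcases Nat.lt_or_ge U.index 2 with hlt | hge
  · exfalso
    have h1 : U.index = 1 := by
      have := Subgroup.index_ne_zero_of_finite (H := U)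
      omega
    exact hx ((Subgroup.index_eq_one.1 h1) ▸ Subgroup.mem_top x)
  · exact (Subgroup.mul_mem_iff_of_index_two (le_antisymm hidx hge)).2 (iff_of_false hx hy)

variable {Q : Type*} [Group Q] {q : ↥(Subgroup.centralizer ({a} : Set G)) →* Q} (hq : Onto a q)
include hq

/-- The image of `z` has a conjugate at every point, with large centraliser in `J`. -/
theorem unit_member {U : Subgroup Q} (hidx : U.index ≤ 2) (hsimple : IsSimpleGroup ↥U)
    (hcard : Nat.card ↥U = 9196830720) :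
    ∃ u : G, u * a = a * u ∧ ∃ hy : u * z * u⁻¹ * z = z * (u * z * u⁻¹),
      ψ ⟨u * z * u⁻¹, Subgroup.mem_centralizer_singleton_iff.2 hy⟩ = tv v0 ∧
      256 ≤ Nat.card ↥(J ⊓ Subgroup.centralizer ({u * z * u⁻¹} : Set G)) := by
  classical
  haveI : Finite Q := Finite.of_surjective q hq.surj
  haveI := hsimple
  haveI hUn : U.Normal := by
    rcases Nat.lt_or_ge U.index 2 with hlt | hge
    · have h1 : U.index = 1 := by
        have := Subgroup.index_ne_zero_of_finite (H := U)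
        omega
      rw [Subgroup.index_eq_one.1 h1]; infer_instance
    · exact Subgroup.normal_of_index_eq_two (le_antisymm hidx hge)
  set qj : ∀ j ∈ J, Q := fun j hj => q ⟨j, h.J_le_cent_a hj⟩ with hqj
  have hca : ∀ c : ↥(Subgroup.centralizer ({z} : Set G)), ψ c ∈ TG → (c : G) ∈ Subgroup.centralizer ({a} : Set G) :=
    fun c hc => mem_cent_of (h.fix_a hc)
  -- `J` goes into `U`
  let W : AddSubgroup V4 :=
    { carrier := {v | ∃ j, ∃ hj : j ∈ J, π j = v ∧ qj j hj ∈ U}
      zero_mem' := ⟨1, one_mem _, h.π_one, by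
        show q _ ∈ U
        rw [show (⟨1, h.J_le_cent_a (one_mem _)⟩ : ↥(Subgroup.centralizer ({a} : Set G))) = 1 from rfl, map_one]
        exact one_mem _⟩
      add_mem' := by
        rintro _ _ ⟨j, hj, rfl, hju⟩ ⟨k, hk, rfl, hku⟩
        refine ⟨j * k, mul_mem hj hk, h.π_mul j hj k hk, ?_⟩
        have := mul_mem hju hku
        rwa [show qj j hj * qj k hk = qj (j * k) (mul_mem hj hk) from (map_mul q _ _).symm] at this
      neg_mem' := by
        rintro v ⟨j, hj, rfl, hju⟩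
        exact ⟨j, hj, funext fun i => (CharTwo.neg_eq _).symm, hju⟩ }
  have hWinv : ∀ g ∈ TG, ∀ v ∈ W, g v ∈ W := by
    rintro g hg _ ⟨j, hj, rfl, hju⟩
    obtain ⟨c, rfl⟩ := h.outer.tg hg
    refine ⟨_, h.norm c (Subgroup.mem_centralizer_singleton_iff.1 c.2) j hj, h.act c j hj, ?_⟩
    have := hUn.conj_mem _ hju (q ⟨c, hca c hg⟩)
    rw [← map_inv, ← map_mul, ← map_mul] at this
    exact this
  have hWall : ∀ v, v ∈ W := by
    obtain ⟨v₁, hv₁, v₂, hv₂, hne⟩ : ∃ v₁, v₁ ≠ (0 : V4) ∧ ∃ v₂, v₂ ≠ 0 ∧ v₁ ≠ v₂ := by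
      refine ⟨ev 0, ev0_ne, v0, v0_facts.2, ?_⟩
      intro e
      have := congrArg q4 e
      rw [q_ev, v0_facts.1] at this
      exact absurd this (by decide)
    obtain ⟨j, hj, ej⟩ := h.π_surj v₁
    obtain ⟨k, hk, ek⟩ := h.π_surj v₂
    intro v
    by_cases hju : qj j hj ∈ U
    · exact mem_of_invariant hWinv (x := v₁) ⟨j, hj, ej, hju⟩ hv₁ v
    by_cases hku : qj k hk ∈ U
    · exact mem_of_invariant hWinv (x := v₂) ⟨k, hk, ek, hku⟩ hv₂ v
    refine mem_of_invariant hWinv (x := v₁ + v₂) ⟨j * k, mul_mem hj hk, by rw [h.π_mul j hj k hk, ej, ek], ?_⟩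
      (fun e => hne ?_) v
    · have := h.mem_parity hidx hju hku
      rwa [show qj j hj * qj k hk = qj (j * k) (mul_mem hj hk) from (map_mul q _ _).symm] at this
    · calc v₁ = v₁ + v₂ + v₂ := by rw [add_assoc, add_self_V4, add_zero]
        _ = v₂ := by rw [e, zero_add]
  have hzU : h.zq q ∈ U := by
    obtain ⟨v, hv⟩ : ∃ v, bs4 (ev 0) v ≠ 0 := by
      by_contra hc
      push Not at hc
      exact ev0_ne (bs4_nondeg hc)
    obtain ⟨j, hj, ej, hju⟩ := hWall (ev 0)
    obtain ⟨k, hk, ek, hku⟩ := hWall v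
    have hc : j * k = z * (k * j) :=
      (h.comm_cases hj hk).resolve_left fun e => hv (by rw [← ej, ← ek]; exact (h.comm_iff hj hk).1 e)
    have := mul_mem (mul_mem hju hku) (inv_mem (mul_mem hku hju))
    simp only [hqj, ← map_mul, ← map_inv] at this
    show q _ ∈ U
    convert this using 2
    apply Subtype.ext
    show z = j * k * (k * j)⁻¹
    rw [hc, mul_inv_cancel_right]
  have hJU : h.Jq q ≤ U := by
    intro x hx
    obtain ⟨j, hj, rfl⟩ := h.exists_of_Jq hq hx
    obtain ⟨k, hk, ek, hku⟩ := hWall (π j)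
    have hm := mul_mem (inv_mem hk) hj
    have hc : q ⟨k⁻¹ * j, h.J_le_cent_a hm⟩ ∈ U := by
      rcases h.π_eq hk hj ek with e | e | e | e
      · rw [(hq.ker _).2 (Or.inl e)]; exact one_mem _
      · rw [show (⟨k⁻¹ * j, h.J_le_cent_a hm⟩ : ↥(Subgroup.centralizer ({a} : Set G))) = ⟨z, h.z_mem_cent⟩ from
          Subtype.ext e]
        exact hzU
      · rw [(hq.ker _).2 (Or.inr e)]; exact one_mem _
      · rw [(hq.eq_iff (x := ⟨k⁻¹ * j, h.J_le_cent_a hm⟩) (y := ⟨z, h.z_mem_cent⟩)).2 (Or.inr (show z = k⁻¹ * j * a by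
          rw [e, mul_assoc, h.aa, mul_one]))]
        exact hzU
    have := mul_mem hku hc
    simp only [hqj, ← map_mul] at this
    convert this using 2
    exact Subtype.ext (by show j = k * (k⁻¹ * j); group)
  -- the action on the centraliser in `U`
  set zU : ↥U := ⟨h.zq q, hzU⟩ with hzUdef
  choose lift hlift using hq.surj
  have hliftz : ∀ x : ↥(Subgroup.centralizer ({zU} : Set ↥U)),
      ((lift ((x : ↥U) : Q)) : G) ∈ Subgroup.centralizer ({z} : Set G) := fun x =>
    Subgroup.mem_centralizer_singleton_iff.2 (h.comm_of_comm_q hq (by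
      rw [hlift]
      exact congrArg Subtype.val (Subgroup.mem_centralizer_singleton_iff.1 x.2)))
  have hwell : ∀ (x : ↥(Subgroup.centralizer ({z} : Set G))) (y : ↥(Subgroup.centralizer ({z} : Set G)))
      (hx : (x : G) ∈ Subgroup.centralizer ({a} : Set G)) (hy : (y : G) ∈ Subgroup.centralizer ({a} : Set G)),
      q ⟨x, hx⟩ = q ⟨y, hy⟩ → ψ x = ψ y := by
    intro x y hx hy e
    rcases hq.eq_iff.1 e with e' | e'
    · exact congrArg ψ (Subtype.ext e'.symm)
    · rw [show y = x * ⟨a, h.le_cent h.a_mem⟩ from Subtype.ext e', map_mul, (h.ker ⟨a, _⟩).2 h.a_mem, mul_one]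
  let ψU : ↥(Subgroup.centralizer ({zU} : Set ↥U)) →* (V4 ≃ₗ[ZMod 2] V4) :=
    MonoidHom.mk' (fun x => ψ ⟨_, hliftz x⟩) fun x y => by
      show ψ _ = ψ _ * ψ _
      rw [← map_mul]
      refine hwell _ _ (lift _).2 (mul_mem (lift _).2 (lift _).2) ?_
      show q (lift _) = q (lift _ * lift _)
      rw [map_mul, hlift, hlift, hlift]
      rfl
  have hψU : ∀ (x : ↥(Subgroup.centralizer ({zU} : Set ↥U))) (c : ↥(Subgroup.centralizer ({z} : Set G)))
      (hc : (c : G) ∈ Subgroup.centralizer ({a} : Set G)), q ⟨c, hc⟩ = ((x : ↥U) : Q) → ψU x = ψ c :=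
    fun x c hc e => hwell _ _ (lift _).2 hc ((hlift _).trans e.symm)
  let πU : ↥U → V4 := fun x => π (lift (x : Q) : G)
  have hliftJ : ∀ x : ↥U, (x : Q) ∈ h.Jq q → ((lift (x : Q)) : G) ∈ J := fun x hx =>
    (h.mem_Jq hq).1 (by rw [hlift]; exact hx)
  have hπU : ∀ (x : ↥U) (j : G) (hj : j ∈ J), q ⟨j, h.J_le_cent_a hj⟩ = (x : Q) → πU x = π j := by
    intro x j hj e
    have hx : (x : Q) ∈ h.Jq q := e ▸ (h.mem_Jq hq).2 hj
    rcases hq.eq_iff.1 ((hlift _).trans e.symm) with e' | e'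
    · show π (lift (x : Q) : G) = π j
      rw [show j = ((lift (x : Q)) : G) from e']
    · show π (lift (x : Q) : G) = π j
      rw [show j = ((lift (x : Q)) : G) * a from e', h.π_mul _ (hliftJ x hx) a h.a_mem, h.π_a, add_zero]
  set JU : Subgroup ↥U := (h.Jq q).subgroupOf U with hJUdef
  have hJUmap : JU.map U.subtype = h.Jq q := by
    rw [hJUdef, Subgroup.map_subgroupOf_eq_of_le hJU]
  -- the range
  have hTGr : TG ≤ ψU.range := by
    let M : Subgroup (V4 ≃ₗ[ZMod 2] V4) :=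
      { carrier := {g | ∃ c : ↥(Subgroup.centralizer ({z} : Set G)), ∃ hc : (c : G) ∈ Subgroup.centralizer ({a} : Set G),
          ψ c = g ∧ q ⟨c, hc⟩ ∈ U}
        one_mem' := ⟨1, one_mem _, map_one ψ, by
          rw [show (⟨(1 : ↥(Subgroup.centralizer ({z} : Set G))), one_mem _⟩ : ↥(Subgroup.centralizer ({a} : Set G))) = 1 from rfl, map_one]
          exact one_mem _⟩
        mul_mem' := by
          rintro _ _ ⟨c, hc, rfl, hcu⟩ ⟨d, hd, rfl, hdu⟩
          refine ⟨c * d, mul_mem hc hd, map_mul ψ c d, ?_⟩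
          have := mul_mem hcu hdu
          rwa [← map_mul] at this
        inv_mem' := by
          rintro _ ⟨c, hc, rfl, hcu⟩
          refine ⟨c⁻¹, inv_mem hc, map_inv ψ c, ?_⟩
          have := inv_mem hcu
          rwa [← map_inv] at this }
    have hM : TG ≤ M := by
      refine TG_le_of_parity (K := ((Subgroup.centralizer ({a} : Set G)).subgroupOf
        (Subgroup.centralizer ({z} : Set G))).map ψ) (fun g hg => ?_) ?_
      · obtain ⟨c, rfl⟩ := h.outer.tg hg
        exact ⟨c, hca c hg, rfl⟩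
      · rintro _ ⟨c, hc, rfl⟩ _ ⟨d, hd, rfl⟩ hcM hdM
        refine ⟨c * d, mul_mem hc hd, map_mul ψ c d, ?_⟩
        have := h.mem_parity hidx (fun e => hcM ⟨c, hc, rfl, e⟩) (fun e => hdM ⟨d, hd, rfl, e⟩)
        rwa [← map_mul] at this
    intro g hg
    obtain ⟨c, hc, rfl, hcu⟩ := hM hg
    refine ⟨⟨⟨q ⟨c, hc⟩, hcu⟩, Subgroup.mem_centralizer_singleton_iff.2 (Subtype.ext ?_)⟩, hψU _ c hc rfl⟩
    show q ⟨c, hc⟩ * q ⟨z, _⟩ = q ⟨z, _⟩ * q ⟨c, hc⟩
    rw [← map_mul, ← map_mul]
    exact congrArg q (Subtype.ext (Subgroup.mem_centralizer_singleton_iff.1 c.2))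
  have hkerU : ∀ x : ↥(Subgroup.centralizer ({zU} : Set ↥U)), ψU x = 1 ↔ (x : ↥U) ∈ JU := by
    intro x
    rw [show ψU x = ψ ⟨_, hliftz x⟩ from rfl, h.ker, ← h.mem_Jq hq, hlift]
    rfl
  have hcard_r : Nat.card ↥(Subgroup.centralizer ({zU} : Set ↥U)) = 512 * Nat.card ψU.range := by
    have h1 := ψU.ker.card_mul_index
    rw [Subgroup.index_ker] at h1
    rw [← h1]
    congr 1
    rw [← h.card_Jq hq, ← hJUmap, Subgroup.card_map_of_injective U.subtype_injective]
    refine Nat.card_congr ⟨fun x => ⟨x.1.1, (hkerU x.1).1 x.2⟩,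
      fun x => ⟨⟨x.1, Subgroup.mem_centralizer_singleton_iff.2 (Subtype.ext ?_)⟩, (hkerU _).2 x.2⟩,
      fun x => rfl, fun x => rfl⟩
    obtain ⟨j, hj, e⟩ := h.exists_of_Jq hq x.2
    show ((x.1 : ↥U) : Q) * h.zq q = h.zq q * ((x.1 : ↥U) : Q)
    rw [show ((x.1 : ↥U) : Q) = q ⟨j, h.J_le_cent_a hj⟩ from e.symm, zq, ← map_mul, ← map_mul]
    exact congrArg q (Subtype.ext (h.z_cent j hj))
  haveI := gl_finite
  have hrle : ψU.range ≤ ψ.range := by
    rintro _ ⟨x, rfl⟩; exact ⟨_, rfl⟩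
  have hrTG : ψU.range = TG := by
    refine le_antisymm (fun g hg => ?_) hTGr
    by_contra hgTG
    have heq : ψU.range = ψ.range := by
      refine le_antisymm hrle fun k hk => ?_
      by_cases hk' : k ∈ TG
      · exact hTGr hk'
      · have := mul_mem (inv_mem hg) (hTGr (h.outer.mul_outer (hrle hg) hk hgTG hk'))
        rwa [inv_mul_cancel_left] at this
    rw [heq, h.outer.card] at hcard_r
    have hd : 512 * 51840 ∣ 9196830720 := hcard ▸ hcard_r ▸ Subgroup.card_subgroup_dvd_card _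
    norm_num at hd
  have hE : CfsgLib.ThreeTransp.Extraspecial.Extra JU zU := by
    have e := h.extra_Jq hq
    let eq' : ↥JU ≃* ↥(h.Jq q) := Subgroup.subgroupOfEquivOfLe hJU
    refine CfsgLib.ThreeTransp.Extraspecial.Extra.of_center
      (CfsgLib.ThreeTransp.Simplicity.isExtraspecial_of_equiv eq'.symm e.ext) ?_
    refine Subgroup.map_injective U.subtype_injective ?_
    rw [MonoidHom.map_zpowers, show U.subtype zU = h.zq q from rfl, ← e.center_eq, Subgroup.map_map]
    ext x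
    constructor
    · rintro ⟨w, hw, rfl⟩
      exact ⟨eq' w, by
        rw [SetLike.mem_coe, Subgroup.mem_center_iff]
        intro y
        obtain ⟨y', rfl⟩ := eq'.surjective y
        rw [← map_mul, ← map_mul, Subgroup.mem_center_iff.1 hw y'], rfl⟩
    · rintro ⟨w, hw, rfl⟩
      obtain ⟨w', rfl⟩ := eq'.surjective w
      refine ⟨w', ?_, rfl⟩
      rw [SetLike.mem_coe, Subgroup.mem_center_iff]
      intro y
      apply eq'.injective
      rw [map_mul, map_mul, Subgroup.mem_center_iff.1 hw (eq' y)]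
  have hcore : Core zU JU πU ψU := by
    refine ⟨(orderOf_injective U.subtype U.subtype_injective zU).symm.trans (h.ord_zq hq), hE, ?_, ?_, ?_, ?_, ?_, ?_, ?_,
      ?_, hkerU, ⟨hrTG ▸ TG_le, by rw [hrTG, h.outer.model.card]⟩⟩
    · rw [← Subgroup.card_map_of_injective U.subtype_injective, hJUmap, h.card_Jq hq]
    · intro c hc x hx
      obtain ⟨j, hj, e⟩ := h.exists_of_Jq hq hx
      have hcz := h.comm_of_comm_q hq (x := lift (c : Q)) (by rw [hlift]; exact congrArg Subtype.val hc)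
      show (((c * x * c⁻¹ : ↥U)) : Q) ∈ h.Jq q
      rw [show (((c * x * c⁻¹ : ↥U)) : Q) = q (lift (c : Q) * ⟨j, h.J_le_cent_a hj⟩ * (lift (c : Q))⁻¹) by
        rw [map_mul, map_mul, map_inv, hlift, e]; rfl, h.mem_Jq hq]
      exact h.norm _ hcz j hj
    · intro c hc
      have hcz : (c : ↥U) * zU = zU * c := hc zU (h.zq_mem hq)
      have hcz' := h.comm_of_comm_q hq (x := lift (c : Q)) (by rw [hlift]; exact congrArg Subtype.val hcz)
      refine (hkerU ⟨c, Subgroup.mem_centralizer_singleton_iff.2 hcz⟩).1 (LinearEquiv.ext fun v => ?_)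
      obtain ⟨j, hj, rfl⟩ := h.π_surj v
      show ψ ⟨_, _⟩ (π j) = π j
      rw [← h.act _ j hj]
      show π ((lift (c : Q) : G) * j * (lift (c : Q) : G)⁻¹) = π j
      have e := congrArg Subtype.val (hc ⟨q ⟨j, h.J_le_cent_a hj⟩, hJU ((h.mem_Jq hq).2 hj)⟩ ((h.mem_Jq hq).2 hj))
      change (c : Q) * q _ = q _ * (c : Q) at e
      rw [← hlift (c : Q), ← map_mul, ← map_mul, hq.eq_iff] at e
      simp only [Subgroup.coe_mul] at e
      rcases e with e | e
      · rw [← e, mul_inv_cancel_right]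
      · rw [show (lift (c : Q) : G) * j * (lift (c : Q) : G)⁻¹ = j * a by
          have : j * (lift (c : Q) : G) * a = j * a * (lift (c : Q) : G) := by
            rw [mul_assoc, Subgroup.mem_centralizer_singleton_iff.1 (lift (c : Q)).2, ← mul_assoc]
          rw [mul_inv_eq_iff_eq_mul, ← this, e, mul_assoc, h.aa, mul_one],
          h.π_mul j hj a h.a_mem, h.π_a, add_zero]
    · intro x hx y hy
      obtain ⟨j, hj, e⟩ := h.exists_of_Jq hq hx
      obtain ⟨k, hk, e'⟩ := h.exists_of_Jq hq hy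
      rw [hπU x j hj e, hπU y k hk e', hπU (x * y) (j * k) (mul_mem hj hk) ?_, h.π_mul j hj k hk]
      show q (⟨j, h.J_le_cent_a hj⟩ * ⟨k, h.J_le_cent_a hk⟩) = (x : Q) * (y : Q)
      rw [map_mul, e]
      exact congrArg _ e'
    · intro v
      obtain ⟨j, hj, rfl⟩ := h.π_surj v
      exact ⟨⟨q ⟨j, h.J_le_cent_a hj⟩, hJU ((h.mem_Jq hq).2 hj)⟩, (h.mem_Jq hq).2 hj, hπU _ j hj rfl⟩
    · intro x hx
      obtain ⟨j, hj, e⟩ := h.exists_of_Jq hq hx
      change q _ = (x : Q) at e
      rw [hπU x j hj e, h.π_ker j hj]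
      constructor
      · rintro (r | r | r | r)
        · refine Or.inl (Subtype.ext ?_); rw [← e, (hq.ker _).2 (Or.inl r)]; rfl
        · refine Or.inr (Subtype.ext ?_); rw [← e]; exact congrArg q (Subtype.ext r)
        · refine Or.inl (Subtype.ext ?_); rw [← e, (hq.ker _).2 (Or.inr r)]; rfl
        · refine Or.inr (Subtype.ext ?_)
          rw [← e]
          exact hq.eq_iff.2 (Or.inr (show z = j * a by rw [r, mul_assoc, h.aa, mul_one]))
      · rintro (r | r)
        · rw [r] at e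
          rcases (hq.ker _).1 e with u | u
          · exact Or.inl u
          · exact Or.inr (Or.inr (Or.inl u))
        · rw [r] at e
          rcases hq.eq_iff.1 e with u | u
          · exact Or.inr (Or.inl u.symm)
          · refine Or.inr (Or.inr (Or.inr ?_))
            show j = z * a
            rw [show z = j * a from u, mul_assoc, h.aa, mul_one]
    · intro x hx
      obtain ⟨j, hj, e⟩ := h.exists_of_Jq hq hx
      change q _ = (x : Q) at e
      rw [hπU x j hj e]
      have hsq : (((x * x : ↥U)) : Q) = q ⟨j * j, mul_mem (h.J_le_cent_a hj) (h.J_le_cent_a hj)⟩ := by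
        show (x : Q) * (x : Q) = q (⟨j, h.J_le_cent_a hj⟩ * ⟨j, h.J_le_cent_a hj⟩)
        rw [map_mul, e]
      constructor
      · intro hq0
        refine Subtype.ext ?_
        rw [hsq, (hq.ker _).2 (Or.inl (show j * j = 1 by rw [h.sq j hj, if_pos hq0]))]
        rfl
      · intro hx1
        by_contra hne
        rw [hx1] at hsq
        rcases (hq.ker _).1 hsq.symm with u | u <;> change j * j = _ at u <;> rw [h.sq j hj, if_neg hne] at u
        · exact ne_one_of_order_two h.ord_z u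
        · exact h.ne u.symm
    · intro c x hx
      obtain ⟨j, hj, e⟩ := h.exists_of_Jq hq hx
      let cl : ↥(Subgroup.centralizer ({z} : Set G)) := ⟨_, hliftz c⟩
      have hcj := h.norm _ (Subgroup.mem_centralizer_singleton_iff.1 cl.2) j hj
      rw [hπU x j hj e, hπU ((c : ↥U) * x * (c : ↥U)⁻¹) _ hcj ?_, show ψU c = ψ cl from rfl, h.act cl j hj]
      show q (lift _ * ⟨j, h.J_le_cent_a hj⟩ * (lift _)⁻¹) = _
      rw [map_mul, map_mul, map_inv, hlift, e]
      rfl
  -- a member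
  obtain ⟨w, hw⟩ : ∃ w, Member zU w := by
    by_contra hni
    have hiso : Cfsg.IsIsolatedInvolution zU :=
      ⟨(orderOf_injective U.subtype U.subtype_injective zU).symm.trans (h.ord_zq hq), fun g hg => by
        by_contra hne
        exact hni ⟨_, isConj_iff.2 ⟨g, rfl⟩, hg.eq.symm, hne⟩⟩
    have hsup := CfsgLib.Recognition.USixTwoOuter.sup_oddCore_eq_top hiso
    haveI : (Cfsg.oddCore ↥U).Normal := CfsgLib.Involution.ZStar.oddCore_normal
    rcases IsSimpleGroup.eq_bot_or_eq_top_of_normal (Cfsg.oddCore ↥U) inferInstance with e | e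
    · rw [e, sup_bot_eq] at hsup
      rw [hrTG, h.outer.model.card, hsup, Subgroup.card_top, hcard] at hcard_r
      norm_num at hcard_r
    · have := CfsgLib.Involution.ZStar.odd_card_oddCore (G := ↥U)
      rw [e, Subgroup.card_top, hcard] at this
      exact absurd this (by decide)
  obtain ⟨t, ht, htψ⟩ := hcore.exists_member ⟨w, hw⟩ v0_facts.1 v0_facts.2
  obtain ⟨x, hx⟩ := isConj_iff.1 ht.1
  set u := lift (x : Q) with hu
  have hqy : q (u * ⟨z, h.z_mem_cent⟩ * u⁻¹) = (t : Q) := by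
    rw [map_mul, map_mul, map_inv, hu, hlift, ← hx]; rfl
  have hy : (u : G) * z * (u : G)⁻¹ * z = z * ((u : G) * z * (u : G)⁻¹) :=
    h.comm_of_comm_q hq (x := u * ⟨z, h.z_mem_cent⟩ * u⁻¹) (by rw [hqy]; exact congrArg Subtype.val ht.2.1)
  let yc : ↥(Subgroup.centralizer ({z} : Set G)) := ⟨_, Subgroup.mem_centralizer_singleton_iff.2 hy⟩
  have hyψ : ψ yc = tv v0 := by
    rw [← htψ]
    exact (hψU (cz ht.2.1) yc (u * ⟨z, h.z_mem_cent⟩ * u⁻¹).2 hqy).symm
  have hya : (yc : G) * a = a * yc := Subgroup.mem_centralizer_singleton_iff.1 (u * ⟨z, h.z_mem_cent⟩ * u⁻¹).2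
  have hout : Out z a J yc := ⟨hya, by
    show (u : G) * z * (u : G)⁻¹ * ((u : G) * z * (u : G)⁻¹) = 1
    rw [show (u : G) * z * (u : G)⁻¹ * ((u : G) * z * (u : G)⁻¹) = (u : G) * (z * z) * (u : G)⁻¹ by group, h.zz]
    group, fun e => tv_ne_one v0_facts.1 v0_facts.2 (hyψ.symm.trans ((h.ker yc).2 e))⟩
  refine ⟨u, Subgroup.mem_centralizer_singleton_iff.1 u.2, hy, hyψ, ?_⟩
  obtain ⟨i, hi⟩ := exists_tvP v0_facts.1 v0_facts.2
  haveI : Fintype ↥J := Fintype.ofFinite _
  let f : ↥J → Q := fun j => q (⟨(j : G), h.J_le_cent_a j.2⟩ * (u * ⟨z, h.z_mem_cent⟩ * u⁻¹) *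
    (⟨(j : G), h.J_le_cent_a j.2⟩)⁻¹)
  have hfib : ∀ b ∈ Finset.univ.image f, (Finset.univ.filter fun j => f j = b).card ≤
      Nat.card ↥(J ⊓ Subgroup.centralizer ({(yc : G)} : Set G)) := by
    intro b hb
    obtain ⟨j₀, -, rfl⟩ := Finset.mem_image.1 hb
    rw [← Fintype.card_coe, ← Nat.card_eq_fintype_card]
    refine Nat.card_le_card_of_injective (fun j => (⟨(j₀ : G)⁻¹ * (j.1 : G),
      show (j₀ : G)⁻¹ * (j.1 : G) ∈ J from mul_mem (inv_mem j₀.2) j.1.2, ?_⟩ :
        ↥(J ⊓ Subgroup.centralizer ({(yc : G)} : Set G))))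
      fun j k e => Subtype.ext (Subtype.ext (mul_left_cancel (congrArg Subtype.val e :)))
    refine Subgroup.mem_centralizer_singleton_iff.2 ?_
    set m := (j₀ : G)⁻¹ * (j.1 : G) with hm
    have hmJ : m ∈ J := mul_mem (inv_mem j₀.2) j.1.2
    have e := hq.eq_iff.1 (Finset.mem_filter.1 j.2).2
    simp only [Subgroup.coe_mul, Subgroup.coe_inv] at e
    set y := (u : G) * z * (u : G)⁻¹ with hydef
    have hmy : m * y * m⁻¹ = y ∨ m * y * m⁻¹ = y * a := by
      rcases e with e | e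
      · left
        rw [hm, show (j₀ : G)⁻¹ * (j.1 : G) * y * ((j₀ : G)⁻¹ * (j.1 : G))⁻¹ =
          (j₀ : G)⁻¹ * ((j.1 : G) * y * (j.1 : G)⁻¹) * (j₀ : G) by group, ← e]
        group
      · right
        calc m * y * m⁻¹ = (j₀ : G)⁻¹ * ((j.1 : G) * y * (j.1 : G)⁻¹ * a * a) * (j₀ : G) := by
              rw [mul_assoc _ a a, h.aa, hm]; group
          _ = (j₀ : G)⁻¹ * ((j₀ : G) * y * (j₀ : G)⁻¹ * a) * (j₀ : G) := by rw [← e]
          _ = (j₀ : G)⁻¹ * ((j₀ : G) * y * (a * (j₀ : G)⁻¹)) * (j₀ : G) := by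
              rw [mul_assoc ((j₀ : G) * y), (h.a_cent _ (inv_mem j₀.2)).symm]
          _ = _ := by group
    rcases hmy with hc | hc
    · exact mul_inv_eq_iff_eq_mul.1 hc
    · exfalso
      have hyi : y⁻¹ = y := inv_eq_of_mul_eq_one_right hout.sq
      have e1 : y * m * y⁻¹ = a * m := by
        calc y * m * y⁻¹ = y * m * y := by rw [hyi]
          _ = y * (m * y * m⁻¹) * m := by group
          _ = a * m := by rw [hc, ← mul_assoc y y a, show y * y = 1 from hout.sq, one_mul]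
      have hfix : tv v0 (π m) = π m := by
        rw [← hyψ, ← h.act yc m hmJ, show (yc : G) * m * (yc : G)⁻¹ = a * m from e1, h.π_mul a h.a_mem m hmJ, h.π_a, zero_add]
      rcases h.tv_commutator hout v0_facts.1 v0_facts.2 hyψ hmJ hfix with e2 | e2 <;>
        rw [show (yc : G) * m * (yc : G)⁻¹ = a * m from e1] at e2
      · exact ne_one_of_order_two h.ord_a (mul_eq_right.1 e2)
      · rw [h.z_cent m hmJ] at e2
        exact h.ne (mul_right_cancel e2)
  have himg : (Finset.univ.image f).card ≤ 4 := by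
    have h4 := hcore.fibre_card ⟨w, hw⟩ i
    let T : Finset Q := ((Set.toFinite {s : ↥U | hcore.At s i}).toFinset).image Subtype.val
    have hT : T.card ≤ 4 := by
      refine Finset.card_image_le.trans ?_
      rw [← Set.ncard_eq_toFinset_card _ (Set.toFinite _), h4]
    refine (Finset.card_le_card ?_).trans hT
    intro b hb
    obtain ⟨j, -, rfl⟩ := Finset.mem_image.1 hb
    have hjU : q ⟨(j : G), h.J_le_cent_a j.2⟩ ∈ U := hJU ((h.mem_Jq hq).2 j.2)
    let jc : ↥(Subgroup.centralizer ({zU} : Set ↥U)) := ⟨⟨_, hjU⟩, Subgroup.mem_centralizer_singleton_iff.2 (Subtype.ext (by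
      show q _ * q _ = q _ * q _
      rw [← map_mul, ← map_mul]
      exact congrArg q (Subtype.ext (h.z_cent _ j.2))))⟩
    obtain ⟨hm', hψ'⟩ := hcore.member_conj jc ht
    refine Finset.mem_image.2 ⟨_, (Set.Finite.mem_toFinset _).2 ⟨hm', ?_⟩, ?_⟩
    · rw [hψ' hm'.2.1, (hkerU jc).2 ((h.mem_Jq hq).2 j.2), htψ, hi]; group
    · show (((jc : ↥U) * t * (jc : ↥U)⁻¹ : ↥U) : Q) = f j
      simp only [f]
      rw [map_mul q, map_mul q, map_inv q, hqy]
      rfl
  have h1 := Finset.card_le_mul_card_image Finset.univ _ hfib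
  rw [Finset.card_univ, ← Nat.card_eq_fintype_card, h.card_J] at h1
  show 256 ≤ Nat.card ↥(J ⊓ Subgroup.centralizer ({(yc : G)} : Set G))
  nlinarith

end Setting

end CfsgLib.Recognition.USixCentral
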