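import Cfsg.Agent.Lib.Recognition.USixCentral.Apply
import Cfsg.Agent.Lib.Recognition.USixCentral.Plane.Coords
import Cfsg.Agent.Lib.Recognition.USixCentral.Plane.Aut40

/-!
# The centraliser of `a` modulo `a` as a configuration over the group of forty points

The subgroup `K` of the centraliser of `z` is the preimage of the inner automorphisms; it centralises `a`.
-/

set_option autoImplicit false
set_option maxRecDepth 100000
set_option linter.unusedSectionVars false
set_option linter.style.haveILetI false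

namespace CfsgLib.Recognition.USixCentral

open CfsgLib.Recognition.USixTwoOuter (P40 K40 coreTwo)
open scoped commutatorElement

variable {G : Type*} [Group G] [Finite G]

/-- A product of a group of order two and an extraspecial group has squares in the centre of the latter. -/
theorem sq_of_product {z : G} (A E : Subgroup ↥(Subgroup.centralizer ({z} : Set G)))
    (hAE : Cfsg.IsInternalDirectProduct A E (Cfsg.pCore 2 ↥(Subgroup.centralizer ({z} : Set G))))
    (hA : Nat.card ↥A = 2) (hE : Cfsg.IsExtraspecial 2 ↥E)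
    (zc : ↥(Subgroup.centralizer ({z} : Set G))) (hzc : (zc : G) = z) (hz : orderOf z = 2)
    (hJ' : ⁅(Cfsg.pCore 2 ↥(Subgroup.centralizer ({z} : Set G))), (Cfsg.pCore 2 ↥(Subgroup.centralizer ({z} : Set G)))⁆ = Subgroup.zpowers zc) :
    ∀ j ∈ coreTwo z, j * j = 1 ∨ j * j = z := by
  haveI : Fact (Nat.Prime 2) := ⟨Nat.prime_two⟩
  obtain ⟨hAP, hEP, hAEc, -, hsup⟩ := hAE
  obtain ⟨w, hw⟩ := CfsgLib.ThreeTransp.Extraspecial.exists_extra hE
  have hzz : zc * zc = 1 := Subtype.ext (by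
    show (zc : G) * zc = 1
    rw [hzc]; exact mul_self_of_order_two hz)
  have hwz : w = zc := by
    have h1 : w ∈ (Subgroup.center ↥E).map E.subtype := hw.center_eq ▸ Subgroup.mem_zpowers w
    rw [← hE.1.2.2, Subgroup.map_subtype_commutator] at h1
    have h2 := Subgroup.commutator_mono hEP hEP h1
    rw [hJ', CfsgLib.ThreeTransp.Extraspecial.mem_zpowers_involution hzz] at h2
    exact h2.resolve_left hw.z_ne
  rintro j ⟨c, hc, rfl⟩
  have h1 : c ∈ A ⊔ E := hsup.symm ▸ hc
  have h2 : A ≤ Subgroup.normalizer (E : Set ↥(Subgroup.centralizer ({z} : Set G))) :=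
    fun x hx => Subgroup.mem_normalizer_fintype fun y hy => by
      rw [hAEc x hx y hy, mul_inv_cancel_right]; exact hy
  rw [← SetLike.mem_coe, Subgroup.coe_mul_of_left_le_normalizer_right A E h2] at h1
  obtain ⟨x, hx, y, hy, rfl⟩ := Set.mem_mul.1 h1
  have hxx : x * x = 1 := by
    have h3 : (⟨x, hx⟩ : ↥A) ^ Nat.card ↥A = 1 := pow_card_eq_one'
    rw [hA, pow_two] at h3
    exact congrArg Subtype.val h3
  have e : x * y * (x * y) = y * y := by
    calc x * y * (x * y) = x * (y * x) * y := by group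
      _ = x * (x * y) * y := by rw [hAEc x hx y hy]
      _ = (x * x) * (y * y) := by group
      _ = y * y := by rw [hxx, one_mul]
  rcases hw.sq_cases hy with e' | e'
  · exact Or.inl (congrArg Subtype.val (e.trans e'))
  · exact Or.inr ((congrArg Subtype.val (e.trans (e'.trans hwz))).trans hzc)

variable {F : Type*} [Field F] [Fintype F]

namespace Twin

variable {z a : G} {J : Subgroup G} {φ : ↥(Subgroup.centralizer ({z} : Set G)) →* MulAut (Cfsg.PSp 2 F)}
  (t : Twin z a J φ)
include t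

/-- The roles of `a` and `z * a` may be exchanged. -/
theorem swap : Twin z (z * a) J φ where
  ord_z := t.ord_z
  ord_a := order_two (by
    calc z * a * (z * a) = z * (a * z) * a := by group
      _ = (z * z) * (a * a) := by rw [t.za]; group
      _ = 1 := by rw [t.zz, t.aa, one_mul]) t.za_ne_one
  ne e := ne_one_of_order_two t.ord_a (mul_eq_left.1 e)
  card_J := t.card_J
  z_mem := t.z_mem
  a_mem := mul_mem t.z_mem t.a_mem
  z_cent := t.z_cent
  a_cent j hj := by rw [← mul_assoc, t.z_cent j hj, mul_assoc, t.a_cent j hj, ← mul_assoc]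
  comm := t.comm
  centre j hj hc := by
    rcases t.centre j hj hc with e | e | e | e
    · exact Or.inl e
    · exact Or.inr (Or.inl e)
    · exact Or.inr (Or.inr (Or.inr (by rw [e, ← mul_assoc, t.zz, one_mul])))
    · exact Or.inr (Or.inr (Or.inl e))
  cent_le := t.cent_le
  surj := t.surj
  ker := t.ker

variable {Q : Type*} [Group Q] [Finite Q] {q : ↥(Subgroup.centralizer ({a} : Set G)) →* Q} (hq : Onto a q)

/-- The preimage of the inner automorphisms. -/
def innK (_t : Twin z a J φ) : Subgroup G :=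
  ((Cfsg.Inn (Cfsg.PSp 2 F)).comap φ).map (Subgroup.centralizer ({z} : Set G)).subtype

theorem mem_innK (c : ↥(Subgroup.centralizer ({z} : Set G))) :
    (c : G) ∈ t.innK ↔ φ c ∈ Cfsg.Inn (Cfsg.PSp 2 F) :=
  (Subgroup.mem_map_iff_mem (Subgroup.subtype_injective _)).trans Subgroup.mem_comap

theorem innK_z {k : G} (hk : k ∈ t.innK) : k * z = z * k := by
  obtain ⟨c, -, rfl⟩ := hk
  exact Subgroup.mem_centralizer_singleton_iff.1 c.2

theorem innK_a (hF : Fintype.card F = 3) {k : G} (hk : k ∈ t.innK) : k * a = a * k := by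
  obtain ⟨c, hc, rfl⟩ := hk
  obtain ⟨d, hd, e⟩ := t.inn_le_Fix hF (Subgroup.mem_comap.1 hc)
  have hj : (d : G)⁻¹ * c ∈ J := (t.ker (d⁻¹ * c)).1 (by rw [map_mul, map_inv, e, inv_mul_cancel])
  exact Subgroup.mem_centralizer_singleton_iff.1
    (show (c : G) ∈ Subgroup.centralizer ({a} : Set G) from by
      rw [show (c : G) = (d : G) * ((d : G)⁻¹ * c) by group]
      exact mul_mem (mem_cent_of (mem_Fix.1 hd)) (t.J_le_cent_a hj))

theorem J_le_innK : J ≤ t.innK := fun j hj => (t.mem_innK ⟨j, t.le_cent hj⟩).2 (by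
  rw [(t.ker ⟨j, t.le_cent hj⟩).2 hj]; exact one_mem _)

include hq

/-- The image of `J` is the two-core of the centraliser in the quotient. -/
theorem image_eq_core (hF : Fintype.card F = 3) :
    (J.subgroupOf (Subgroup.centralizer ({a} : Set G))).map q = coreTwo (t.zb q) := by
  obtain ⟨-, -, hc, -, -, -⟩ := t.quot_hyps hq hF
  set C := Subgroup.centralizer ({t.zb q} : Set Q) with hC
  set Jq := (J.subgroupOf (Subgroup.centralizer ({a} : Set G))).map q with hJq
  haveI : Fact (Nat.Prime 2) := ⟨Nat.prime_two⟩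
  have hle : Jq ≤ C := by
    rintro _ ⟨x, hx, rfl⟩
    refine Subgroup.mem_centralizer_singleton_iff.2 ?_
    rw [zb, ← map_mul, ← map_mul]
    exact congrArg q (Subtype.ext (t.z_cent _ hx))
  have hn : (Jq.subgroupOf C).Normal := ⟨fun y hy c => by
    obtain ⟨x, hx⟩ := hq.surj (c : Q)
    have hcz := Subgroup.mem_centralizer_singleton_iff.1 c.2
    rw [← hx] at hcz
    obtain ⟨j, hj, ej⟩ := Subgroup.mem_subgroupOf.1 hy
    refine Subgroup.mem_subgroupOf.2 ⟨x * j * x⁻¹, t.norm (t.comm_zb hq hF hcz) hj, ?_⟩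
    show q (x * j * x⁻¹) = (c : Q) * (y : Q) * (c : Q)⁻¹
    rw [map_mul, map_mul, map_inv, hx, ej]⟩
  have h2 : IsPGroup 2 ↥(Jq.subgroupOf C) :=
    ((((IsPGroup.of_card (p := 2) (n := 10) (by rw [t.card_J]; rfl) : IsPGroup 2 ↥J).comap_of_injective _
      (Subgroup.subtype_injective _)).map q)).comap_of_injective _ (Subgroup.subtype_injective _)
  have hcore : Jq.subgroupOf C ≤ Cfsg.pCore 2 ↥C := le_sSup ⟨hn, h2⟩
  have hcard : Nat.card Jq = 512 := by
    set f := q.comp (J.subgroupOf (Subgroup.centralizer ({a} : Set G))).subtype with hf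
    have h1 := f.ker.card_mul_index
    have hk : Nat.card f.ker = 2 := by
      have hs : ({1, a} : Set G).ncard = 2 := Set.ncard_pair (ne_one_of_order_two t.ord_a).symm
      refine Eq.trans ?_ hs
      rw [← Nat.card_coe_set_eq]
      refine Nat.card_congr ⟨fun x => ⟨((x.1.1 : ↥(Subgroup.centralizer ({a} : Set G))) : G), (hq.ker _).1 x.2⟩,
        fun c => ⟨⟨⟨c.1, ?_⟩, ?_⟩, ?_⟩, fun x => rfl, fun c => rfl⟩
      · rcases c.2 with e | e <;> rw [show c.1 = _ from e]
        · exact one_mem _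
        · exact mem_cent_of rfl
      · rcases c.2 with e | e <;> (show c.1 ∈ J; rw [show c.1 = _ from e])
        · exact one_mem _
        · exact t.a_mem
      · exact (hq.ker _).2 c.2
    have hr : f.range = Jq := by
      rw [hf, MonoidHom.range_comp, Subgroup.range_subtype]
    rw [Subgroup.index_ker, hr, hk, Nat.card_congr (Subgroup.subgroupOfEquivOfLe t.J_le_cent_a).toEquiv,
      t.card_J] at h1
    omega
  have heq : Jq.subgroupOf C = Cfsg.pCore 2 ↥C := Subgroup.eq_of_le_of_card_ge hcore (by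
    rw [Nat.card_congr (Subgroup.subgroupOfEquivOfLe hle).toEquiv, hcard, hc]; norm_num)
  show Jq = (Cfsg.pCore 2 ↥C).map C.subtype
  rw [← heq, Subgroup.map_subgroupOf_eq_of_le hle]

/-- The configuration modulo `a`. -/
theorem exists_innQuot (hF : Fintype.card F = 3) (hsq : ∀ j ∈ J, j * j = 1 ∨ j * j = z) :
    ∃ (Kq : Subgroup Q) (φq : ↥Kq →* P40),
      Plane.Quot z a J t.innK q (coreTwo (t.zb q)) Kq (t.zb q) φq := by
  obtain ⟨hord, hE, hc, hW, -, -⟩ := t.quot_hyps hq hF
  obtain ⟨j40⟩ := CfsgLib.Recognition.USixTwoOuter.exists_iso40 hF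
  set K := t.innK with hK
  have hKa : K ≤ Subgroup.centralizer ({a} : Set G) := fun k hk => mem_cent_of (t.innK_a hF hk)
  have hKz : ∀ k ∈ K, k * z = z * k := fun k hk => t.innK_z hk
  set Kq := (K.subgroupOf (Subgroup.centralizer ({a} : Set G))).map q with hKq
  let cj := MonoidHom.ofInjective (CfsgLib.KnownC.AutPSp.conj_injective_psp (F := F) (m := 2) (by norm_num))
  let ρ : ↥K →* ↥(Cfsg.Inn (Cfsg.PSp 2 F)) :=
    (φ.comp ({ toFun := fun k => ⟨(k : G), mem_cent_of (hKz k k.2)⟩
               map_one' := rfl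
               map_mul' := fun _ _ => rfl } : ↥K →* ↥(Subgroup.centralizer ({z} : Set G)))).codRestrict _
      fun k => (t.mem_innK ⟨(k : G), mem_cent_of (hKz k k.2)⟩).1 k.2
  have hρ : Function.Surjective ρ := fun v => by
    obtain ⟨c, hc'⟩ := t.surj (v : MulAut (Cfsg.PSp 2 F))
    exact ⟨⟨c, (t.mem_innK c).2 (hc' ▸ v.2)⟩, Subtype.ext hc'⟩
  let ρ40 : ↥K →* P40 := K40.subtype.comp ((cj.symm.trans j40).toMonoidHom.comp ρ)
  have hρ40 : ∀ k : ↥K, ρ40 k = 1 ↔ (k : G) ∈ J := fun k => by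
    refine Iff.trans ?_ (t.ker ⟨(k : G), mem_cent_of (hKz k k.2)⟩)
    show K40.subtype ((cj.symm.trans j40) (ρ k)) = 1 ↔ _
    rw [← map_one K40.subtype, K40.subtype_injective.eq_iff, (cj.symm.trans j40).map_eq_one_iff]
    exact ⟨fun h => congrArg Subtype.val h, fun h => Subtype.ext h⟩
  have hρr : ρ40.range = K40 := le_antisymm
    (by rintro _ ⟨k, rfl⟩; exact Subtype.coe_prop _)
    (fun p hp => by
      obtain ⟨k, hk⟩ := (cj.symm.trans j40).surjective.comp hρ ⟨p, hp⟩
      exact ⟨k, congrArg Subtype.val hk⟩)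
  let qK : ↥K →* ↥Kq :=
    { toFun := fun k => ⟨q ⟨k, hKa k.2⟩, ⟨⟨k, hKa k.2⟩, k.2, rfl⟩⟩
      map_one' := Subtype.ext (map_one q)
      map_mul' := fun k l => Subtype.ext (map_mul q ⟨(k : G), hKa k.2⟩ ⟨(l : G), hKa l.2⟩) }
  have hqK : Function.Surjective qK := by
    rintro ⟨_, x, hx, rfl⟩
    exact ⟨⟨x, hx⟩, rfl⟩
  have hle : qK.ker ≤ ρ40.ker := fun k hk => (hρ40 k).2 (by
    rcases (hq.ker _).1 (congrArg Subtype.val (MonoidHom.mem_ker.1 hk)) with e | e <;> change (k : G) = _ at e <;>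
      rw [e]
    · exact one_mem _
    · exact t.a_mem)
  set φq := qK.liftOfSurjective hqK ⟨ρ40, hle⟩ with hφq
  have hφqk : ∀ k, φq (qK k) = ρ40 k := fun k => MonoidHom.liftOfRightInverse_comp_apply _ _ _ _ k
  have hlift : ∀ x : ↥(Subgroup.centralizer ({a} : Set G)), q x * t.zb q = t.zb q * q x → (x : G) * z = z * x :=
    fun x hx => t.comm_zb hq hF hx
  have hcore := t.image_eq_core hq hF
  have hmemJ : ∀ k : ↥K, ((qK k : ↥Kq) : Q) ∈ coreTwo (t.zb q) ↔ (k : G) ∈ J := fun k => by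
    rw [← hcore]
    constructor
    · rintro ⟨y, hy, e⟩
      rcases hq.eq_iff.1 e with e' | e' <;> change (k : G) = _ at e' <;> rw [e']
      · exact hy
      · exact mul_mem hy t.a_mem
    · exact fun hk => ⟨_, hk, rfl⟩
  have hKC : Kq ≤ Subgroup.centralizer ({t.zb q} : Set Q) := by
    rintro _ ⟨x, hx, rfl⟩
    refine Subgroup.mem_centralizer_singleton_iff.2 ?_
    rw [zb, ← map_mul, ← map_mul]
    exact congrArg q (Subtype.ext (hKz _ hx))
  have hJK : coreTwo (t.zb q) ≤ Kq := hcore ▸ Subgroup.map_mono fun x hx => t.J_le_innK hx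
  refine ⟨Kq, φq,
    { ord_z := t.ord_z, ord_a := t.ord_a, ne := t.ne, z_mem := t.z_mem, a_mem := t.a_mem, card_J := t.card_J
      J_z := t.z_cent, J_a := t.a_cent, comm := t.comm, sq := hsq
      centre := fun j hj hc' => t.centre j hj hc'
      cent_le := t.cent_le, norm := fun c hc' j hj => t.norm hc' hj
      K_z := hKz, K_a := fun k hk => t.innK_a hF hk, J_K := t.J_le_innK
      K_norm := ?_, K_par := ?_, K_faith := ?_
      onto := hq
      zb_def := fun x hx => congrArg q (Subtype.ext hx)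
      Jq_def := hcore.symm, Kq_def := rfl, lift := hlift
      hyp := CfsgLib.Recognition.USixTwoOuter.hyp_of_core (t.zb q) hord hE hc hW Kq hKC hJK φq ?_ ?_ }⟩
  · intro c hc' k hk
    set c' : ↥(Subgroup.centralizer ({z} : Set G)) := ⟨c, mem_cent_of hc'⟩
    refine (t.mem_innK (c' * ⟨k, mem_cent_of (hKz k hk)⟩ * c'⁻¹)).2 ?_
    rw [map_mul, map_mul, map_inv]
    exact (Cfsg.innNormal _).conj_mem _ ((t.mem_innK ⟨k, mem_cent_of (hKz k hk)⟩).1 hk) _
  · intro c d hc' hd hcK hdK
    refine (t.mem_innK (⟨c, mem_cent_of hc'⟩ * ⟨d, mem_cent_of hd⟩)).2 ?_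
    rw [map_mul]
    have h2 : (Cfsg.Inn (Cfsg.PSp 2 F)).index = 2 := by
      haveI : Finite (MulAut (Cfsg.PSp 2 F)) :=
        Nat.finite_of_card_ne_zero (by rw [(CfsgLib.Recognition.USixTwoOuter.card_aut_psp_three hF).2]; norm_num)
      have h1 := (Cfsg.Inn (Cfsg.PSp 2 F)).card_mul_index
      rw [CfsgLib.KnownC.AutPSp.card_inn (F := F) (m := 2) (by norm_num),
        (CfsgLib.Recognition.USixTwoOuter.card_aut_psp_three hF).1,
        (CfsgLib.Recognition.USixTwoOuter.card_aut_psp_three hF).2] at h1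
      omega
    exact (Subgroup.mul_mem_iff_of_index_two h2).2 (iff_of_false
      (fun e => hcK ((t.mem_innK ⟨c, mem_cent_of hc'⟩).2 e)) (fun e => hdK ((t.mem_innK ⟨d, mem_cent_of hd⟩).2 e)))
  · intro c hc' hk
    set c' : ↥(Subgroup.centralizer ({z} : Set G)) := ⟨c, mem_cent_of hc'⟩
    refine (t.ker c').1 (MulEquiv.ext fun s => ?_)
    obtain ⟨k, hks⟩ := t.surj (MulAut.conj s)
    have hkK : (k : G) ∈ K := (t.mem_innK k).2 ⟨s, hks.symm⟩
    have h1 : φ (c' * k * c'⁻¹ * k⁻¹) = 1 := (t.ker _).2 (hk k hkK)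
    rw [map_mul, map_mul, map_mul, map_inv, map_inv, hks, mul_inv_eq_one] at h1
    refine CfsgLib.KnownC.AutPSp.conj_injective_psp (F := F) (m := 2) (by norm_num) ?_
    refine Eq.trans ?_ h1
    ext u
    simp
  · rw [← hρr]
    refine le_antisymm ?_ ?_
    · rintro _ ⟨v, rfl⟩
      obtain ⟨k, rfl⟩ := hqK v
      exact ⟨k, (hφqk k).symm⟩
    · rintro _ ⟨k, rfl⟩
      exact ⟨qK k, hφqk k⟩
  · intro v
    obtain ⟨k, rfl⟩ := hqK v
    rw [hφqk, hρ40, hmemJ]

omit hq in
/-- No quaternion group with an independent central involution acts faithfully. -/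
theorem no_q8 (hF : Fintype.card F = 3) : ∀ c d u : G, c * z = z * c → d * z = z * d → u * z = z * u → c * c = d * d →
    d * c * d⁻¹ = c⁻¹ → c * c ∉ J → c * c * (c * c) = 1 → u * u = 1 → u ∉ J → c * c * u ∉ J → u * c = c * u →
    u * d = d * u → False := by
  intro c d u hc hd hu hcd hconj hcJ hc4 hu2 huJ hcuJ huc hud
  set c' : ↥(Subgroup.centralizer ({z} : Set G)) := ⟨c, mem_cent_of hc⟩
  set d' : ↥(Subgroup.centralizer ({z} : Set G)) := ⟨d, mem_cent_of hd⟩
  set u' : ↥(Subgroup.centralizer ({z} : Set G)) := ⟨u, mem_cent_of hu⟩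
  refine Plane.aut_no_q8 hF (φ c') (φ d') (φ u') ?_ ?_ ?_ ?_ ?_ ?_ ?_ ?_ ?_
  · rw [← map_mul, ← map_mul]; exact congrArg φ (Subtype.ext hcd)
  · rw [← map_inv, ← map_inv, ← map_mul, ← map_mul]; exact congrArg φ (Subtype.ext hconj)
  · rw [← map_mul, Ne, t.ker]; exact hcJ
  · rw [← map_mul, ← map_mul]
    exact (congrArg φ (show c' * c' * (c' * c') = 1 from Subtype.ext hc4)).trans (map_one φ)
  · rw [← map_mul]
    exact (congrArg φ (show u' * u' = 1 from Subtype.ext hu2)).trans (map_one φ)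
  · rw [Ne, t.ker]; exact huJ
  · rw [← map_mul, ← map_mul, Ne, t.ker]; exact hcuJ
  · rw [← map_mul, ← map_mul]; exact congrArg φ (Subtype.ext huc)
  · rw [← map_mul, ← map_mul]; exact congrArg φ (Subtype.ext hud)

end Twin

end CfsgLib.Recognition.USixCentral
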